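import Cfsg.Agent.Lib.Transfer.Frobenius
import Cfsg.Agent.Lib.SmallGroups.Sylow

/-!
A non-abelian simple group has no normal `p`-complement; Frobenius' theorem in contrapositive form.
-/

set_option autoImplicit false

namespace Cfsg.Agent.Lib.Classif

open Cfsg

variable {G : Type*} [Group G] [Finite G] {p : ℕ} [Fact p.Prime]

theorem not_hasNormalPComplement [IsSimpleGroup G] (hG : ¬ IsMulCommutative G)
    (hp : p ∣ Nat.card G) : ¬ HasNormalPComplement p G := by
  rintro ⟨P, N, hN, hc⟩
  rcases hN.eq_bot_or_eq_top with h | h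
  · -- `G` would be a `p`-group
    rw [h, Subgroup.isComplement'_bot_left] at hc
    have hP := P.isPGroup'
    rw [hc] at hP
    have hGp : IsPGroup p G := hP.of_equiv Subgroup.topEquiv
    haveI := hGp.isNilpotent
    exact hG (IsMulCommutative.of_comm (IsSimpleGroup.comm_iff_isSolvable.mpr inferInstance))
  · rw [h, Subgroup.isComplement'_top_left] at hc
    have := P.not_dvd_index
    rw [hc, Subgroup.index_bot] at this
    exact this hp

/-- Some `p`-subgroup of a non-abelian simple group has an automorphism of prime order `q ≠ p`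
induced by the group, with `q` dividing the group order. -/
theorem exists_prime_automorphism [IsSimpleGroup G] (hG : ¬ IsMulCommutative G)
    (hp : p ∣ Nat.card G) :
    ∃ Q : Subgroup G, IsPGroup p Q ∧ Q ≠ ⊥ ∧ ∃ q : ℕ, q.Prime ∧ q ≠ p ∧ q ∣ Nat.card G ∧
      ∃ φ : MulAut Q, orderOf φ = q := by
  by_contra hcon
  push Not at hcon
  refine not_hasNormalPComplement hG hp
    (Cfsg.Agent.Lib.Transfer.Frobenius.hasNormalPComplement_of_forall_centralizes fun Q hQ hQ1 g hg hgp => ?_)
  set φ := Q.normalizerMonoidHom ⟨g, hg⟩ with hφ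
  by_contra hgc
  have hφ1 : orderOf φ ≠ 1 := by
    intro h1
    rw [orderOf_eq_one_iff, hφ, ← MonoidHom.mem_ker, Subgroup.normalizerMonoidHom_ker] at h1
    exact hgc h1
  obtain ⟨q, hq, hqd⟩ := Nat.exists_prime_and_dvd hφ1
  have hdvd : orderOf φ ∣ orderOf g := by
    refine (orderOf_map_dvd Q.normalizerMonoidHom ⟨g, hg⟩).trans ?_
    rw [Subgroup.orderOf_mk]
  refine hcon Q hQ hQ1 q hq ?_ ((hqd.trans hdvd).trans (orderOf_dvd_natCard g))
    (φ ^ (orderOf φ / q)) (orderOf_pow_orderOf_div (orderOf_pos φ).ne' hqd)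
  rintro rfl
  exact hq.ne_one (Nat.eq_one_of_dvd_coprimes hgp (hqd.trans hdvd) dvd_rfl)

end Cfsg.Agent.Lib.Classif
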