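import Cfsg.Agent.Lib.Classif.SimpleComplement
import Cfsg.Agent.Lib.SmallGroups.Counting
import Cfsg.Agent.Lib.Induced.Burnside
import Cfsg.Agent.S0499

/-!
A sieve for orders of non-abelian simple groups below `1225`: `excluded n = true` implies that no
non-abelian simple group has order `n`.  The criteria are Burnside's two-prime theorem, the
divisibility by 12, 16 or 56 in even order, Sylow congruences with the permutation bound,
`N(P)/C(P)` for Sylow subgroups of prime order, and counting elements of prime order.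
-/

set_option autoImplicit false

namespace Cfsg.Agent.Lib.Classif.OrderSieve

/-- A primality test valid below `1225`. -/
def isP (p : ℕ) : Bool :=
  decide (2 ≤ p) && decide (p < 1225) &&
    (List.range 35).all fun d => decide (d < 2) || decide (p ≤ d) || decide (p % d ≠ 0)

theorem prime_of_isP {p : ℕ} (h : isP p = true) : p.Prime := by
  simp only [isP, Bool.and_eq_true, Bool.or_eq_true, decide_eq_true_eq, List.all_eq_true,
    List.mem_range] at h
  obtain ⟨⟨h2, hlt⟩, hall⟩ := h
  rw [Nat.prime_def_le_sqrt]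
  refine ⟨h2, fun m hm hms hdvd => ?_⟩
  have hm35 : Nat.sqrt p < 35 := Nat.sqrt_lt.mpr (by omega)
  have hmp : m < p := lt_of_le_of_lt hms (Nat.sqrt_lt_self (by omega))
  rcases hall m (by omega) with (h' | h') | h'
  · omega
  · omega
  · exact h' (Nat.dvd_iff_mod_eq_zero.mp hdvd)

/-- Multiplicity of `d` in `n` (bounded). -/
def mult (n d : ℕ) : ℕ := (List.range 11).countP fun i => decide (n % d ^ (i + 1) = 0)

/-- A proposed factorisation `(p, a, m)` with `n = p ^ a * m`. Nothing is assumed about it. -/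
def entries (n : ℕ) : List (ℕ × ℕ × ℕ) :=
  let small := ([2, 3, 5, 7, 11, 13, 17, 19, 23, 29, 31] : List ℕ).filterMap fun d =>
    if n % d = 0 then some (d, mult n d, n / d ^ mult n d) else none
  let r := n / small.foldl (fun s e => s * e.1 ^ e.2.1) 1
  if r ≤ 1 then small else small ++ [(r, 1, n / r)]

/-- Checks a proposed factorisation. -/
def valid (n : ℕ) (L : List (ℕ × ℕ × ℕ)) : Bool :=
  (L.all fun e => isP e.1 && decide (e.2.1 ≠ 0) && decide (n = e.1 ^ e.2.1 * e.2.2) &&
    decide (e.2.2 % e.1 ≠ 0) && decide (e.2.2 ≠ 1)) && decide (L.map Prod.fst).Nodup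

/-- `n` has at most two prime divisors. -/
def twoP (n : ℕ) : List (ℕ × ℕ × ℕ) → Bool
  | [] => decide (n = 1)
  | [(p, a, _)] => isP p && decide (n = p ^ a)
  | [(p, a, _), (q, b, _)] => isP p && isP q && decide (n = p ^ a * q ^ b)
  | _ => false

/-- Even, not divisible by 12, 16 or 56. -/
def evenBad (n : ℕ) : Bool :=
  decide (n % 2 = 0) && decide (n % 12 ≠ 0) && decide (n % 16 ≠ 0) && decide (n % 56 ≠ 0)

/-- Some `e > 1` may be `|N(P)/C(P)|` for a Sylow subgroup of order `p` with `d` conjugates. -/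
def normFactor (n p d : ℕ) : Bool :=
  (List.range p).any fun e => decide (2 ≤ e) && decide ((p - 1) % e = 0) &&
    decide (n / d % (p * e) = 0)

/-- When `n_p ≢ 1 (mod p²)`, two Sylow subgroups meet in index `p`, and the normaliser of the
intersection is a proper subgroup with more than `p` Sylow subgroups. -/
def interCond (n p a m d : ℕ) : Bool :=
  decide (a < 2) || decide (d % p ^ 2 = 1) ||
    (List.range m).any fun m' => decide (m % m' = 0) &&
      ((List.range (m' + 1)).any fun d' =>
        decide (m' % d' = 0) && decide (d' % p = 1) && decide (p < d')) &&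
      (decide (40 ≤ m / m') || decide ((m / m').factorial % (2 * n) = 0))

/-- Admissible numbers of Sylow `p`-subgroups. -/
def adm (n p a m : ℕ) : List ℕ :=
  (List.range (m + 1)).filter fun d =>
    decide (m % d = 0) && decide (d % p = 1) && decide (d ≠ 1) &&
      (decide (40 ≤ d) || decide (d.factorial % (2 * n) = 0)) &&
      (decide (a ≠ 1) || normFactor n p d) && interCond n p a m d

/-- All choices of Sylow numbers. -/
def combos (n : ℕ) : List (ℕ × ℕ × ℕ) → List (List (ℕ × ℕ × ℕ))
  | [] => [[]]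
  | (p, a, m) :: r => (adm n p a m).flatMap fun d => (combos n r).map ((p, a, d) :: ·)

/-- Number of elements of the prime orders `p` whose Sylow subgroup has order `p`. -/
def primeCount (c : List (ℕ × ℕ × ℕ)) : ℕ :=
  ((c.filter fun e => decide (e.2.1 = 1)).map fun e => e.2.2 * (e.1 - 1)).sum

/-- Conditions linking the Sylow numbers of different primes. -/
def okCombo (n : ℕ) (c : List (ℕ × ℕ × ℕ)) : Bool :=
  (c.all fun e => c.all fun f =>
    decide (e.2.1 ≠ 1) || decide (e.1 = 2) || decide (f.2.2 < e.1) || decide (2 * e.1 ≤ f.2.2) ||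
      decide (e.1 * (e.1 - 1) * (f.2.2 - e.1).factorial % (2 * (n / e.2.2)) = 0)) &&
  decide (primeCount c < n) &&
  (c.all fun e => decide (e.2.1 ≤ 1) || decide (primeCount c + e.1 ^ e.2.1 < n))

/-- No non-abelian simple group has order `n`. -/
def excluded (n : ℕ) : Bool :=
  let L := entries n
  twoP n L || evenBad n || (valid n L && (combos n L).all fun c => !okCombo n c)

section Soundness

variable {G : Type*} [Group G] [Finite G]

/-- A non-abelian simple group has at least three prime divisors (Burnside). -/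
theorem card_ne_two_primes [IsSimpleGroup G] (hG : ¬ IsMulCommutative G) (p q a b : ℕ)
    (hp : p.Prime) (hq : q.Prime) : Nat.card G ≠ p ^ a * q ^ b := fun h => by
  haveI := Cfsg.Agent.Lib.Induced.Burnside.isSolvable_of_card_eq p q a b hp hq h
  exact hG (IsMulCommutative.of_comm (IsSimpleGroup.comm_iff_isSolvable.mpr inferInstance))

theorem mem_interCond [IsSimpleGroup G] (hG : ¬ IsMulCommutative G) {p a m : ℕ} [Fact p.Prime]
    (h : Nat.card G = p ^ a * m) (hm : ¬ p ∣ m) :
    interCond (Nat.card G) p a m (Nat.card (Sylow p G)) = true := by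
  classical
  have hp : p.Prime := Fact.out
  simp only [interCond, Bool.or_eq_true, Bool.and_eq_true, decide_eq_true_eq, List.any_eq_true,
    List.mem_range]
  by_cases ha : a < 2
  · exact Or.inl (Or.inl ha)
  by_cases hmod : Nat.card (Sylow p G) % p ^ 2 = 1
  · exact Or.inl (Or.inr hmod)
  right
  obtain ⟨P, R, hPR, j, hj0, hj2, hcard⟩ :=
    Cfsg.Agent.Lib.SmallGroups.Counting.exists_card_inf_mul (p := p) (G := G) 2 (by
      intro h'
      apply hmod
      rw [Nat.ModEq] at h'
      rw [h', Nat.mod_eq_of_lt (Nat.one_lt_pow (by omega) hp.one_lt)])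
  obtain rfl : j = 1 := by omega
  rw [pow_one] at hcard
  set D := (P : Subgroup G) ⊓ (R : Subgroup G) with hD
  have hDP := Cfsg.Agent.Lib.SmallGroups.Sylow.card_sylow_eq P h hm
  obtain ⟨-, -, m', d', hN, hd', hdp, hpd, hpm⟩ :=
    Cfsg.Agent.Lib.SmallGroups.Counting.normalizer_inf_of_index_prime P R hPR hcard
  rw [← hD, hDP] at hN
  set N := Subgroup.normalizer (D : Set G) with hNdef
  have hNtop : N ≠ ⊤ := by
    intro htop
    rcases (Subgroup.normalizer_eq_top_iff.mp htop).eq_bot_or_eq_top with h' | h'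
    · rw [h', Subgroup.card_bot, hDP, one_mul] at hcard
      have : p ^ 2 ≤ p ^ a := Nat.pow_le_pow_right hp.pos (by omega)
      rw [← hcard, pow_two] at this
      have := hp.two_le
      nlinarith
    · have h1 : (P : Subgroup G) = D := le_antisymm (h'.symm ▸ le_top) inf_le_left
      rw [← h1] at hcard
      have := hp.two_le
      have : 0 < Nat.card (P : Subgroup G) := Nat.card_pos
      nlinarith
  have hk := Cfsg.Agent.Lib.SmallGroups.Sylow.two_mul_card_dvd_factorial hG hNtop
  have hidx : m' * N.index = m := by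
    have h1 := N.card_mul_index
    rw [hN, h, mul_assoc] at h1
    exact Nat.eq_of_mul_eq_mul_left (pow_pos hp.pos a) h1
  have hm0 : 0 < m := Nat.pos_of_ne_zero fun h0 => hm (h0 ▸ dvd_zero p)
  have hm'0 : 0 < m' := Nat.pos_of_ne_zero fun h0 => by rw [h0, zero_mul] at hidx; omega
  have hi1 : 1 < N.index := by
    have h1 : N.index ≠ 1 := fun h' => hNtop (Subgroup.index_eq_one.mp h')
    have h2 : N.index ≠ 0 := Subgroup.index_ne_zero_of_finite
    omega
  refine ⟨m', by nlinarith, ⟨Nat.dvd_iff_mod_eq_zero.mp (Dvd.intro _ hidx),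
    d', Nat.lt_succ_of_le (Nat.le_of_dvd hm'0 hd'),
    ⟨Nat.dvd_iff_mod_eq_zero.mp hd', hdp⟩, hpd⟩, Or.inr ?_⟩
  rw [← hidx, Nat.mul_div_cancel_left _ hm'0]
  exact Nat.dvd_iff_mod_eq_zero.mp hk

theorem mem_adm [IsSimpleGroup G] (hG : ¬ IsMulCommutative G) {p a m : ℕ} [Fact p.Prime]
    (h : Nat.card G = p ^ a * m) (hm : ¬ p ∣ m) (ha : a ≠ 0) (hm1 : m ≠ 1) :
    Nat.card (Sylow p G) ∈ adm (Nat.card G) p a m := by
  have hp : p.Prime := Fact.out
  have hne := Cfsg.Agent.Lib.SmallGroups.Sylow.card_sylow_ne_one h hm ha hm1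
  have hdvd := Cfsg.Agent.Lib.SmallGroups.Sylow.card_sylow_dvd h hm
  have hm0 : 0 < m := Nat.pos_of_ne_zero fun h0 => hm (h0 ▸ dvd_zero p)
  simp only [adm, List.mem_filter, List.mem_range, Bool.and_eq_true, Bool.or_eq_true,
    decide_eq_true_eq]
  refine ⟨by have := Nat.le_of_dvd hm0 hdvd; omega, ⟨⟨⟨⟨Nat.dvd_iff_mod_eq_zero.mp hdvd,
    Cfsg.Agent.Lib.SmallGroups.Sylow.card_sylow_mod⟩, hne⟩, Or.inr (Nat.dvd_iff_mod_eq_zero.mp
      (Cfsg.Agent.Lib.SmallGroups.Sylow.two_mul_card_dvd_sylow_factorial hG hne))⟩, ?_⟩,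
      mem_interCond hG h hm⟩
  by_cases ha1 : a = 1
  · right
    subst ha1
    let P : Sylow p G := default
    have hP : Nat.card (P : Subgroup G) = p := by
      rw [Cfsg.Agent.Lib.SmallGroups.Sylow.card_sylow_eq P h hm, pow_one]
    obtain ⟨e, c, he, he1, hpc, -, hce⟩ :=
      Cfsg.Agent.Lib.SmallGroups.Sylow.exists_normalizer_factor hG P hP
    have hN := Cfsg.Agent.Lib.SmallGroups.Sylow.card_normalizer_mul P
    simp only [normFactor, List.any_eq_true, List.mem_range, Bool.and_eq_true, decide_eq_true_eq]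
    refine ⟨e, ?_, ⟨by omega, Nat.dvd_iff_mod_eq_zero.mp he⟩, ?_⟩
    · have := Nat.le_of_dvd (by have := hp.two_le; omega) he
      omega
    · rw [← Nat.dvd_iff_mod_eq_zero, ← hN, Nat.mul_div_cancel _ Nat.card_pos, ← hce]
      exact Nat.mul_dvd_mul hpc dvd_rfl
  · exact Or.inl ha1

variable (G) in
/-- The actual Sylow numbers. -/
noncomputable def actual (L : List (ℕ × ℕ × ℕ)) : List (ℕ × ℕ × ℕ) :=
  L.map fun e => (e.1, e.2.1, Nat.card (Sylow e.1 G))

theorem actual_mem_combos [IsSimpleGroup G] (hG : ¬ IsMulCommutative G) :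
    ∀ L : List (ℕ × ℕ × ℕ), (∀ e ∈ L, e.1.Prime ∧ e.2.1 ≠ 0 ∧ Nat.card G = e.1 ^ e.2.1 * e.2.2 ∧
      ¬ e.1 ∣ e.2.2 ∧ e.2.2 ≠ 1) → actual G L ∈ combos (Nat.card G) L
  | [], _ => by simp [actual, combos]
  | (p, a, m) :: r, h => by
    obtain ⟨hp, ha, hc, hm, hm1⟩ := h (p, a, m) List.mem_cons_self
    haveI : Fact p.Prime := ⟨hp⟩
    simp only [actual, List.map_cons, combos, List.mem_flatMap, List.mem_map]
    exact ⟨_, mem_adm hG hc hm ha hm1, _,
      actual_mem_combos hG r (fun e he => h e (List.mem_cons_of_mem _ he)), rfl⟩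

theorem card_orderOf_of_entry {p m : ℕ} (hp : p.Prime) (h : Nat.card G = p ^ 1 * m)
    (hm : ¬ p ∣ m) : Nat.card {g : G // orderOf g = p} = Nat.card (Sylow p G) * (p - 1) := by
  haveI : Fact p.Prime := ⟨hp⟩
  exact Cfsg.Agent.Lib.SmallGroups.Counting.card_orderOf_eq_prime fun P => by
    rw [Cfsg.Agent.Lib.SmallGroups.Sylow.card_sylow_eq P h hm, pow_one]

/-- The count of prime-order elements, and a disjoint set. -/
theorem primeCount_add_le {L : List (ℕ × ℕ × ℕ)}
    (hL : ∀ e ∈ L, e.1.Prime ∧ Nat.card G = e.1 ^ e.2.1 * e.2.2 ∧ ¬ e.1 ∣ e.2.2)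
    (hnd : (L.map Prod.fst).Nodup) (T : Finset G)
    (hT : ∀ g ∈ T, ∀ e ∈ L, e.2.1 = 1 → orderOf g ≠ e.1) :
    primeCount (actual G L) + T.card ≤ Nat.card G := by
  classical
  haveI : Fintype G := Fintype.ofFinite G
  set ps : List ℕ := (L.filter fun e => decide (e.2.1 = 1)).map Prod.fst with hps
  have hndps : ps.Nodup := hnd.sublist (List.filter_sublist.map _)
  have hsum : primeCount (actual G L) =
      ∑ p ∈ ps.toFinset, (Finset.univ.filter fun g : G => orderOf g = p).card := by
    rw [List.sum_toFinset _ hndps, hps, List.map_map]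
    simp only [primeCount, actual, List.filter_map, List.map_map]
    congr 1
    refine List.map_congr_left fun e he => ?_
    simp only [List.mem_filter, Function.comp_apply, decide_eq_true_eq] at he
    obtain ⟨hp, hc, hm⟩ := hL e he.1
    rw [he.2] at hc
    simp only [Function.comp_apply]
    rw [← card_orderOf_of_entry hp hc hm, Nat.card_eq_fintype_card, Fintype.card_subtype]
  have hdisj : (ps.toFinset : Set ℕ).PairwiseDisjoint
      fun p => Finset.univ.filter fun g : G => orderOf g = p := by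
    intro p _ q _ hpq
    simp only [Function.onFun, Finset.disjoint_left, Finset.mem_filter]
    exact fun g hg hg' => hpq (hg.2.symm.trans hg'.2)
  rw [hsum, ← Finset.card_biUnion hdisj, ← Finset.card_union_of_disjoint,
    Nat.card_eq_fintype_card]
  · exact Finset.card_le_univ _
  · rw [Finset.disjoint_left]
    intro g hg hgT
    simp only [Finset.mem_biUnion, List.mem_toFinset, Finset.mem_filter] at hg
    obtain ⟨p, hp, -, hgp⟩ := hg
    simp only [hps, List.mem_map, List.mem_filter, decide_eq_true_eq] at hp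
    obtain ⟨e, ⟨he, he1⟩, rfl⟩ := hp
    exact hT g hgT e he he1 hgp

theorem okCombo_actual [IsSimpleGroup G] (hG : ¬ IsMulCommutative G) {L : List (ℕ × ℕ × ℕ)}
    (hL : ∀ e ∈ L, e.1.Prime ∧ e.2.1 ≠ 0 ∧ Nat.card G = e.1 ^ e.2.1 * e.2.2 ∧
      ¬ e.1 ∣ e.2.2 ∧ e.2.2 ≠ 1) (hnd : (L.map Prod.fst).Nodup) :
    okCombo (Nat.card G) (actual G L) = true := by
  classical
  haveI : Fintype G := Fintype.ofFinite G
  have hL' : ∀ e ∈ L, e.1.Prime ∧ Nat.card G = e.1 ^ e.2.1 * e.2.2 ∧ ¬ e.1 ∣ e.2.2 :=
    fun e he => ⟨(hL e he).1, (hL e he).2.2.1, (hL e he).2.2.2.1⟩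
  simp only [okCombo, Bool.and_eq_true, Bool.or_eq_true, decide_eq_true_eq, List.all_eq_true]
  refine ⟨⟨?_, ?_⟩, ?_⟩
  · intro e he f hf
    simp only [actual, List.mem_map] at he hf
    obtain ⟨e, heL, rfl⟩ := he
    obtain ⟨f, hfL, rfl⟩ := hf
    simp only
    by_contra hcon
    simp only [not_or, not_not, not_lt, not_le] at hcon
    obtain ⟨⟨⟨⟨ha1, hp2⟩, h1⟩, h2⟩, hndvd⟩ := hcon
    obtain ⟨hp, -, hc, hm, -⟩ := hL e heL
    obtain ⟨hq, ha', hc', hm', hm1'⟩ := hL f hfL
    haveI : Fact e.1.Prime := ⟨hp⟩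
    haveI : Fact f.1.Prime := ⟨hq⟩
    rw [ha1, pow_one] at hc
    let P : Sylow e.1 G := default
    let Q : Sylow f.1 G := default
    have hQ := Cfsg.Agent.Lib.SmallGroups.Sylow.normalizer_ne_top Q
      (Cfsg.Agent.Lib.SmallGroups.Sylow.card_sylow_ne_one hc' hm' ha' hm1')
    have key := Cfsg.Agent.Lib.SmallGroups.Counting.two_mul_normalizer_dvd hG hQ (p := e.1) hp2
      (by rw [Cfsg.Agent.Lib.SmallGroups.Sylow.index_normalizer]; exact h1)
      (by rw [Cfsg.Agent.Lib.SmallGroups.Sylow.index_normalizer]; exact h2)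
      (Dvd.intro _ hc.symm) P
    rw [Cfsg.Agent.Lib.SmallGroups.Sylow.index_normalizer] at key
    apply hndvd
    rw [← Nat.dvd_iff_mod_eq_zero, ← Cfsg.Agent.Lib.SmallGroups.Sylow.card_normalizer_mul P,
      Nat.mul_div_cancel _ Nat.card_pos]
    exact key
  · have := primeCount_add_le hL' hnd {1} (by
      intro g hg e he _ h
      rw [Finset.mem_singleton.mp hg, orderOf_one] at h
      exact (hL e he).1.ne_one h.symm)
    rw [Finset.card_singleton] at this
    omega
  · intro e he
    simp only [actual, List.mem_map] at he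
    obtain ⟨e, heL, rfl⟩ := he
    by_cases ha : e.2.1 ≤ 1
    · exact Or.inl ha
    right
    obtain ⟨hp, ha0, hc, hm, hm1⟩ := hL e heL
    haveI : Fact e.1.Prime := ⟨hp⟩
    let P : Sylow e.1 G := default
    have hne := Cfsg.Agent.Lib.SmallGroups.Sylow.card_sylow_ne_one hc hm ha0 hm1
    obtain ⟨R, hR⟩ : ∃ R : Sylow e.1 G, R ≠ P := by
      by_contra hcon
      push Not at hcon
      exact hne (Nat.card_eq_one_iff_unique.mpr
        ⟨⟨fun A B => (hcon A).trans (hcon B).symm⟩, ⟨P⟩⟩)
    obtain ⟨r, hrR, hrP⟩ : ∃ r ∈ (R : Subgroup G), r ∉ (P : Subgroup G) := by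
      by_contra hcon
      push Not at hcon
      exact hR (Sylow.ext (R.is_maximal' P.isPGroup' hcon).symm)
    have key := primeCount_add_le hL' hnd
      (insert r (Finset.univ.filter fun g => g ∈ (P : Subgroup G))) (by
        intro g hg f hf hf1 hgf
        obtain ⟨Q, hgQ⟩ : ∃ Q : Sylow e.1 G, g ∈ (Q : Subgroup G) := by
          rcases Finset.mem_insert.mp hg with rfl | hg
          · exact ⟨R, hrR⟩
          · exact ⟨P, (Finset.mem_filter.mp hg).2⟩
        obtain ⟨k, hk⟩ := IsPGroup.iff_orderOf.mp Q.isPGroup' ⟨g, hgQ⟩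
        rw [Subgroup.orderOf_mk, hgf] at hk
        have hfp := (hL f hf).1
        have hpe : f.1 = e.1 :=
          (Nat.prime_dvd_prime_iff_eq hfp hp).mp (hfp.dvd_of_dvd_pow (dvd_of_eq hk))
        obtain ⟨i, hi, rfl⟩ := List.getElem_of_mem hf
        obtain ⟨j, hj, rfl⟩ := List.getElem_of_mem heL
        have hij : i = j :=
          (List.Nodup.getElem_inj_iff hnd (hi := by simpa using hi) (hj := by simpa using hj)).mp
            (by simpa using hpe)
        subst hij
        omega)
    rw [Finset.card_insert_of_notMem (by simp [hrP]), ← Fintype.card_subtype,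
      ← Nat.card_eq_fintype_card] at key
    rw [Cfsg.Agent.Lib.SmallGroups.Sylow.card_sylow_eq P hc hm] at key
    show primeCount (actual G L) + e.1 ^ e.2.1 < Nat.card G
    omega

/-- Soundness of the sieve. -/
theorem not_excluded [IsSimpleGroup G] (hG : ¬ IsMulCommutative G) :
    excluded (Nat.card G) = false := by
  rw [Bool.eq_false_iff]
  intro h
  simp only [excluded, Bool.or_eq_true, Bool.and_eq_true] at h
  rcases h with (h | h) | ⟨hv, h⟩
  · generalize entries (Nat.card G) = L at h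
    match L, h with
    | [], h =>
      exact card_ne_two_primes hG 2 3 0 0 Nat.prime_two Nat.prime_three
        (by simpa [twoP] using h)
    | [(p, a, _)], h =>
      simp only [twoP, Bool.and_eq_true, decide_eq_true_eq] at h
      exact card_ne_two_primes hG p 2 a 0 (prime_of_isP h.1) Nat.prime_two (by simpa using h.2)
    | [(p, a, _), (q, b, _)], h =>
      simp only [twoP, Bool.and_eq_true, decide_eq_true_eq] at h
      exact card_ne_two_primes hG p q a b (prime_of_isP h.1.1) (prime_of_isP h.1.2) h.2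
  · simp only [evenBad, Bool.and_eq_true, decide_eq_true_eq] at h
    obtain ⟨⟨⟨h2, h12⟩, h16⟩, h56⟩ := h
    rcases Cfsg.Agent.S0499.result hG (Nat.even_iff.mpr h2) with h | h | h <;>
      omega
  · simp only [valid, Bool.and_eq_true, decide_eq_true_eq, List.all_eq_true] at hv
    have hL : ∀ e ∈ entries (Nat.card G), e.1.Prime ∧ e.2.1 ≠ 0 ∧
        Nat.card G = e.1 ^ e.2.1 * e.2.2 ∧ ¬ e.1 ∣ e.2.2 ∧ e.2.2 ≠ 1 := by
      intro e he
      obtain ⟨⟨⟨⟨hp, ha⟩, hc⟩, hm⟩, hm1⟩ := hv.1 e he
      exact ⟨prime_of_isP hp, ha, hc, fun hd => hm (Nat.dvd_iff_mod_eq_zero.mp hd), hm1⟩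
    rw [List.all_eq_true] at h
    have := h _ (actual_mem_combos hG _ hL)
    rw [okCombo_actual hG hL hv.2] at this
    simp at this

end Soundness

/-- The orders up to 1092 that survive the sieve. -/
def survivors : List ℕ :=
  [60, 168, 360, 420, 504, 612, 660, 720, 756, 840, 1008, 1040, 1080, 1092]

theorem sieve_table : ∀ n, n < 1093 → excluded n = true ∨ n ∈ survivors ∨ n = 0 := by
  decide +kernel

/-- A non-abelian simple group of order at most 1092 has one of 14 orders. -/
theorem card_mem_survivors {G : Type*} [Group G] [Finite G] [IsSimpleGroup G]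
    (hG : ¬ IsMulCommutative G) (h : Nat.card G ≤ 1092) : Nat.card G ∈ survivors := by
  rcases sieve_table (Nat.card G) (by omega) with h' | h' | h'
  · rw [not_excluded hG] at h'; simp at h'
  · exact h'
  · exact absurd h' Nat.card_pos.ne'

end Cfsg.Agent.Lib.Classif.OrderSieve
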