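import Cfsg.Agent.Lib.SmallGroups.Sylow
import Cfsg.Agent.Lib.SmallGroups.Counting

/-!
The proper subgroup obtained from two Sylow subgroups meeting in index `p`.
-/

set_option autoImplicit false

namespace Cfsg.Agent.Lib.Classif

/-- If `p² ∣ |P|` and `n_p ≢ 1 (mod p²)`, there is a proper subgroup `N = N(D)`, `D` the
intersection of two Sylow subgroups, of index dividing `m` properly with more than `p` Sylow
`p`-subgroups. -/
theorem exists_intersection_normalizer {G : Type*} [Group G] [Finite G] [IsSimpleGroup G]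
    {p a m : ℕ} [Fact p.Prime] (h : Nat.card G = p ^ a * m) (hm : ¬ p ∣ m) (ha : 2 ≤ a)
    (hmod : Nat.card (Sylow p G) % p ^ 2 ≠ 1) :
    ∃ (P R : Sylow p G) (N : Subgroup G), P ≠ R ∧
      N = Subgroup.normalizer (((P : Subgroup G) ⊓ (R : Subgroup G) : Subgroup G) : Set G) ∧
      Nat.card ↥((P : Subgroup G) ⊓ (R : Subgroup G)) * p = p ^ a ∧
      (P : Subgroup G) ≤ N ∧ (R : Subgroup G) ≤ N ∧ N ≠ ⊤ ∧
      ∃ m' d : ℕ, Nat.card N = p ^ a * m' ∧ m' * N.index = m ∧ d ∣ m' ∧ d % p = 1 ∧ p < d := by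
  have hp : p.Prime := Fact.out
  obtain ⟨P, R, hPR, j, hj0, hj2, hcard⟩ :=
    Cfsg.Agent.Lib.SmallGroups.Counting.exists_card_inf_mul (p := p) (G := G) 2 (by
      intro h'
      apply hmod
      rw [Nat.ModEq] at h'
      rw [h', Nat.mod_eq_of_lt (Nat.one_lt_pow (by omega) hp.one_lt)])
  obtain rfl : j = 1 := by omega
  rw [pow_one] at hcard
  obtain ⟨h1, h2, m', d, hN, hd, hdp, hpd, -⟩ :=
    Cfsg.Agent.Lib.SmallGroups.Counting.normalizer_inf_of_index_prime P R hPR hcard
  have hP := Cfsg.Agent.Lib.SmallGroups.Sylow.card_sylow_eq P h hm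
  rw [hP] at hN
  refine ⟨P, R, _, hPR, rfl, by rw [hcard, hP], h1, h2, ?_, m', d, hN, ?_, hd, hdp, hpd⟩
  · intro htop
    rcases (Subgroup.normalizer_eq_top_iff.mp htop).eq_bot_or_eq_top with h' | h'
    · rw [h', Subgroup.card_bot, hP, one_mul] at hcard
      have h4 : p ^ 2 ≤ p ^ a := Nat.pow_le_pow_right hp.pos ha
      rw [← hcard, pow_two] at h4
      have := hp.two_le
      nlinarith
    · have h4 : (P : Subgroup G) = (P : Subgroup G) ⊓ R :=
        le_antisymm (h'.symm ▸ le_top) inf_le_left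
      rw [← h4] at hcard
      have := hp.two_le
      have : 0 < Nat.card (P : Subgroup G) := Nat.card_pos
      nlinarith
  · have h4 := (Subgroup.normalizer
      (((P : Subgroup G) ⊓ (R : Subgroup G) : Subgroup G) : Set G)).card_mul_index
    rw [hN, h, mul_assoc] at h4
    exact Nat.eq_of_mul_eq_mul_left (pow_pos hp.pos a) h4

end Cfsg.Agent.Lib.Classif
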