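import Mathlib

/-!
In a group of odd order, two conjugation maps on an elementary abelian subgroup `M`, each with
cyclic commutator image, generate a `p`-group of automorphisms (elementary form: the product
`x y⁻¹` has `p`-power order modulo the centraliser).
-/

set_option autoImplicit false

namespace Cfsg.Agent.Lib.Classif

variable {G : Type*} [Group G] {p : ℕ}

theorem zpow_eq_zpow_of_cast {a : G} (ha : a ^ p = 1) {u v : ℤ} (h : (u : ZMod p) = (v : ZMod p)) :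
    a ^ u = a ^ v := by
  obtain ⟨c, hc⟩ := (ZMod.intCast_eq_intCast_iff_dvd_sub u v p).mp h
  have hv : v = u + (p : ℤ) * c := by omega
  rw [hv, zpow_add, zpow_mul, zpow_natCast, ha, one_zpow, mul_one]

/-- An element of `p`-power order normalising a group of order `p` centralises it. -/
theorem fix_of_mem_zpowers [Fact p.Prime] {a x : G} (ha : a ^ p = 1) {k : ℕ} (hx : x ^ p ^ k = 1)
    (h : x * a * x⁻¹ * a⁻¹ ∈ Subgroup.zpowers a) : x * a * x⁻¹ = a := by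
  obtain ⟨s, hs⟩ := Subgroup.mem_zpowers_iff.mp h
  have hr : x * a * x⁻¹ = a ^ (s + 1) := by
    rw [zpow_add_one, hs]; group
  have hn : ∀ n : ℕ, x ^ n * a * (x ^ n)⁻¹ = a ^ ((s + 1) ^ n) := by
    intro n
    induction n with
    | zero => simp
    | succ n ih =>
      calc x ^ (n + 1) * a * (x ^ (n + 1))⁻¹ = x * (x ^ n * a * (x ^ n)⁻¹) * x⁻¹ := by
            rw [pow_succ']; group
        _ = (x * a * x⁻¹) ^ ((s + 1) ^ n) := by rw [ih, conj_zpow]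
        _ = a ^ ((s + 1) ^ (n + 1)) := by rw [hr, ← zpow_mul, pow_succ']
  have h1 := hn (p ^ k)
  rw [hx] at h1
  simp only [one_mul, inv_one, mul_one] at h1
  rw [hr]
  calc a ^ (s + 1) = a ^ ((s + 1) ^ p ^ k) := zpow_eq_zpow_of_cast ha (by
        push_cast; rw [ZMod.pow_card_pow])
    _ = a := h1.symm

/-- Iterating a map `m ↦ m * c` with `c` fixed. -/
theorem pow_conj_of_fixed {z m c : G} (h : z * m * z⁻¹ = m * c) (hc : z * c * z⁻¹ = c) (n : ℕ) :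
    z ^ n * m * (z ^ n)⁻¹ = m * c ^ n := by
  induction n with
  | zero => simp
  | succ n ih =>
    calc z ^ (n + 1) * m * (z ^ (n + 1))⁻¹ = z * (z ^ n * m * (z ^ n)⁻¹) * z⁻¹ := by
          rw [pow_succ']; group
      _ = z * (m * c ^ n) * z⁻¹ := by rw [ih]
      _ = (z * m * z⁻¹) * (z * c * z⁻¹) ^ n := by rw [conj_pow]; group
      _ = m * c ^ (n + 1) := by rw [h, hc, pow_succ']; group

/-- An element stabilising a series `1 ≤ ⟨b⟩ ≤ ⟨a,b⟩ ≤ M` acts on `M` with order dividing `p²`. -/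
theorem pow_sq_fix {M : Subgroup G} (hMp : ∀ m ∈ M, m ^ p = 1) {a b z : G} (ha : a ∈ M)
    (hb : b ∈ M) (hzb : z * b * z⁻¹ = b) (hza : a⁻¹ * (z * a * z⁻¹) ∈ Subgroup.zpowers b)
    (hzm : ∀ m ∈ M, m⁻¹ * (z * m * z⁻¹) ∈ Subgroup.zpowers a ⊔ Subgroup.zpowers b) :
    ∀ m ∈ M, z ^ (p * p) * m * (z ^ (p * p))⁻¹ = m := by
  set W := Subgroup.zpowers a ⊔ Subgroup.zpowers b with hW
  have hWM : W ≤ M := sup_le (Subgroup.zpowers_le.mpr ha) (Subgroup.zpowers_le.mpr hb)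
  obtain ⟨i, hi⟩ := Subgroup.mem_zpowers_iff.mp hza
  have hzbi : z * b ^ i * z⁻¹ = b ^ i := by rw [← conj_zpow, hzb]
  -- `u = z ^ p` fixes `a` and `b`
  have hua : z ^ p * a * (z ^ p)⁻¹ = a := by
    rw [pow_conj_of_fixed (c := b ^ i) (by rw [hi]; group) hzbi p,
      hMp _ (M.zpow_mem hb i), mul_one]
  have hub : z ^ p * b * (z ^ p)⁻¹ = b := by
    rw [pow_conj_of_fixed (c := 1) (by rw [mul_one]; exact hzb) (by group) p, one_pow, mul_one]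
  have hfixW : ∀ w ∈ W, z ^ p * w * (z ^ p)⁻¹ = w := by
    have : W ≤ Subgroup.centralizer ({z ^ p} : Set G) :=
      sup_le (Subgroup.zpowers_le.mpr (Subgroup.mem_centralizer_iff.mpr fun h hh => by
          rw [Set.mem_singleton_iff.mp hh]; exact mul_inv_eq_iff_eq_mul.mp hua))
        (Subgroup.zpowers_le.mpr (Subgroup.mem_centralizer_iff.mpr fun h hh => by
          rw [Set.mem_singleton_iff.mp hh]; exact mul_inv_eq_iff_eq_mul.mp hub))
    intro w hw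
    exact mul_inv_eq_iff_eq_mul.mpr (Subgroup.mem_centralizer_iff.mp (this hw) _ rfl)
  have hzW : ∀ w ∈ W, z * w * z⁻¹ ∈ W := by
    intro w hw
    have : (z * w * z⁻¹) = w * (w⁻¹ * (z * w * z⁻¹)) := by group
    rw [this]; exact W.mul_mem hw (hzm w (hWM hw))
  intro m hm
  have hstep : ∀ n : ℕ, m⁻¹ * (z ^ n * m * (z ^ n)⁻¹) ∈ W := by
    intro n
    induction n with
    | zero => simp
    | succ n ih =>
      have : m⁻¹ * (z ^ (n + 1) * m * (z ^ (n + 1))⁻¹) =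
          (m⁻¹ * (z * m * z⁻¹)) * (z * (m⁻¹ * (z ^ n * m * (z ^ n)⁻¹)) * z⁻¹) := by
        rw [pow_succ']; group
      rw [this]; exact W.mul_mem (hzm m hm) (hzW _ ih)
  set c := m⁻¹ * (z ^ p * m * (z ^ p)⁻¹) with hc
  rw [pow_mul, pow_conj_of_fixed (c := c) (by rw [hc]; group) (hfixW c (hstep p)) p,
    hMp c (hWM (hstep p)), mul_one]

/-- The main lemma. -/
theorem exists_pow_fix [Finite G] [Fact p.Prime] {M : Subgroup G} (hMp : ∀ m ∈ M, m ^ p = 1)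
    (hMc : ∀ m ∈ M, ∀ n ∈ M, m * n = n * m) (hodd : Odd (Nat.card G))
    {x y a b : G} (ha : a ∈ M) (hb : b ∈ M)
    (hxM : ∀ m ∈ M, x * m * x⁻¹ ∈ M) (hyM : ∀ m ∈ M, y * m * y⁻¹ ∈ M)
    {k l : ℕ} (hxk : x ^ p ^ k = 1) (hyl : y ^ p ^ l = 1)
    (hx : ∀ m ∈ M, x * m * x⁻¹ * m⁻¹ ∈ Subgroup.zpowers a)
    (hy : ∀ m ∈ M, y * m * y⁻¹ * m⁻¹ ∈ Subgroup.zpowers b) :
    ∀ m ∈ M, (x * y⁻¹) ^ (p * p) * m * ((x * y⁻¹) ^ (p * p))⁻¹ = m := by
  have hap : a ^ p = 1 := hMp a ha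
  have hbp : b ^ p = 1 := hMp b hb
  have hxa : x * a * x⁻¹ = a := fix_of_mem_zpowers hap hxk (hx a ha)
  have hyb : y * b * y⁻¹ = b := fix_of_mem_zpowers hbp hyl (hy b hb)
  -- the case where the first map fixes the second centre
  have case1 : ∀ {x y a b : G}, a ∈ M → b ∈ M → (∀ m ∈ M, x * m * x⁻¹ ∈ M) →
      (∀ m ∈ M, y * m * y⁻¹ ∈ M) →
      (∀ m ∈ M, x * m * x⁻¹ * m⁻¹ ∈ Subgroup.zpowers a) →
      (∀ m ∈ M, y * m * y⁻¹ * m⁻¹ ∈ Subgroup.zpowers b) →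
      x * a * x⁻¹ = a → y * b * y⁻¹ = b → x * b * x⁻¹ = b →
      ∀ m ∈ M, (x * y⁻¹) ^ (p * p) * m * ((x * y⁻¹) ^ (p * p))⁻¹ = m := by
    intro x y a b ha hb hxM hyM hx hy hxa hyb hxb
    have hyb' : y⁻¹ * b * y = b := by
      calc y⁻¹ * b * y = y⁻¹ * (y * b * y⁻¹) * y := by rw [hyb]
        _ = b := by group
    have hyinvM : ∀ m ∈ M, y⁻¹ * m * y ∈ M := by
      let f : M → M := fun m => ⟨_, hyM m.1 m.2⟩
      have hf : Function.Injective f := fun u v huv => by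
        have := congrArg Subtype.val huv
        exact Subtype.ext (by simpa [f] using this)
      intro m hm
      obtain ⟨m', hm'⟩ := (Finite.injective_iff_surjective.mp hf) ⟨m, hm⟩
      have : y⁻¹ * m * y = m'.1 := by
        have h1 : y * m'.1 * y⁻¹ = m := congrArg Subtype.val hm'
        rw [← h1]; group
      rw [this]; exact m'.2
    have hy' : ∀ m ∈ M, m⁻¹ * (y⁻¹ * m * y) ∈ Subgroup.zpowers b := by
      intro m hm
      have h := Subgroup.inv_mem _ (hy _ (hyinvM m hm))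
      have e : (y * (y⁻¹ * m * y) * y⁻¹ * (y⁻¹ * m * y)⁻¹)⁻¹ = (y⁻¹ * m * y) * m⁻¹ := by group
      rw [e, hMc _ (hyinvM m hm) _ (M.inv_mem hm)] at h
      exact h
    have hx' : ∀ m ∈ M, m⁻¹ * (x * m * x⁻¹) ∈ Subgroup.zpowers a := fun m hm => by
      rw [← hMc _ (hxM m hm) _ (M.inv_mem hm)]; exact hx m hm
    have hxB : ∀ c ∈ Subgroup.zpowers b, x * c * x⁻¹ = c := by
      intro c hc
      obtain ⟨i, rfl⟩ := Subgroup.mem_zpowers_iff.mp hc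
      rw [← conj_zpow, hxb]
    refine pow_sq_fix hMp ha hb ?_ ?_ ?_
    · calc x * y⁻¹ * b * (x * y⁻¹)⁻¹ = x * (y⁻¹ * b * y) * x⁻¹ := by group
        _ = b := by rw [hyb', hxb]
    · have : a⁻¹ * (x * y⁻¹ * a * (x * y⁻¹)⁻¹) = a⁻¹ * (y⁻¹ * a * y) := by
        calc a⁻¹ * (x * y⁻¹ * a * (x * y⁻¹)⁻¹)
            = a⁻¹ * ((x * a * x⁻¹) * (x * (a⁻¹ * (y⁻¹ * a * y)) * x⁻¹)) := by group
          _ = a⁻¹ * (y⁻¹ * a * y) := by rw [hxa, hxB _ (hy' a ha)]; group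
      rw [this]; exact hy' a ha
    · intro m hm
      have hw := hy' m hm
      have : m⁻¹ * (x * y⁻¹ * m * (x * y⁻¹)⁻¹) =
          (m⁻¹ * (x * m * x⁻¹)) * (m⁻¹ * (y⁻¹ * m * y)) := by
        calc m⁻¹ * (x * y⁻¹ * m * (x * y⁻¹)⁻¹)
            = (m⁻¹ * (x * m * x⁻¹)) * (x * (m⁻¹ * (y⁻¹ * m * y)) * x⁻¹) := by group
          _ = _ := by rw [hxB _ hw]
      rw [this]
      exact mul_mem (Subgroup.mem_sup_left (hx' m hm)) (Subgroup.mem_sup_right hw)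
  by_cases hxb : x * b * x⁻¹ = b
  · exact case1 ha hb hxM hyM hx hy hxa hyb hxb
  by_cases hya : y * a * y⁻¹ = a
  · intro m hm
    have h := case1 hb ha hyM hxM hy hx hyb hxa hya m hm
    have e : (x * y⁻¹) = (y * x⁻¹)⁻¹ := by group
    rw [e, inv_pow, inv_inv]
    calc ((y * x⁻¹) ^ (p * p))⁻¹ * m * (y * x⁻¹) ^ (p * p)
        = ((y * x⁻¹) ^ (p * p))⁻¹ * ((y * x⁻¹) ^ (p * p) * m * ((y * x⁻¹) ^ (p * p))⁻¹) *
            (y * x⁻¹) ^ (p * p) := by rw [h]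
      _ = m := by group
  exfalso
  obtain ⟨s, hs⟩ := Subgroup.mem_zpowers_iff.mp (hx b hb)
  obtain ⟨t, ht⟩ := Subgroup.mem_zpowers_iff.mp (hy a ha)
  have hxb' : x * b * x⁻¹ = b * a ^ s := by
    rw [hMc b hb _ (M.zpow_mem ha s), hs]; group
  have hya' : y * a * y⁻¹ = a * b ^ t := by
    rw [hMc a ha _ (M.zpow_mem hb t), ht]; group
  have hs0 : (s : ZMod p) ≠ 0 := fun h0 => hxb (by
    rw [hxb', zpow_eq_zpow_of_cast hap (v := 0) (by simpa using h0), zpow_zero, mul_one])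
  have ht0 : (t : ZMod p) ≠ 0 := fun h0 => hya (by
    rw [hya', zpow_eq_zpow_of_cast hbp (v := 0) (by simpa using h0), zpow_zero, mul_one])
  haveI : NeZero p := ⟨(Fact.out : p.Prime).ne_zero⟩
  set i : ℕ := ((s : ZMod p)⁻¹).val
  set j : ℕ := (-(t : ZMod p)⁻¹).val
  have hai : (a ^ s) ^ i = a := by
    rw [← zpow_natCast, ← zpow_mul]
    refine (zpow_eq_zpow_of_cast hap (v := 1) ?_).trans (zpow_one a)
    push_cast [i, ZMod.natCast_zmod_val]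
    exact mul_inv_cancel₀ hs0
  have hbj : (b ^ t) ^ j = b⁻¹ := by
    rw [← zpow_natCast, ← zpow_mul]
    refine (zpow_eq_zpow_of_cast hbp (v := -1) ?_).trans (zpow_neg_one b)
    push_cast [j, ZMod.natCast_zmod_val]
    rw [mul_neg, mul_inv_cancel₀ ht0]
  have hxas : x * a ^ s * x⁻¹ = a ^ s := by rw [← conj_zpow, hxa]
  have hybt : y * b ^ t * y⁻¹ = b ^ t := by rw [← conj_zpow, hyb]
  have X1 : x ^ i * a * (x ^ i)⁻¹ = a := by
    rw [pow_conj_of_fixed (c := 1) (by rw [mul_one]; exact hxa) (by group) i, one_pow, mul_one]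
  have X2 : x ^ i * b * (x ^ i)⁻¹ = b * a := by rw [pow_conj_of_fixed hxb' hxas i, hai]
  have Y1 : y ^ j * a * (y ^ j)⁻¹ = a * b⁻¹ := by rw [pow_conj_of_fixed hya' hybt j, hbj]
  have Y2 : y ^ j * b * (y ^ j)⁻¹ = b := by
    rw [pow_conj_of_fixed (c := 1) (by rw [mul_one]; exact hyb) (by group) j, one_pow, mul_one]
  set w := x ^ i * y ^ j * x ^ i with hw
  have hab : b * a = a * b := hMc b hb a ha
  have Wa : w * a * w⁻¹ = b⁻¹ := by
    calc w * a * w⁻¹ = x ^ i * (y ^ j * (x ^ i * a * (x ^ i)⁻¹) * (y ^ j)⁻¹) * (x ^ i)⁻¹ := by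
          rw [hw]; group
      _ = x ^ i * (a * b⁻¹) * (x ^ i)⁻¹ := by rw [X1, Y1]
      _ = (x ^ i * a * (x ^ i)⁻¹) * (x ^ i * b * (x ^ i)⁻¹)⁻¹ := by group
      _ = a * (b * a)⁻¹ := by rw [X1, X2]
      _ = b⁻¹ := by group
  have Wb : w * b * w⁻¹ = a := by
    calc w * b * w⁻¹ = x ^ i * (y ^ j * (x ^ i * b * (x ^ i)⁻¹) * (y ^ j)⁻¹) * (x ^ i)⁻¹ := by
          rw [hw]; group
      _ = x ^ i * ((y ^ j * b * (y ^ j)⁻¹) * (y ^ j * a * (y ^ j)⁻¹)) * (x ^ i)⁻¹ := by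
          rw [X2]; group
      _ = x ^ i * (b * a * b⁻¹) * (x ^ i)⁻¹ := by rw [Y1, Y2]; group
      _ = a := by rw [hab, mul_inv_cancel_right, X1]
  have W2 : w ^ 2 * a * (w ^ 2)⁻¹ = a⁻¹ := by
    calc w ^ 2 * a * (w ^ 2)⁻¹ = w * (w * a * w⁻¹) * w⁻¹ := by rw [pow_two]; group
      _ = (w * b * w⁻¹)⁻¹ := by rw [Wa]; group
      _ = a⁻¹ := by rw [Wb]
  have W4 : w ^ 4 * a * (w ^ 4)⁻¹ = a := by
    calc w ^ 4 * a * (w ^ 4)⁻¹ = w ^ 2 * (w ^ 2 * a * (w ^ 2)⁻¹) * (w ^ 2)⁻¹ := by group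
      _ = w ^ 2 * a⁻¹ * (w ^ 2)⁻¹ := by rw [W2]
      _ = (w ^ 2 * a * (w ^ 2)⁻¹)⁻¹ := by group
      _ = a := by rw [W2, inv_inv]
  have hwodd : Odd (orderOf w) := hodd.of_dvd_nat (orderOf_dvd_natCard w)
  obtain ⟨n, hn⟩ := exists_pow_eq_self_of_coprime (x := w) (n := 4)
    ((Nat.coprime_two_left.mpr hwodd).pow_left 2)
  have hfix : w * a * w⁻¹ = a := by
    have := pow_conj_of_fixed (z := w ^ 4) (m := a) (c := 1) (by rw [mul_one]; exact W4) (by group) n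
    rwa [one_pow, mul_one, hn] at this
  have hab' : a = b⁻¹ := hfix.symm.trans Wa
  apply hya
  rw [hab']
  calc y * b⁻¹ * y⁻¹ = (y * b * y⁻¹)⁻¹ := by group
    _ = b⁻¹ := by rw [hyb]

end Cfsg.Agent.Lib.Classif
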