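import Mathlib

/-!
Thompson's `P × Q` lemma, element form, with an elementary proof.
-/

set_option autoImplicit false

namespace Cfsg.Agent.Lib.Classif

open scoped commutatorElement

/-- Thompson's `P × Q` lemma: let `Q` be a `p`-subgroup normalised by the `p`-subgroup `T` and by
the element `d` of order prime to `p`, with `d` commuting with `T`. If `d` centralises `C_Q(T)`,
then it centralises `Q`. -/
theorem pTimesQ {G : Type*} [Group G] [Finite G] {p : ℕ} [Fact p.Prime] (Q T : Subgroup G) (d : G)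
    (hQ : IsPGroup p Q) (hT : IsPGroup p T) (hTQ : T ≤ Subgroup.normalizer (Q : Set G))
    (hdQ : ∀ x ∈ Q, d * x * d⁻¹ ∈ Q) (hd : (orderOf d).Coprime p)
    (hdT : ∀ t ∈ T, d * t = t * d)
    (hfix : ∀ x ∈ Q, (∀ t ∈ T, t * x = x * t) → d * x = x * d) :
    ∀ x ∈ Q, d * x = x * d := by
  classical
  set R : Subgroup G := Q ⊓ Subgroup.centralizer ({d} : Set G) with hR
  suffices h : Q ≤ R from fun x hx => (Subgroup.mem_centralizer_iff.mp (h hx).2 d rfl)
  set P : Subgroup G := T ⊔ Q with hP
  have hPp : IsPGroup p P := hT.to_sup_of_normal_right' hQ hTQ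
  obtain ⟨n, hn⟩ := hPp.isNilpotent.nilpotent'
  -- every term of the upper central series of `P`, cut with `Q`, lies in `R`
  suffices key : ∀ i, ∀ x : P, (x : G) ∈ Q → x ∈ Subgroup.upperCentralSeries P i → (x : G) ∈ R by
    intro x hx
    exact key n ⟨x, Subgroup.mem_sup_right hx⟩ hx (hn ▸ Subgroup.mem_top _)
  intro i
  induction i with
  | zero =>
    intro x _ hx
    rw [Subgroup.upperCentralSeries_zero, Subgroup.mem_bot] at hx
    rw [hx]; exact R.one_mem
  | succ i ih =>
    intro x hxQ hx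
    rw [Subgroup.mem_upperCentralSeries_succ_iff] at hx
    -- commutators of `x` with elements of `P` that normalise `Q` lie in `R`
    have hnQ : P ≤ Subgroup.normalizer (Q : Set G) := sup_le hTQ Subgroup.le_normalizer
    have hcomm : ∀ y ∈ P, ⁅(x : G), y⁆ ∈ R := by
      intro y hy
      have h1 : ⁅(x : G), y⁆ ∈ Q := by
        rw [commutatorElement_def]
        have := (Subgroup.mem_normalizer_iff.mp (hnQ hy) (x : G)⁻¹).mp (Q.inv_mem hxQ)
        have h2 := Q.mul_mem hxQ this
        simpa [mul_assoc] using h2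
      exact ih ⁅x, ⟨y, hy⟩⁆ h1 (hx ⟨y, hy⟩)
    -- conjugation by `x` preserves `R`
    have hxR : ∀ s ∈ R, (x : G) * s * (x : G)⁻¹ ∈ R := by
      intro s hs
      have := R.mul_mem (hcomm s (Subgroup.mem_sup_right hs.1)) hs
      simpa [commutatorElement_def, mul_assoc] using this
    have hdR : ∀ s ∈ R, d * s = s * d := fun s hs => Subgroup.mem_centralizer_iff.mp hs.2 d rfl
    -- `c = x⁻¹ d x d⁻¹`
    set c : G := (x : G)⁻¹ * (d * x * d⁻¹) with hc
    have hcQ : c ∈ Q := Q.mul_mem (Q.inv_mem hxQ) (hdQ _ hxQ)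
    have hcR : ∀ s ∈ R, c * s * c⁻¹ = s := by
      intro s hs
      have h1 : d * ((x : G) * s * (x : G)⁻¹) * d⁻¹ = (x : G) * s * (x : G)⁻¹ := by
        rw [hdR _ (hxR s hs)]; group
      calc c * s * c⁻¹ = (x : G)⁻¹ * (d * ((x : G) * (d⁻¹ * s * d) * (x : G)⁻¹) * d⁻¹) * x := by
            rw [hc]; group
        _ = (x : G)⁻¹ * (d * ((x : G) * s * (x : G)⁻¹) * d⁻¹) * x := by
            rw [mul_assoc d⁻¹ s d, ← hdR s hs, inv_mul_cancel_left]
        _ = s := by rw [h1]; group
    have hcT : ∀ t ∈ T, t * c = c * t := by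
      intro t ht
      set r : G := (x : G)⁻¹ * (t * x * t⁻¹) with hrdef
      have hr : r ∈ R := by
        have h1 := hcomm t (Subgroup.mem_sup_left ht)
        have h2 : (x : G)⁻¹ * ⁅(x : G), t⁆⁻¹ * x ∈ R := by
          have hinv : ∀ s ∈ R, (x : G)⁻¹ * s * x ∈ R := by
            intro s hs
            have h3 := hcomm s (Subgroup.mem_sup_right hs.1)
            -- `[x, s] ∈ R`, so `x s x⁻¹ ∈ R`; finite, so the map is onto `R`
            obtain ⟨s', hs', hs''⟩ : ∃ s' ∈ R, (x : G) * s' * (x : G)⁻¹ = s := by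
              let f : R → R := fun s => ⟨_, hxR s.1 s.2⟩
              have hf : Function.Injective f := fun a b hab => by
                apply Subtype.ext
                have := congrArg Subtype.val hab
                simpa [f] using this
              obtain ⟨a, ha⟩ := (Finite.injective_iff_surjective.mp hf) ⟨s, hs⟩
              exact ⟨a.1, a.2, congrArg Subtype.val ha⟩
            rw [← hs'']
            simpa [mul_assoc] using hs'
          exact hinv _ (R.inv_mem h1)
        have h3 : (x : G)⁻¹ * ⁅(x : G), t⁆⁻¹ * x = r := by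
          rw [hrdef, commutatorElement_def]; group
        rwa [h3] at h2
      have htd : d * t = t * d := hdT t ht
      have hrd : d * r * d⁻¹ = r := by rw [hdR r hr]; group
      have e1 : t * (x : G) * t⁻¹ = (x : G) * r := by rw [hrdef]; group
      have e2 : t * (d * x * d⁻¹) * t⁻¹ = d * x * d⁻¹ * r := by
        calc t * (d * x * d⁻¹) * t⁻¹ = (t * d) * x * (t * d)⁻¹ := by group
          _ = (d * t) * x * (d * t)⁻¹ := by rw [htd]
          _ = d * (t * x * t⁻¹) * d⁻¹ := by group
          _ = d * x * d⁻¹ * (d * r * d⁻¹) := by rw [e1]; group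
          _ = d * x * d⁻¹ * r := by rw [hrd]
      have e3 : t * c * t⁻¹ = c := by
        calc t * c * t⁻¹ = (t * (x : G) * t⁻¹)⁻¹ * (t * (d * x * d⁻¹) * t⁻¹) := by rw [hc]; group
          _ = ((x : G) * r)⁻¹ * (d * x * d⁻¹ * r) := by rw [e1, e2]
          _ = r⁻¹ * c * r := by rw [hc]; group
          _ = c := by
            have h1 : c * r = r * c := mul_inv_eq_iff_eq_mul.mp (hcR r hr)
            rw [mul_assoc, h1, inv_mul_cancel_left]
      exact mul_inv_eq_iff_eq_mul.mp e3
    have hdc : d * c = c * d := hfix c hcQ hcT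
    have hcd' : d * c * d⁻¹ = c := by rw [hdc]; group
    -- iterate: conjugating `x` by `d ^ k` multiplies it by `c ^ k`
    have hpow : ∀ k : ℕ, d ^ k * (x : G) * (d ^ k)⁻¹ = x * c ^ k := by
      intro k
      induction k with
      | zero => simp
      | succ k ihk =>
        calc d ^ (k + 1) * (x : G) * (d ^ (k + 1))⁻¹
            = d * (d ^ k * x * (d ^ k)⁻¹) * d⁻¹ := by rw [pow_succ']; group
          _ = d * (x * c ^ k) * d⁻¹ := by rw [ihk]
          _ = (d * x * d⁻¹) * (d * c ^ k * d⁻¹) := by group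
          _ = (x * c) * (d * c * d⁻¹) ^ k := by rw [conj_pow, hc]; group
          _ = x * c ^ (k + 1) := by rw [hcd', mul_assoc, ← pow_succ']
    have h1 : c ^ orderOf d = 1 := by
      have := hpow (orderOf d)
      rw [pow_orderOf_eq_one] at this
      simpa using this
    obtain ⟨j, hj⟩ := hQ.exists_orderOf_eq_pow ⟨c, hcQ⟩ |>.imp fun j hj => hj
    have h2 : orderOf c = 1 := by
      have hd1 : orderOf c ∣ orderOf d := orderOf_dvd_of_pow_eq_one h1
      have hd2 : orderOf c ∣ p ^ j := by rw [← Subgroup.orderOf_coe] at hj; exact hj ▸ dvd_rfl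
      exact Nat.eq_one_of_dvd_coprimes (hd.pow_right j) hd1 hd2
    have h3 : c = 1 := orderOf_eq_one_iff.mp h2
    refine ⟨hxQ, Subgroup.mem_centralizer_iff.mpr fun y hy => ?_⟩
    rw [Set.mem_singleton_iff.mp hy]
    have := inv_mul_eq_one.mp (hc ▸ h3 : (x : G)⁻¹ * (d * x * d⁻¹) = 1)
    exact (mul_inv_eq_iff_eq_mul.mp this.symm)

end Cfsg.Agent.Lib.Classif
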