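import Mathlib
import Cfsg.Agent.Lib.SmallGroups.Sylow
import Cfsg.Agent.Lib.Transfer.Fusion

/-!
An abelian Sylow subgroup of index two in its normaliser, in a perfect group, is inverted by the
involutions of the normaliser; orders of subgroups containing two Sylow subgroups.
-/

set_option autoImplicit false

namespace Cfsg.Agent.Lib.Classif.SmallOrderInvert

open Cfsg.Agent.Lib.SmallGroups
open scoped commutatorElement

variable {G : Type*} [Group G] [Finite G] [IsSimpleGroup G] {p : ℕ} [Fact p.Prime]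

theorem exists_inverting (hG : ¬ IsMulCommutative G) (P : Sylow p G)
    (hP : IsMulCommutative (P : Subgroup G)) (hp2 : p ≠ 2)
    (hN : Nat.card (Subgroup.normalizer ((P : Subgroup G) : Set G)) =
      2 * Nat.card (P : Subgroup G)) :
    ∃ s ∈ Subgroup.normalizer ((P : Subgroup G) : Set G), orderOf s = 2 ∧
      (∀ x ∈ (P : Subgroup G), s * x * s⁻¹ = x⁻¹) ∧
      ∀ n ∈ Subgroup.normalizer ((P : Subgroup G) : Set G),
        n ∈ (P : Subgroup G) ∨ n * s ∈ (P : Subgroup G) := by
  classical
  haveI : Fact (Nat.Prime 2) := ⟨Nat.prime_two⟩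
  set N := Subgroup.normalizer ((P : Subgroup G) : Set G) with hNdef
  obtain ⟨s₀, hs₀⟩ := exists_prime_orderOf_dvd_card' (G := N) 2 (by rw [hN]; exact dvd_mul_right 2 _)
  rw [← Subgroup.orderOf_coe] at hs₀
  set s : G := (s₀ : G) with hsdef
  have hsN : s ∈ N := s₀.2
  have hs2 : s * s = 1 := by rw [← pow_two, ← hs₀, pow_orderOf_eq_one]
  have hinv : s⁻¹ = s := inv_eq_of_mul_eq_one_right hs2
  have hsP : s ∉ (P : Subgroup G) := by
    intro hmem
    obtain ⟨k, hk⟩ := P.2.exists_card_eq
    have h1 := Subgroup.card_dvd_of_le (Subgroup.zpowers_le.mpr hmem)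
    rw [Nat.card_zpowers, hs₀, hk] at h1
    exact hp2 ((Nat.prime_dvd_prime_iff_eq Nat.prime_two Fact.out).mp
      (Nat.prime_two.dvd_of_dvd_pow h1)).symm
  have hidx : ((P : Subgroup G).subgroupOf N).index = 2 := by
    have h := Subgroup.card_mul_index ((P : Subgroup G).subgroupOf N)
    rw [Nat.card_congr (Subgroup.subgroupOfEquivOfLe Subgroup.le_normalizer).toEquiv, hN] at h
    have : 0 < Nat.card (P : Subgroup G) := Nat.card_pos
    nlinarith
  have hor : ∀ n ∈ N, n ∈ (P : Subgroup G) ∨ n * s ∈ (P : Subgroup G) := by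
    intro n hn
    by_cases h : n ∈ (P : Subgroup G)
    · exact Or.inl h
    refine Or.inr ?_
    exact Subgroup.mem_subgroupOf.mp ((Subgroup.mul_mem_iff_of_index_two hidx).mpr
      ⟨fun h' => absurd (Subgroup.mem_subgroupOf.mp h') h,
        fun h' => absurd (Subgroup.mem_subgroupOf.mp h') hsP⟩ :
        (⟨n, hn⟩ : N) * s₀ ∈ (P : Subgroup G).subgroupOf N)
  have hc : ∀ x ∈ (P : Subgroup G), ∀ y ∈ (P : Subgroup G), x * y = y * x := fun x hx y hy =>
    congrArg Subtype.val (hP.is_comm.comm ⟨x, hx⟩ ⟨y, hy⟩)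
  have hsx : ∀ x ∈ (P : Subgroup G), s * x * s ∈ (P : Subgroup G) := fun x hx => by
    have := (Subgroup.mem_normalizer_iff.mp hsN x).mp hx
    rwa [hinv] at this
  have hss : ∀ x : G, s * (s * x) = x := fun x => by rw [← mul_assoc, hs2, one_mul]
  -- the subgroup of inverted elements
  let I : Subgroup G :=
    { carrier := {x | x ∈ (P : Subgroup G) ∧ s * x * s = x⁻¹}
      one_mem' := ⟨one_mem _, by rw [mul_one, hs2, inv_one]⟩
      mul_mem' := by
        rintro a b ⟨ha, ha'⟩ ⟨hb, hb'⟩
        refine ⟨mul_mem ha hb, ?_⟩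
        calc s * (a * b) * s = (s * a * s) * (s * b * s) := by
              rw [show s * a * s * (s * b * s) = s * a * (s * (s * b)) * s by group, hss]; group
          _ = a⁻¹ * b⁻¹ := by rw [ha', hb']
          _ = (a * b)⁻¹ := by rw [mul_inv_rev, hc _ (inv_mem ha) _ (inv_mem hb)]
      inv_mem' := by
        rintro a ⟨ha, ha'⟩
        refine ⟨inv_mem ha, ?_⟩
        rw [inv_inv]
        have h1 := congrArg (·⁻¹) ha'
        simp only [mul_inv_rev, inv_inv, hinv] at h1
        rw [mul_assoc]
        exact h1 }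
  -- every commutator of the normaliser is inverted
  have hd : ∀ a ∈ (P : Subgroup G), a * (s * a * s)⁻¹ ∈ I := by
    intro a ha
    refine ⟨mul_mem ha (inv_mem (hsx a ha)), ?_⟩
    have h1 : (s * a * s)⁻¹ = s * a⁻¹ * s := by
      rw [mul_inv_rev, mul_inv_rev, hinv, mul_assoc]
    rw [mul_inv_rev a, inv_inv]
    calc s * (a * (s * a * s)⁻¹) * s = s * a * s * a⁻¹ * (s * s) := by rw [h1]; group
      _ = s * a * s * a⁻¹ := by rw [hs2, mul_one]
  have hcomm : ⁅N, N⁆ ≤ I := by
    rw [Subgroup.commutator_le]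
    intro g hg k hk
    have cross : ∀ a ∈ (P : Subgroup G), ∀ b ∈ (P : Subgroup G),
        ⁅a, b * s⁆ ∈ I := by
      intro a ha b hb
      have h : ⁅a, b * s⁆ = a * (s * a * s)⁻¹ := by
        rw [commutatorElement_def, mul_inv_rev, mul_inv_rev, mul_inv_rev, hinv]
        calc a * (b * s) * a⁻¹ * (s * b⁻¹) = a * (b * (s * a⁻¹ * s) * b⁻¹) := by group
          _ = a * (s * a⁻¹ * s) := by
            rw [hc b hb _ (hsx _ (inv_mem ha)), mul_inv_cancel_right]
          _ = a * (s * (a⁻¹ * s)) := by rw [mul_assoc s]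
      rw [h]; exact hd a ha
    rcases hor g hg with hg' | hg' <;> rcases hor k hk with hk' | hk'
    · rw [commutatorElement_def, hc g hg' k hk']
      simp
    · have : k = k * s * s := by rw [mul_assoc, hs2, mul_one]
      rw [this]; exact cross g hg' _ hk'
    · have : g = g * s * s := by rw [mul_assoc, hs2, mul_one]
      rw [this, ← commutatorElement_inv]
      exact inv_mem (cross k hk' _ hg')
    · set a := g * s
      set b := k * s
      have hge : g = a * s := by rw [mul_assoc, hs2, mul_one]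
      have hke : k = b * s := by rw [mul_assoc, hs2, mul_one]
      have h : ⁅g, k⁆ = (b * (s * b * s)⁻¹)⁻¹ * (a * (s * a * s)⁻¹) := by
        have hA := hsx a hg'
        have hB := hsx b hk'
        have h1 : ⁅g, k⁆ = a * (s * b * s) * (s * a * s)⁻¹ * b⁻¹ := by
          rw [hge, hke, commutatorElement_def]; group
        have hE : ∀ u ∈ (P : Subgroup G), ∀ v ∈ (P : Subgroup G), ∀ w ∈ (P : Subgroup G),
            ∀ x ∈ (P : Subgroup G), u * v * w * x = v * x * (u * w) := by
          intro u hu v hv w hw x hx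
          calc u * v * w * x = v * u * w * x := by rw [hc u hu v hv]
            _ = v * (u * w * x) := by group
            _ = v * (x * (u * w)) := by rw [hc _ (mul_mem hu hw) x hx]
            _ = v * x * (u * w) := by group
        rw [h1, mul_inv_rev b, inv_inv,
          hE a hg' _ hB _ (inv_mem hA) _ (inv_mem hk')]
      rw [h]; exact mul_mem (inv_mem (hd b hk')) (hd a hg')
  have hkey := Cfsg.Agent.Lib.Transfer.Fusion.commutator_inf_sylow_eq_of_controls P N
    Subgroup.le_normalizer fun x hx g hg =>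
      Cfsg.Agent.Lib.Transfer.Fusion.controls_of_isMulCommutative P hP x hx g hg
  rw [Sylow.commutator_eq_top hG, top_inf_eq] at hkey
  refine ⟨s, hsN, hs₀, fun x hx => ?_, hor⟩
  have : x ∈ ⁅N, N⁆ := (hkey ▸ hx : x ∈ ⁅N, N⁆ ⊓ (P : Subgroup G)).1
  rw [hinv]
  exact (hcomm this).2

omit [IsSimpleGroup G] in
/-- A subgroup containing two Sylow `p`-subgroups has at least `p + 1` of them. -/
theorem two_sylow_le (P R : Sylow p G) (hne : P ≠ R) (H : Subgroup G)
    (hP : (P : Subgroup G) ≤ H) (hR : (R : Subgroup G) ≤ H) :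
    p + 1 ≤ Nat.card (Sylow p H) ∧ (p + 1) * Nat.card (P : Subgroup G) ≤ Nat.card H := by
  have hp : p.Prime := Fact.out
  have hnt : Nontrivial (Sylow p H) := ⟨P.subtype hP, R.subtype hR,
    fun he => hne (_root_.Sylow.subtype_injective he)⟩
  have h1 : 1 < Nat.card (Sylow p H) := Finite.one_lt_card
  have h2 : Nat.card (Sylow p H) % p = 1 := Sylow.card_sylow_mod
  have h3 : p + 1 ≤ Nat.card (Sylow p H) := by
    by_contra hlt
    rcases Nat.lt_or_eq_of_le (show Nat.card (Sylow p H) ≤ p by omega) with h | h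
    · rw [Nat.mod_eq_of_lt h] at h2; omega
    · rw [h, Nat.mod_self] at h2; omega
  refine ⟨h3, ?_⟩
  have h4 := Sylow.card_normalizer_mul (P.subtype hP)
  have h5 : Nat.card (P : Subgroup G) ≤
      Nat.card (Subgroup.normalizer (((P.subtype hP : Sylow p H) : Subgroup H) : Set H)) := by
    rw [← Nat.card_congr (Subgroup.subgroupOfEquivOfLe hP).toEquiv]
    exact Subgroup.card_le_of_le Subgroup.le_normalizer
  calc (p + 1) * Nat.card (P : Subgroup G)
      ≤ Nat.card (Sylow p H) *
        Nat.card (Subgroup.normalizer (((P.subtype hP : Sylow p H) : Subgroup H) : Set H)) :=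
        Nat.mul_le_mul h3 h5
    _ = Nat.card H := by rw [mul_comm]; exact h4

end Cfsg.Agent.Lib.Classif.SmallOrderInvert
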