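import Mathlib
import Cfsg.Agent.Lib.SmallGroups.Sylow
import Cfsg.Agent.Lib.SmallGroups.Counting
import Cfsg.Agent.Lib.Fusion.Thompson

/-!
Tools for eliminating single orders of simple groups: parity of actions, fixed points of
elements commuting with or inverting an element of prime order, centralisers of involutions
when the Sylow 2-subgroup has order 16.
-/

set_option autoImplicit false

namespace Cfsg.Agent.Lib.Classif.SmallOrderTools

open Cfsg.Agent.Lib.SmallGroups

section Action

variable {G : Type*} [Group G] {α : Type*} [MulAction G α] [Finite α]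

/-- An action of a group without proper normal subgroup and non-abelian is by even permutations. -/
theorem sign_toPermHom_eq_one [Finite G] [IsSimpleGroup G] (hG : ¬ IsMulCommutative G)
    [Fintype α] [DecidableEq α] (g : G) : Equiv.Perm.sign (MulAction.toPermHom G α g) = 1 := by
  rcases Sylow.injective_or_trivial (Equiv.Perm.sign.comp (MulAction.toPermHom G α)) with h | h
  · exact absurd ⟨⟨fun a b => h (by rw [map_mul, map_mul, mul_comm])⟩⟩ hG
  · exact h g

/-- An involution moves a multiple of four points. -/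
theorem four_dvd_moved [Finite G] [IsSimpleGroup G] (hG : ¬ IsMulCommutative G) (t : G)
    (ht : t ^ 2 = 1) : 4 ∣ Nat.card α - Nat.card {x : α // t • x = x} := by
  classical
  have := Fintype.ofFinite α
  set σ := MulAction.toPermHom G α t with hσ
  have hpow : σ ^ 2 = 1 := by rw [hσ, ← map_pow, ht, map_one]
  have hs : Equiv.Perm.sign σ = 1 := sign_toPermHom_eq_one hG t
  have hc := Equiv.Perm.cycleType_of_pow_prime_eq_one (p := 2) hpow
  have hfix : Nat.card {x : α // t • x = x} = Fintype.card α - σ.cycleType.sum := by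
    rw [← Equiv.Perm.card_fixedPoints, ← Nat.card_eq_fintype_card]
    exact Nat.card_congr (Equiv.subtypeEquivRight fun x => Iff.rfl)
  have hsum : σ.cycleType.sum = 2 * Multiset.card σ.cycleType := by
    conv_lhs => rw [hc]
    rw [Multiset.sum_replicate, smul_eq_mul, mul_comm]
  have hle := σ.sum_cycleType_le
  rw [Equiv.Perm.sign_of_cycleType, hsum] at hs
  rcases Nat.even_or_odd (Multiset.card σ.cycleType) with ⟨k, hk⟩ | ⟨k, hk⟩
  · refine ⟨k, ?_⟩
    rw [hfix, Nat.card_eq_fintype_card]
    omega
  · exfalso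
    rw [Odd.neg_one_pow ⟨3 * k + 1, by omega⟩] at hs
    exact absurd hs (by decide)

/-- Fixed points of `t`, counted modulo `p` by an element of `p`-power order commuting with `t`. -/
theorem card_fixed_commute_modEq {p : ℕ} [Fact p.Prime] (t y : G) {n : ℕ} (hy : y ^ p ^ n = 1)
    (h : Commute t y) :
    Nat.card {x : α // t • x = x} ≡ Nat.card {x : α // t • x = x ∧ y • x = x} [MOD p] := by
  classical
  have := Fintype.ofFinite α
  let f : Function.End {x : α // t • x = x} := fun x =>
    ⟨y • x.1, by rw [smul_smul, h.eq, ← smul_smul, x.2]⟩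
  have hf : ∀ (k : ℕ) (x : {x : α // t • x = x}), ((f ^ k) x).1 = y ^ k • x.1 := by
    intro k
    induction k with
    | zero => intro x; simp; rfl
    | succ k ih =>
      intro x
      rw [pow_succ]
      show ((f ^ k) (f x)).1 = _
      rw [ih (f x), pow_succ, mul_smul]
  have hfp : f ^ p ^ n = 1 := by
    funext x
    apply Subtype.ext
    rw [hf, hy, one_smul]
    rfl
  have hmod := Equiv.Perm.card_fixedPoints_modEq hfp
  rw [← Nat.card_eq_fintype_card, ← Nat.card_eq_fintype_card] at hmod
  let e : Function.fixedPoints f ≃ {x : α // t • x = x ∧ y • x = x} :=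
    { toFun := fun x => ⟨x.1.1, x.1.2, congrArg Subtype.val x.2⟩
      invFun := fun x => ⟨⟨x.1, x.2.1⟩, Subtype.ext x.2.2⟩
      left_inv := fun x => rfl
      right_inv := fun x => rfl }
  exact Nat.card_congr e ▸ hmod

/-- `u` inverting `y` of odd prime order fixes at most one point in each non-trivial `y`-orbit. -/
theorem card_fixed_inverter_le {p : ℕ} [hp : Fact p.Prime] (hp2 : p ≠ 2) (u y : G)
    (hy : orderOf y = p) (hu : u * y * u⁻¹ = y⁻¹) :
    Nat.card {x : α // u • x = x ∧ y • x ≠ x} * p ≤ Nat.card {x : α // y • x ≠ x} := by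
  classical
  have hcomm : ∀ (k : ℕ) (x : α), y • x ≠ x → y • (y ^ k • x) ≠ y ^ k • x := by
    intro k x hx he
    apply hx
    rw [smul_smul, ← pow_succ', pow_succ, mul_smul] at he
    exact MulAction.injective (y ^ k) he
  let f : {x : α // u • x = x ∧ y • x ≠ x} × Fin p → {x : α // y • x ≠ x} :=
    fun a => ⟨y ^ (a.2 : ℕ) • a.1.1, hcomm _ _ a.1.2.2⟩
  have hinv : ∀ (k : ℕ) (x : α), u • x = x → u • (y ^ k • x) = (y ^ k)⁻¹ • x := by
    intro k x hx
    have : u * y ^ k = (y ^ k)⁻¹ * u := by
      rw [← inv_pow, ← hu, conj_pow, inv_mul_cancel_right]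
    rw [smul_smul, this, mul_smul, hx]
  have hf : Function.Injective f := by
    rintro ⟨⟨x, hx, hxy⟩, i⟩ ⟨⟨x', hx', hxy'⟩, j⟩ h
    have h' : y ^ (i : ℕ) • x = y ^ (j : ℕ) • x' := congrArg Subtype.val h
    have h2 : (y ^ (i : ℕ))⁻¹ • x = (y ^ (j : ℕ))⁻¹ • x' := by
      rw [← hinv _ x hx, ← hinv _ x' hx', h']
    have key : ∀ k : ℕ, y ^ k • x = x → p ∣ k := by
      intro k hk
      by_contra hd
      apply hxy
      have hgen : Nat.Coprime k p := ((hp.out.coprime_iff_not_dvd).mpr hd).symm
      obtain ⟨m, hm⟩ := exists_pow_eq_self_of_coprime (x := y) (n := k) (by rwa [hy])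
      have hfix : ∀ m : ℕ, (y ^ k) ^ m • x = x := by
        intro m
        induction m with
        | zero => simp
        | succ m ih => rw [pow_succ, mul_smul, hk, ih]
      conv_lhs => rw [← hm]
      exact hfix m
    -- compare the two equations
    have hx1 : x' = ((y ^ (j : ℕ))⁻¹ * y ^ (i : ℕ)) • x := by
      rw [mul_smul, h', inv_smul_smul]
    have hx2 : x' = (y ^ (j : ℕ) * (y ^ (i : ℕ))⁻¹) • x := by
      rw [mul_smul, h2, smul_inv_smul]
    have h4 : y ^ (2 * (i : ℕ)) • x = y ^ (2 * (j : ℕ)) • x := by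
      have h5 := congrArg (fun z => (y ^ (j : ℕ) * y ^ (i : ℕ)) • z) (hx1.symm.trans hx2)
      simp only [smul_smul] at h5
      have c1 : y ^ (j : ℕ) * y ^ (i : ℕ) * ((y ^ (j : ℕ))⁻¹ * y ^ (i : ℕ)) = y ^ (2 * (i : ℕ)) := by
        group
      have c2 : y ^ (j : ℕ) * y ^ (i : ℕ) * (y ^ (j : ℕ) * (y ^ (i : ℕ))⁻¹) = y ^ (2 * (j : ℕ)) := by
        group
      rwa [c1, c2] at h5
    have hle : ∀ a b : ℕ, a ≤ b → a < p → b < p → y ^ (2 * a) • x = y ^ (2 * b) • x → a = b := by
      intro a b hab ha hb he
      have : y ^ (2 * (b - a)) • x = x := by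
        rw [show 2 * b = 2 * a + 2 * (b - a) by omega, pow_add, mul_smul] at he
        exact (MulAction.injective _ he).symm
      rcases (Nat.Prime.dvd_mul hp.out).mp (key _ this) with h | h
      · exact absurd ((Nat.prime_dvd_prime_iff_eq hp.out Nat.prime_two).mp h) hp2
      · have := Nat.eq_zero_of_dvd_of_lt h (by omega)
        omega
    have hij : (i : ℕ) = j := by
      rcases le_total (i : ℕ) j with h | h
      · exact hle _ _ h i.2 j.2 h4
      · exact (hle _ _ h j.2 i.2 h4.symm).symm
    have : i = j := Fin.ext hij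
    subst this
    have : x = x' := MulAction.injective _ h'
    subst this
    rfl
  have := Nat.card_le_card_of_injective f hf
  rwa [Nat.card_prod, Nat.card_fin] at this

/-- Fibre counting over an orbit. -/
theorem card_subtype_mul_stabilizer [Finite G] [MulAction.IsPretransitive G α] (a : α)
    (q : α → Prop) :
    Nat.card {x : α // q x} * Nat.card (MulAction.stabilizer G a) =
      Nat.card {g : G // q (g • a)} := by
  classical
  choose r hr using fun x : α => MulAction.exists_smul_eq G a x
  rw [← Nat.card_prod]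
  exact Nat.card_congr
    { toFun := fun z => ⟨r z.1.1 * z.2.1, by
        rw [mul_smul, MulAction.mem_stabilizer_iff.mp z.2.2, hr]; exact z.1.2⟩
      invFun := fun g => (⟨g.1 • a, g.2⟩, ⟨(r (g.1 • a))⁻¹ * g.1, by
        rw [MulAction.mem_stabilizer_iff, mul_smul, inv_smul_eq_iff, hr]⟩)
      left_inv := by
        rintro ⟨⟨x, hx⟩, ⟨s, hs⟩⟩
        have h : (r x * s) • a = x := by
          rw [mul_smul, MulAction.mem_stabilizer_iff.mp hs, hr]
        refine Prod.ext (Subtype.ext h) (Subtype.ext ?_)
        show (r ((r x * s) • a))⁻¹ * (r x * s) = s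
        rw [h, inv_mul_cancel_left]
      right_inv := fun g => Subtype.ext (mul_inv_cancel_left _ _) }

/-- A permutation of order dividing four without fixed points, whose square fixes exactly two
points, in degree `8k+2`, is odd. -/
theorem sign_eq_neg_one_of_pow_four [Fintype α] [DecidableEq α] (σ : Equiv.Perm α) (h4 : σ ^ 4 = 1)
    (hf : ∀ x, σ x ≠ x) (a : α) (ha : σ (σ a) = a)
    (h2 : ∀ x, σ (σ x) = x → x = a ∨ x = σ a) (hn : Fintype.card α % 8 = 2) :
    Equiv.Perm.sign σ = -1 := by
  set τ := Equiv.swap a (σ a) * σ with hτ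
  have hsa : a ≠ σ a := (hf a).symm
  have happ : ∀ x, x ≠ a → x ≠ σ a → τ x = σ x := by
    intro x h1 h2'
    rw [hτ, Equiv.Perm.mul_apply]
    refine Equiv.swap_apply_of_ne_of_ne (fun h => h2' ?_) (fun h => h1 (σ.injective h))
    apply σ.injective
    rw [h, ha]
  have ta : τ a = a := by rw [hτ, Equiv.Perm.mul_apply, Equiv.swap_apply_right]
  have tb : τ (σ a) = σ a := by rw [hτ, Equiv.Perm.mul_apply, ha, Equiv.swap_apply_left]
  have hmove : ∀ x, x ≠ a → x ≠ σ a → σ x ≠ a ∧ σ x ≠ σ a := fun x h1 h2' =>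
    ⟨fun h => h2' (σ.injective (h.trans ha.symm)), fun h => h1 (σ.injective h)⟩
  have htt : ∀ x, x ≠ a → x ≠ σ a → τ (τ x) = σ (σ x) := fun x h1 h2' => by
    rw [happ x h1 h2', happ _ (hmove x h1 h2').1 (hmove x h1 h2').2]
  have h44 : τ ^ 4 = 1 := by
    ext x
    by_cases h1 : x = a
    · subst h1; simp [pow_succ, ta]
    by_cases h2' : x = σ a
    · subst h2'; simp [pow_succ, tb]
    have h5 := hmove x h1 h2'
    have h6 := hmove _ h5.1 h5.2
    have h4' : (σ ^ 4) x = x := by rw [h4]; rfl
    simp only [pow_succ, pow_zero, one_mul, Equiv.Perm.mul_apply] at h4' ⊢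
    rw [happ x h1 h2', happ _ h5.1 h5.2, happ _ h6.1 h6.2,
      happ _ (hmove _ h6.1 h6.2).1 (hmove _ h6.1 h6.2).2, h4']
    rfl
  have hparts : ∀ n ∈ τ.cycleType, n = 4 := by
    intro n hn'
    have hd : n ∣ 4 := (Equiv.Perm.dvd_of_mem_cycleType hn').trans (orderOf_dvd_of_pow_eq_one h44)
    have h2' := Equiv.Perm.two_le_of_mem_cycleType hn'
    have : n = 2 ∨ n = 4 := by
      have := Nat.le_of_dvd (by norm_num) hd
      interval_cases n <;> omega
    rcases this with rfl | rfl
    · exfalso
      obtain ⟨c, ρ, hcρ, hdisj, hcyc, hsupp⟩ := Equiv.Perm.mem_cycleType_iff.mp hn'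
      obtain ⟨x, hx⟩ := Finset.card_pos.mp (by rw [hsupp]; norm_num : 0 < c.support.card)
      have hρ : ∀ z ∈ c.support, τ z = c z := by
        intro z hz
        rw [hcρ, Equiv.Perm.mul_apply]
        congr 1
        exact (hdisj z).resolve_left (Equiv.Perm.mem_support.mp hz)
      have hc2 : c (c x) = x := by
        have h0 : c ^ 2 = 1 := by rw [← hsupp, ← hcyc.orderOf, pow_orderOf_eq_one]
        have := Equiv.Perm.congr_fun h0 x
        simpa [pow_two] using this
      have hmv : τ x ≠ x := by rw [hρ x hx]; exact Equiv.Perm.mem_support.mp hx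
      have h1 : x ≠ a := fun h => hmv (by rw [h, ta])
      have h2'' : x ≠ σ a := fun h => hmv (by rw [h, tb])
      have : τ (τ x) = x := by
        rw [hρ x hx, hρ _ (Equiv.Perm.apply_mem_support.mpr hx), hc2]
      rw [htt x h1 h2''] at this
      exact (h2 x this).elim h1 h2''
    · rfl
  have hrep := Multiset.eq_replicate_card.mpr hparts
  have hfix : Fintype.card (Function.fixedPoints τ) = 2 := by
    have he : Finset.univ.filter (fun x => τ x = x) = {a, σ a} := by
      ext x
      simp only [Finset.mem_filter, Finset.mem_univ, true_and, Finset.mem_insert,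
        Finset.mem_singleton]
      constructor
      · intro hx
        by_contra hcon
        push Not at hcon
        rw [happ x hcon.1 hcon.2] at hx
        exact hf x hx
      · rintro (rfl | rfl)
        · exact ta
        · exact tb
    rw [← Finset.card_pair hsa, ← he]
    exact Fintype.card_of_subtype _ (fun x => by simp [Function.IsFixedPt])
  rw [Equiv.Perm.card_fixedPoints, hrep, Multiset.sum_replicate, smul_eq_mul] at hfix
  have hs : Equiv.Perm.sign τ = 1 := by
    rw [Equiv.Perm.sign_of_cycleType, hrep, Multiset.sum_replicate, Multiset.card_replicate,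
      smul_eq_mul]
    exact Even.neg_one_pow (Nat.even_iff.mpr (by omega))
  rw [hτ, map_mul, Equiv.Perm.sign_swap hsa] at hs
  rcases Int.units_eq_one_or (Equiv.Perm.sign σ) with h | h
  · rw [h] at hs; exact absurd hs (by decide)
  · exact h

end Action

section Group

variable {G : Type*} [Group G] [Finite G]

/-- An element of `p`-power order fixing a Sylow `p`-subgroup under conjugation lies in it. -/
theorem mem_of_smul_eq {p : ℕ} [Fact p.Prime] (y : G) {n : ℕ} (hy : y ^ p ^ n = 1)
    (Q : Sylow p G) (h : y • Q = Q) : y ∈ Q := by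
  obtain ⟨k, -, hk⟩ := (Nat.dvd_prime_pow Fact.out).mp (orderOf_dvd_of_pow_eq_one hy)
  have hpg : IsPGroup p (Subgroup.zpowers y) :=
    IsPGroup.of_card (n := k) (by rw [Nat.card_zpowers, hk])
  have h2 := hpg.inf_normalizer_sylow Q
  have : y ∈ Subgroup.zpowers y ⊓ (Q : Subgroup G) :=
    h2 ▸ ⟨Subgroup.mem_zpowers y, Sylow.smul_eq_iff_mem_normalizer.mp h⟩
  exact this.2

/-- In a Sylow subgroup of prime order, a non-trivial element fixes no other Sylow subgroup. -/
theorem eq_of_smul_eq_of_prime {p : ℕ} [hp : Fact p.Prime] (P Q : Sylow p G)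
    (hP : Nat.card (P : Subgroup G) = p) {y : G} (hy : y ∈ P) (hy1 : y ≠ 1) (h : y • Q = Q) :
    Q = P := by
  have hyp : y ^ p ^ 1 = 1 := by
    have := orderOf_dvd_natCard (⟨y, hy⟩ : (P : Subgroup G))
    rw [hP, Subgroup.orderOf_mk] at this
    rw [pow_one]
    exact orderOf_dvd_iff_pow_eq_one.mp this
  have hQ := mem_of_smul_eq y hyp Q h
  have hz : Nat.card (Subgroup.zpowers y) = p := by
    rw [Nat.card_zpowers]
    exact orderOf_eq_prime (by simpa using hyp) hy1
  have hQc : Nat.card (Q : Subgroup G) = p := by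
    rw [Sylow.card_eq_multiplicity, ← P.card_eq_multiplicity, hP]
  exact Sylow.ext ((Subgroup.eq_of_le_of_card_ge (Subgroup.zpowers_le.mpr hQ) (by omega)).symm.trans
    (Subgroup.eq_of_le_of_card_ge (Subgroup.zpowers_le.mpr hy) (by omega)))

/-- An element centralising a Sylow subgroup of order `p` fixes `1 mod p` Sylow subgroups. -/
theorem card_fixed_sylow_mod {p : ℕ} [hp : Fact p.Prime] (P : Sylow p G)
    (hP : Nat.card (P : Subgroup G) = p) (t : G)
    (ht : t ∈ Subgroup.centralizer ((P : Subgroup G) : Set G)) :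
    Nat.card {Q : Sylow p G // t • Q = Q} % p = 1 := by
  obtain ⟨⟨y, hy⟩, hy'⟩ := exists_prime_orderOf_dvd_card' (G := (P : Subgroup G)) p (by rw [hP])
  have hyo : orderOf y = p := by simpa [Subgroup.orderOf_mk] using hy'
  have hy1 : y ≠ 1 := fun h => by rw [h, orderOf_one] at hyo; exact hp.out.ne_one hyo.symm
  have hcomm : Commute t y := (Subgroup.mem_centralizer_iff.mp ht y hy).symm
  have h := card_fixed_commute_modEq (α := Sylow p G) (p := p) t y (n := 1)
    (by rw [pow_one, ← hyo, pow_orderOf_eq_one]) hcomm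
  have htP : t • P = P := Sylow.smul_eq_iff_mem_normalizer.mpr
    (Sylow.centralizer_le_normalizer _ ht)
  have h1 : Nat.card {Q : Sylow p G // t • Q = Q ∧ y • Q = Q} = 1 := by
    rw [Nat.card_eq_one_iff_unique]
    refine ⟨⟨fun a b => Subtype.ext ?_⟩, ⟨P, htP,
      Sylow.smul_eq_iff_mem_normalizer.mpr (Subgroup.le_normalizer hy)⟩⟩
    rw [eq_of_smul_eq_of_prime P a.1 hP hy hy1 a.2.2,
      eq_of_smul_eq_of_prime P b.1 hP hy hy1 b.2.2]
  rw [h1, Nat.ModEq, Nat.mod_eq_of_lt hp.out.one_lt] at h
  exact h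

/-- Sylow subgroups of a subgroup containing a Sylow subgroup of the whole group. -/
theorem card_sylow_subgroup_mul {p : ℕ} [Fact p.Prime] (P : Sylow p G) (H : Subgroup G)
    (hPH : (P : Subgroup G) ≤ H) :
    Nat.card (Sylow p H) *
      Nat.card (Subgroup.normalizer ((P : Subgroup G) : Set G) ⊓ H : Subgroup G) = Nat.card H := by
  have h := Sylow.card_normalizer_mul (P.subtype hPH)
  rw [mul_comm] at h
  have hN : Subgroup.normalizer (((P.subtype hPH : Sylow p H) : Subgroup H) : Set H) =
      (Subgroup.normalizer ((P : Subgroup G) : Set G)).subgroupOf H :=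
    (Subgroup.subgroupOf_normalizer_eq hPH).symm
  rw [hN, ← Subgroup.inf_subgroupOf_right,
    Nat.card_congr (Subgroup.subgroupOfEquivOfLe inf_le_right).toEquiv] at h
  exact h

/-- With Sylow 2-subgroups of order 16 and no subgroup of index two, 8 divides the order of every
centraliser of an involution. -/
theorem eight_dvd_card_centralizer (S₀ : Sylow 2 G) (hS₀ : Nat.card (S₀ : Subgroup G) = 16)
    (hG : ∀ N : Subgroup G, N.index ≠ 2) (t : G) (ht : orderOf t = 2) :
    8 ∣ Nat.card (Subgroup.centralizer ({t} : Set G)) := by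
  classical
  have hpt : IsPGroup 2 (Subgroup.zpowers t) :=
    IsPGroup.of_card (n := 1) (by rw [Nat.card_zpowers, ht, pow_one])
  obtain ⟨S, hS⟩ := hpt.exists_le_sylow
  have htS : t ∈ (S : Subgroup G) := hS (Subgroup.mem_zpowers t)
  have hS16 : Nat.card (S : Subgroup G) = 16 := by
    rw [S.card_eq_multiplicity, ← S₀.card_eq_multiplicity, hS₀]
  have ht2 : t * t = 1 := by rw [← pow_two, ← ht, pow_orderOf_eq_one]
  have ht1 : t ≠ 1 := fun h => by rw [h, orderOf_one] at ht; omega
  set V : Subgroup G := (S : Subgroup G) ⊓ Subgroup.centralizer ({t} : Set G) with hVdef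
  have hVC : V ≤ Subgroup.centralizer ({t} : Set G) := inf_le_right
  have hVS : V ≤ (S : Subgroup G) := inf_le_left
  by_cases h8 : 8 ∣ Nat.card V
  · exact h8.trans (Subgroup.card_dvd_of_le hVC)
  have : Nontrivial (S : Subgroup G) := Finite.one_lt_card_iff_nontrivial.mp (by rw [hS16]; norm_num)
  have := S.2.center_nontrivial
  obtain ⟨z₀, hz₀⟩ := exists_prime_orderOf_dvd_card' (G := Subgroup.center (S : Subgroup G)) 2 (by
    obtain ⟨k, hk⟩ := (S.2.to_subgroup (Subgroup.center (S : Subgroup G))).exists_card_eq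
    rw [hk]
    refine dvd_pow_self 2 fun h0 => ?_
    rw [h0, pow_zero] at hk
    exact absurd hk (Finite.one_lt_card (α := Subgroup.center (S : Subgroup G))).ne')
  set z : G := ((z₀ : (S : Subgroup G)) : G) with hzdef
  have hzo : orderOf z = 2 := by rw [hzdef, Subgroup.orderOf_coe, Subgroup.orderOf_coe, hz₀]
  have hzS : z ∈ (S : Subgroup G) := (z₀ : (S : Subgroup G)).2
  have hzc : ∀ s ∈ (S : Subgroup G), s * z = z * s := fun s hs =>
    congrArg Subtype.val (Subgroup.mem_center_iff.mp z₀.2 ⟨s, hs⟩)
  have hz1 : z ≠ 1 := fun h => by rw [h, orderOf_one] at hzo; omega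
  have hz2 : z * z = 1 := by rw [← pow_two, ← hzo, pow_orderOf_eq_one]
  have hV16 : Nat.card V ∣ 16 := hS16 ▸ Subgroup.card_dvd_of_le hVS
  have hzt : z ≠ t := by
    intro h
    apply h8
    have : (S : Subgroup G) ≤ V := le_inf le_rfl fun s hs =>
      Subgroup.mem_centralizer_singleton_iff.mpr (h ▸ hzc s hs)
    exact (hS16 ▸ (by norm_num : 8 ∣ 16)).trans (Subgroup.card_dvd_of_le this)
  have htV : t ∈ V := ⟨htS, Subgroup.mem_centralizer_singleton_iff.mpr rfl⟩
  have hzV : z ∈ V := ⟨hzS, Subgroup.mem_centralizer_singleton_iff.mpr (hzc t htS).symm⟩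
  have htz1 : t * z ≠ 1 := fun h => hzt (mul_left_cancel (h.trans ht2.symm))
  have htzt : t * z ≠ t := fun h => hz1 (mul_eq_left.mp h)
  have htzz : t * z ≠ z := fun h => ht1 (mul_eq_right.mp h)
  have hVf : ({1, t, z, t * z} : Finset G).card = 4 := by
    rw [Finset.card_insert_of_notMem (by simp [ht1.symm, hz1.symm, htz1.symm]),
      Finset.card_insert_of_notMem (by simp [hzt.symm, htzt.symm]),
      Finset.card_insert_of_notMem (by simp [htzz.symm]), Finset.card_singleton]
  have hsub : ((({1, t, z, t * z} : Finset G) : Set G)) ⊆ (V : Set G) := by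
    intro x hx
    simp only [Finset.coe_insert, Finset.coe_singleton, Set.mem_insert_iff,
      Set.mem_singleton_iff] at hx
    rcases hx with rfl | rfl | rfl | rfl
    · exact one_mem V
    · exact htV
    · exact hzV
    · exact mul_mem htV hzV
  have hV4 : Nat.card V = 4 := by
    have h4 : 4 ≤ Nat.card V := by
      have := Set.ncard_le_ncard hsub
      rwa [Set.ncard_coe_finset, hVf] at this
    have := Nat.le_of_dvd (by norm_num) hV16
    interval_cases hc : Nat.card V <;> omega
  have hVeq : ∀ x ∈ V, x = 1 ∨ x = t ∨ x = z ∨ x = t * z := by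
    intro x hx
    have h := Set.eq_of_subset_of_ncard_le hsub (by
      rw [Set.ncard_coe_finset, hVf]; exact le_of_eq hV4)
    have hx' : x ∈ ((({1, t, z, t * z} : Finset G) : Set G)) := h ▸ hx
    simpa using hx'
  -- the subgroup of order 8
  obtain ⟨R', hR'card, hVR'⟩ := Sylow.exists_subgroup_card_pow_succ (G := (S : Subgroup G)) (p := 2)
    (n := 2) (by rw [hS16]; norm_num) (H := V.subgroupOf (S : Subgroup G))
    (by rw [Nat.card_congr (Subgroup.subgroupOfEquivOfLe hVS).toEquiv, hV4]; norm_num)
  have hR'idx : R'.index = 2 := by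
    have := R'.card_mul_index
    rw [hR'card, hS16] at this
    omega
  have hR'n := Subgroup.normal_of_index_eq_two hR'idx
  set R : Subgroup G := R'.map (S : Subgroup G).subtype with hRdef
  have hRS : R ≤ (S : Subgroup G) := Subgroup.map_subtype_le R'
  have hR8 : Nat.card R = 8 := by
    rw [hRdef, Nat.card_congr (R'.equivMapOfInjective _ (Subgroup.subtype_injective _)).symm.toEquiv,
      hR'card]
    norm_num
  have hVR : V ≤ R := fun x hx =>
    ⟨⟨x, hVS hx⟩, hVR' (Subgroup.mem_subgroupOf.mpr hx), rfl⟩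
  have hRn : ∀ s ∈ (S : Subgroup G), ∀ r ∈ R, s * r * s⁻¹ ∈ R := by
    rintro s hs _ ⟨r, hr, rfl⟩
    exact ⟨_, hR'n.conj_mem r hr ⟨s, hs⟩, rfl⟩
  have hVn : ∀ r ∈ R, ∀ v ∈ V, r * v * r⁻¹ ∈ V := by
    have hle : R ≤ Subgroup.normalizer (V : Set G) := by
      rw [← Subgroup.normal_subgroupOf_iff_le_normalizer hVR]
      refine Subgroup.normal_of_index_eq_two ?_
      have := Subgroup.card_mul_index (V.subgroupOf R)
      rw [Nat.card_congr (Subgroup.subgroupOfEquivOfLe hVR).toEquiv, hV4, hR8] at this
      omega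
    exact fun r hr v hv => (Subgroup.mem_normalizer_iff.mp (hle hr) v).mp hv
  have hconjt : ∀ r ∈ R, r * t * r⁻¹ = t ∨ r * t * r⁻¹ = t * z := by
    intro r hr
    rcases hVeq _ (hVn r hr t htV) with h | h | h | h
    · exact absurd (conj_eq_one_iff.mp h) ht1
    · exact Or.inl h
    · exfalso
      apply hzt
      calc z = r⁻¹ * z * r := by rw [mul_assoc, ← hzc r (hRS hr), inv_mul_cancel_left]
        _ = t := by rw [← h]; group
    · exact Or.inr h
  have hCV : ∀ r ∈ (S : Subgroup G), r * t * r⁻¹ = t → r ∈ V := fun r hr h =>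
    ⟨hr, Subgroup.mem_centralizer_singleton_iff.mpr (mul_inv_eq_iff_eq_mul.mp h)⟩
  obtain ⟨r₁, hr₁, hr₁V⟩ : ∃ r ∈ R, r ∉ V :=
    SetLike.not_le_iff_exists.mp fun h => by
      have := Subgroup.card_le_of_le h; omega
  have hr₁t : r₁ * t * r₁⁻¹ = t * z :=
    (hconjt r₁ hr₁).resolve_left fun h => hr₁V (hCV r₁ (hRS hr₁) h)
  obtain ⟨w, hw, hwR⟩ : ∃ w ∈ (S : Subgroup G), w ∉ R :=
    SetLike.not_le_iff_exists.mp fun h => by
      have := Subgroup.card_le_of_le h; omega
  set t' := w * t * w⁻¹ with ht'def
  have ht'R : t' ∈ R := hRn w hw t (hVR htV)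
  have ht'2 : t' * t' = 1 := by rw [ht'def]; simp [mul_assoc, ← mul_assoc t, ht2]
  have ht'1 : t' ≠ 1 := fun h => ht1 (conj_eq_one_iff.mp h)
  have hwz : w * z * w⁻¹ = z := by rw [hzc w hw, mul_inv_cancel_right]
  have ht'V : t' ∉ V := by
    intro h
    rcases hVeq _ h with h | h | h | h
    · exact ht'1 h
    · exact hwR (hVR (hCV w hw h))
    · exact hzt (mul_left_cancel (mul_right_cancel (hwz.trans h.symm)))
    · apply hwR
      have hmem : r₁⁻¹ * w ∈ V := hCV _ (mul_mem (inv_mem (hRS hr₁)) hw) (by
        calc r₁⁻¹ * w * t * (r₁⁻¹ * w)⁻¹ = r₁⁻¹ * (w * t * w⁻¹) * r₁ := by group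
          _ = r₁⁻¹ * (r₁ * t * r₁⁻¹) * r₁ := by rw [hr₁t, ← ht'def, h]
          _ = t := by group)
      have := mul_mem hr₁ (hVR hmem)
      rwa [mul_inv_cancel_left] at this
  have hcomm : t * t' * t = t' * z := by
    have h := hconjt (w⁻¹ * t * w) (by
      have := hRn w⁻¹ (inv_mem hw) t (hVR htV)
      rwa [inv_inv] at this)
    have hexp : w * (w⁻¹ * t * w * t * (w⁻¹ * t * w)⁻¹) * w⁻¹ = t * t' * t := by
      rw [ht'def, show (w⁻¹ * t * w)⁻¹ = w⁻¹ * t⁻¹ * w by group, inv_eq_of_mul_eq_one_right ht2]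
      group
    rcases h with h | h
    · exfalso
      apply ht'V
      rw [h, ← ht'def] at hexp
      have hc : t' * t = t * t' := by
        conv_lhs => rw [hexp, mul_assoc, ht2, mul_one]
      exact hCV t' (hRS ht'R) (by rw [hc, mul_inv_cancel_right])
    · rw [h] at hexp
      rw [← hexp, ht'def]
      calc w * (t * z) * w⁻¹ = w * t * w⁻¹ * (w * z * w⁻¹) := by group
        _ = w * t * w⁻¹ * z := by rw [hwz]
  have hc2 : (t' * t) * (t' * t) = z := by
    calc t' * t * (t' * t) = t' * (t * t' * t) := by group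
      _ = z := by rw [hcomm, ← mul_assoc, ht'2, one_mul]
  have hw2R : w * w ∈ R :=
    ⟨⟨w, hw⟩ * ⟨w, hw⟩, Subgroup.mul_self_mem_of_index_two hR'idx _, rfl⟩
  obtain ⟨a, haS, ha4⟩ : ∃ a ∈ (S : Subgroup G), a ^ 4 ≠ 1 := by
    by_contra hcon
    push Not at hcon
    have hu : w * w = 1 ∨ w * w = z := by
      have hu2 : (w * w) * (w * w) = 1 := by
        have := hcon w hw
        rw [show (4 : ℕ) = 2 + 2 from rfl, pow_add, pow_two] at this
        exact this
      have hwfix : w * (w * w) * w⁻¹ = w * w := by group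
      by_cases huV : w * w ∈ V
      · rcases hVeq _ huV with h | h | h | h
        · exact Or.inl h
        · exfalso; apply ht'V; rw [ht'def, ← h, hwfix, h]; exact htV
        · exact Or.inr h
        · exfalso
          apply ht'V
          have h5 : t' * z = t * z := by
            rw [ht'def, ← h]
            calc w * t * w⁻¹ * z = w * t * w⁻¹ * (w * z * w⁻¹) := by rw [hwz]
              _ = w * (t * z) * w⁻¹ := by group
              _ = w * (w * w) * w⁻¹ := by rw [h]
              _ = w * w := hwfix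
          rw [mul_right_cancel h5]; exact htV
      · exfalso
        -- the other coset of `V` in `R` is `t' V`
        have hmem : t'⁻¹ * (w * w) ∈ V := by
          by_contra hne
          have hidx : (V.subgroupOf R).index = 2 := by
            have := Subgroup.card_mul_index (V.subgroupOf R)
            rw [Nat.card_congr (Subgroup.subgroupOfEquivOfLe hVR).toEquiv, hV4, hR8] at this
            omega
          have hi : (⟨t', ht'R⟩ : R)⁻¹ ∉ V.subgroupOf R := fun h => ht'V (by
            have := Subgroup.mem_subgroupOf.mp h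
            simpa using this)
          exact hne (Subgroup.mem_subgroupOf.mp
            ((Subgroup.mul_mem_iff_of_index_two hidx).mpr
              ⟨fun h => absurd h hi, fun h => absurd (Subgroup.mem_subgroupOf.mp h) huV⟩ :
              (⟨t', ht'R⟩ : R)⁻¹ * ⟨w * w, hw2R⟩ ∈ V.subgroupOf R))
        rw [inv_eq_of_mul_eq_one_right ht'2] at hmem
        have hwu : ∀ e : G, e = w * w → w * e * w⁻¹ = e := fun e he => he ▸ hwfix
        rcases hVeq _ hmem with h | h | h | h
        · have e : t' = w * w := by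
            calc t' = t' * 1 := (mul_one _).symm
              _ = w * w := by rw [← h, ← mul_assoc, ht'2, one_mul]
          have : t' = t := by
            have h6 := hwu t' e
            exact mul_left_cancel (mul_right_cancel (h6.trans ht'def))
          exact ht'V (this ▸ htV)
        · have e : t' * t = w * w := by rw [← h, ← mul_assoc, ht'2, one_mul]
          rw [← e, hc2] at hu2
          exact hz1 hu2
        · have e : t' * z = w * w := by rw [← h, ← mul_assoc, ht'2, one_mul]
          have h6 := hwu _ e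
          have h7 : w * t' * w⁻¹ * z = t' * z := by
            calc w * t' * w⁻¹ * z = w * t' * w⁻¹ * (w * z * w⁻¹) := by rw [hwz]
              _ = w * (t' * z) * w⁻¹ := by group
              _ = t' * z := h6
          have : t' = t := mul_left_cancel (mul_right_cancel ((mul_right_cancel h7).trans ht'def))
          exact ht'V (this ▸ htV)
        · have e : t' * (t * z) = w * w := by rw [← h, ← mul_assoc, ht'2, one_mul]
          apply hz1
          rw [← hu2, ← e]
          calc z = z * z * z := by rw [hz2, one_mul]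
            _ = (t' * t) * (t' * t) * z * z := by rw [hc2]
            _ = (t' * t) * z * ((t' * t) * z) := by
                rw [mul_assoc (t' * t) z _, ← mul_assoc z, ← hzc _ (mul_mem (hRS ht'R) htS)]
                group
            _ = t' * (t * z) * (t' * (t * z)) := by group
    have hsq : ∀ e, w * w = e → (w * t) * (w * t) = t' * e * t := by
      intro e he
      rw [← he, ht'def]; group
    have h4 := hcon (w * t) (mul_mem hw htS)
    rw [show (4 : ℕ) = 2 + 2 from rfl, pow_add, pow_two] at h4
    rcases hu with h | h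
    · rw [hsq 1 h, mul_one, hc2] at h4
      exact hz1 h4
    · have e1 : t' * z * t = t' * t * z := by rw [mul_assoc, ← hzc t htS, ← mul_assoc]
      have e2 : t' * t * z * (t' * t * z) = z := by
        calc t' * t * z * (t' * t * z) = t' * t * (z * (t' * t)) * z := by group
          _ = t' * t * ((t' * t) * z) * z := by rw [hzc _ (mul_mem (hRS ht'R) htS)]
          _ = (t' * t) * (t' * t) * (z * z) := by group
          _ = z := by rw [hc2, hz2, mul_one]
      rw [hsq z h, e1, e2] at h4
      exact hz1 h4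
  have ha16 : orderOf a ∣ 16 := by
    rw [← Subgroup.orderOf_mk a haS, ← hS16]; exact orderOf_dvd_natCard _
  have ha8 : orderOf a = 8 := by
    obtain ⟨k, hk, hk'⟩ := (Nat.dvd_prime_pow Nat.prime_two).mp (show orderOf a ∣ 2 ^ 4 from ha16)
    interval_cases k
    · exact absurd (orderOf_dvd_iff_pow_eq_one.mp (by rw [hk']; norm_num)) ha4
    · exact absurd (orderOf_dvd_iff_pow_eq_one.mp (by rw [hk']; norm_num)) ha4
    · exact absurd (orderOf_dvd_iff_pow_eq_one.mp (by rw [hk']; norm_num)) ha4
    · rw [hk']; norm_num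
    · exfalso
      apply hwR
      have hgen : Subgroup.zpowers a = (S : Subgroup G) :=
        Subgroup.eq_of_le_of_card_ge (Subgroup.zpowers_le.mpr haS)
          (by rw [Nat.card_zpowers, hk', hS16]; norm_num)
      obtain ⟨i, rfl⟩ := Subgroup.mem_zpowers_iff.mp (hgen ▸ hw)
      obtain ⟨j, hj⟩ := Subgroup.mem_zpowers_iff.mp (hgen ▸ htS)
      exact hVR (hCV _ hw (by
        rw [← hj, (Commute.zpow_zpow_self a i j).eq, mul_inv_cancel_right]))
  -- transfer
  obtain ⟨g, hg⟩ := Cfsg.Agent.Lib.Fusion.Thompson.exists_conj_mem_maximal S (Subgroup.zpowers a)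
    (Subgroup.zpowers_le.mpr haS) (by
      have := Subgroup.card_mul_index ((Subgroup.zpowers a).subgroupOf (S : Subgroup G))
      rw [Nat.card_congr (Subgroup.subgroupOfEquivOfLe (Subgroup.zpowers_le.mpr haS)).toEquiv,
        Nat.card_zpowers, ha8, hS16] at this
      show ((Subgroup.zpowers a).subgroupOf (S : Subgroup G)).index = 2
      omega) hG t ht
  have hle : Subgroup.zpowers a ≤ Subgroup.centralizer ({g * t * g⁻¹} : Set G) := by
    intro x hx
    obtain ⟨i, hi⟩ := Subgroup.mem_zpowers_iff.mp hx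
    obtain ⟨j, hj⟩ := Subgroup.mem_zpowers_iff.mp hg
    rw [Subgroup.mem_centralizer_singleton_iff, ← hi, ← hj]
    exact (Commute.zpow_zpow_self a i j).eq
  have hconj : Subgroup.centralizer ({g * t * g⁻¹} : Set G) =
      (Subgroup.centralizer ({t} : Set G)).map (MulAut.conj g).toMonoidHom := by
    ext x
    simp only [Subgroup.mem_map, Subgroup.mem_centralizer_singleton_iff, MulEquiv.coe_toMonoidHom,
      MulAut.conj_apply]
    constructor
    · intro h
      refine ⟨g⁻¹ * x * g, ?_, by group⟩
      calc g⁻¹ * x * g * t = g⁻¹ * (x * (g * t * g⁻¹)) * g := by group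
        _ = g⁻¹ * (g * t * g⁻¹ * x) * g := by rw [h]
        _ = t * (g⁻¹ * x * g) := by group
    · rintro ⟨y, hy, rfl⟩
      calc g * y * g⁻¹ * (g * t * g⁻¹) = g * (y * t) * g⁻¹ := by group
        _ = g * (t * y) * g⁻¹ := by rw [hy]
        _ = g * t * g⁻¹ * (g * y * g⁻¹) := by group
  have h8' := Subgroup.card_dvd_of_le hle
  rw [Nat.card_zpowers, ha8, hconj,
    Nat.card_congr (Subgroup.equivMapOfInjective _ _ (MulAut.conj g).injective).symm.toEquiv] at h8'
  exact h8'

end Group

end Cfsg.Agent.Lib.Classif.SmallOrderTools
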