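import Mathlib
import Cfsg.Agent.Lib.Classif.SmallOrderTools
import Cfsg.Agent.Lib.Classif.OrderSieve
import Cfsg.Agent.Lib.Classif.IntersectionSubgroup
import Cfsg.Agent.Lib.Transfer.Fusion

/-!
No non-abelian simple group has order 420, 612, 756, 840, 1008, 1040 or 1080.
-/

set_option autoImplicit false

namespace Cfsg.Agent.Lib.Classif.SmallOrderKills

open Cfsg.Agent.Lib.SmallGroups Cfsg.Agent.Lib.Classif.SmallOrderTools

variable {G : Type*} [Group G] [Finite G] [IsSimpleGroup G]

/-- The Sylow numbers form an admissible combination. -/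
theorem actual_mem (hG : ¬ IsMulCommutative G) {n : ℕ} (h : Nat.card G = n)
    (L : List (ℕ × ℕ × ℕ)) (C : List (List (ℕ × ℕ × ℕ)))
    (hL : OrderSieve.entries n = L) (hv : OrderSieve.valid n L = true)
    (hC : (OrderSieve.combos n L).filter (OrderSieve.okCombo n) = C) :
    OrderSieve.actual G L ∈ C := by
  subst hL
  subst h
  simp only [OrderSieve.valid, Bool.and_eq_true, decide_eq_true_eq, List.all_eq_true] at hv
  have hL : ∀ e ∈ OrderSieve.entries (Nat.card G), e.1.Prime ∧ e.2.1 ≠ 0 ∧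
      Nat.card G = e.1 ^ e.2.1 * e.2.2 ∧ ¬ e.1 ∣ e.2.2 ∧ e.2.2 ≠ 1 := by
    intro e he
    obtain ⟨⟨⟨⟨hp, ha⟩, hc⟩, hm⟩, hm1⟩ := hv.1 e he
    exact ⟨OrderSieve.prime_of_isP hp, ha, hc,
      fun hd => hm (Nat.dvd_iff_mod_eq_zero.mp hd), hm1⟩
  rw [← hC, List.mem_filter]
  exact ⟨OrderSieve.actual_mem_combos hG _ hL, OrderSieve.okCombo_actual hG hL hv.2⟩

theorem index_ne_two (hG : ¬ IsMulCommutative G) (N : Subgroup G) : N.index ≠ 2 := by
  intro h
  have hne : N ≠ ⊤ := fun e => by rw [e, Subgroup.index_top] at h; omega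
  have h' := Sylow.two_mul_card_dvd_factorial hG hne
  rw [h, Nat.factorial_two] at h'
  have := Nat.le_of_dvd (by norm_num) h'
  have h1 : 1 < Nat.card G := Finite.one_lt_card
  omega

/-- No non-trivial element normalises all Sylow subgroups. -/
theorem not_fix_all {p : ℕ} [Fact p.Prime] (hn : Nat.card (Sylow p G) ≠ 1) {t : G} (ht : t ≠ 1) :
    ∃ Q : Sylow p G, t • Q ≠ Q := by
  by_contra hcon
  push Not at hcon
  rcases Sylow.injective_or_trivial (MulAction.toPermHom G (Sylow p G)) with h | h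
  · exact ht (h (Equiv.ext fun Q => by simpa using hcon Q))
  · apply hn
    rw [Nat.card_eq_one_iff_unique]
    refine ⟨⟨fun P Q => ?_⟩, ⟨default⟩⟩
    obtain ⟨g, rfl⟩ := MulAction.exists_smul_eq G P Q
    exact (Equiv.congr_fun (h g) P).symm

omit [IsSimpleGroup G] in
/-- An element of order two centralising a subgroup of even centraliser order. -/
theorem exists_involution {H : Subgroup G} (h : 2 ∣ Nat.card H) :
    ∃ t ∈ H, orderOf t = 2 := by
  obtain ⟨t, ht⟩ := exists_prime_orderOf_dvd_card' (G := H) 2 h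
  exact ⟨t, t.2, by rw [Subgroup.orderOf_coe]; exact ht⟩

omit [IsSimpleGroup G] in
theorem card_le_mul_centralizer_singleton {x : G} {H : Subgroup G} (hH : H ≤ Subgroup.centralizer {x}) :
    Nat.card H ∣ Nat.card (Subgroup.centralizer ({x} : Set G)) :=
  Subgroup.card_dvd_of_le hH

/-! ### 420 and 840 -/

theorem false_of_card_sylow_seven_fifteen (hG : ¬ IsMulCommutative G) (P : Sylow 7 G)
    (hP : Nat.card (P : Subgroup G) = 7) (h15 : Nat.card (Sylow 7 G) = 15) {t : G}
    (ht : orderOf t = 2) (htC : t ∈ Subgroup.centralizer ((P : Subgroup G) : Set G)) : False := by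
  haveI : Fact (Nat.Prime 7) := ⟨by norm_num⟩
  have h1 := card_fixed_sylow_mod P hP t htC
  have h2 := four_dvd_moved (α := Sylow 7 G) hG t (by rw [← ht, pow_orderOf_eq_one])
  rw [h15] at h2
  have ht1 : t ≠ 1 := fun h => by rw [h, orderOf_one] at ht; omega
  obtain ⟨Q, hQ⟩ := not_fix_all (p := 7) (by omega) ht1
  have h3 : Nat.card {R : Sylow 7 G // t • R = R} < 15 := by
    rw [← h15]
    exact Finite.card_subtype_lt hQ
  omega

theorem card_ne_of_sylow_seven (hG : ¬ IsMulCommutative G) {n : ℕ} (hn : n = 420 ∨ n = 840)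
    (h : Nat.card G = n) (h15 : Nat.card (Sylow 7 G) = 15) : False := by
  haveI : Fact (Nat.Prime 7) := ⟨by norm_num⟩
  let P : Sylow 7 G := default
  have hP : Nat.card (P : Subgroup G) = 7 := by
    rcases hn with rfl | rfl
    · simpa using Sylow.card_sylow_eq P (a := 1) (m := 60) (by omega) (by norm_num)
    · simpa using Sylow.card_sylow_eq P (a := 1) (m := 120) (by omega) (by norm_num)
  obtain ⟨e, c, he, he1, hc, hC, hce⟩ := Sylow.exists_normalizer_factor hG P hP
  have hN := Sylow.card_normalizer_mul P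
  rw [h15, h, ← hce] at hN
  have he6 : e ≤ 6 := Nat.le_of_dvd (by norm_num) he
  have h2 : 2 ∣ c := by
    obtain ⟨k, rfl⟩ := hc
    interval_cases e <;> omega
  obtain ⟨t, htC, ht⟩ := exists_involution (hC ▸ h2)
  exact false_of_card_sylow_seven_fifteen hG P hP h15 ht htC

theorem card_ne_420 (hG : ¬ IsMulCommutative G) : Nat.card G ≠ 420 := by
  intro h
  have := actual_mem hG h [(2, 2, 105), (3, 1, 140), (5, 1, 84), (7, 1, 60)] _ (by decide +kernel)
    (by decide +kernel) rfl
  refine card_ne_of_sylow_seven hG (Or.inl rfl) h ?_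
  have key : ∀ l ∈ (OrderSieve.combos 420 [(2, 2, 105), (3, 1, 140), (5, 1, 84), (7, 1, 60)]).filter
      (OrderSieve.okCombo 420), (l.map fun e => e.2.2).getLast? = some 15 := by decide +kernel
  simpa [OrderSieve.actual] using key _ this

theorem card_ne_840 (hG : ¬ IsMulCommutative G) : Nat.card G ≠ 840 := by
  intro h
  have := actual_mem hG h [(2, 3, 105), (3, 1, 280), (5, 1, 168), (7, 1, 120)] _ (by decide +kernel)
    (by decide +kernel) rfl
  refine card_ne_of_sylow_seven hG (Or.inr rfl) h ?_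
  have key : ∀ l ∈ (OrderSieve.combos 840 [(2, 3, 105), (3, 1, 280), (5, 1, 168), (7, 1, 120)]).filter
      (OrderSieve.okCombo 840), (l.map fun e => e.2.2).getLast? = some 15 := by decide +kernel
  simpa [OrderSieve.actual] using key _ this

/-! ### 1080 -/

theorem card_ne_1080 (hG : ¬ IsMulCommutative G) : Nat.card G ≠ 1080 := by
  intro h
  haveI : Fact (Nat.Prime 5) := ⟨by norm_num⟩
  haveI : Fact (Nat.Prime 3) := ⟨by norm_num⟩
  have hmem := actual_mem hG h [(2, 3, 135), (3, 3, 40), (5, 1, 216)] _ (by decide +kernel)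
    (by decide +kernel) rfl
  have key : ∀ l ∈ (OrderSieve.combos 1080 [(2, 3, 135), (3, 3, 40), (5, 1, 216)]).filter
      (OrderSieve.okCombo 1080), (l.map fun e => e.2.2).getLast? = some 36 := by decide +kernel
  have h36 : Nat.card (Sylow 5 G) = 36 := by simpa [OrderSieve.actual] using key _ hmem
  let P : Sylow 5 G := default
  have hP : Nat.card (P : Subgroup G) = 5 := by
    simpa using Sylow.card_sylow_eq P (a := 1) (m := 216) (by omega) (by norm_num)
  obtain ⟨e, c, he, he1, hc, hC, hce⟩ := Sylow.exists_normalizer_factor hG P hP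
  have hN := Sylow.card_normalizer_mul P
  rw [h36, h, ← hce] at hN
  have he4 : e ≤ 4 := Nat.le_of_dvd (by norm_num) he
  have hc15 : c = 15 := by
    obtain ⟨k, rfl⟩ := hc
    interval_cases e <;> omega
  have hce30 : c * e = 30 := by subst hc15; omega
  obtain ⟨z, hz⟩ := exists_prime_orderOf_dvd_card'
    (G := Subgroup.centralizer ((P : Subgroup G) : Set G)) 3 (by rw [hC, hc15]; norm_num)
  rw [← Subgroup.orderOf_coe] at hz
  set z' : G := (z : G) with hz'
  set C : Subgroup G := Subgroup.centralizer ({z'} : Set G) with hCz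
  -- 9 divides the centraliser
  have hPz : IsPGroup 3 (Subgroup.zpowers z') :=
    IsPGroup.of_card (n := 1) (by rw [Nat.card_zpowers, hz, pow_one])
  obtain ⟨T, hT⟩ := hPz.exists_le_sylow
  have hT27 : Nat.card (T : Subgroup G) = 27 := by
    simpa using Sylow.card_sylow_eq T (a := 3) (m := 40) (by omega) (by norm_num)
  have hzT : z' ∈ (T : Subgroup G) := hT (Subgroup.mem_zpowers _)
  have h9 : 9 ∣ Nat.card C := by
    have hd : Nat.card ((T : Subgroup G) ⊓ C : Subgroup G) ∣ 3 ^ 3 := by
      have := Subgroup.card_dvd_of_le (inf_le_left : (T : Subgroup G) ⊓ C ≤ T)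
      rw [hT27] at this
      simpa using this
    have h1 : Subgroup.zpowers z' ≤ (T : Subgroup G) ⊓ C :=
      le_inf hT (Subgroup.zpowers_le.mpr (Subgroup.mem_centralizer_singleton_iff.mpr rfl))
    obtain ⟨k, hk, hk'⟩ := (Nat.dvd_prime_pow Nat.prime_three).mp hd
    refine (Dvd.dvd.trans ?_ (Subgroup.card_dvd_of_le (inf_le_right : (T : Subgroup G) ⊓ C ≤ C)))
    rw [hk']
    interval_cases k
    · have := Subgroup.card_le_of_le h1
      rw [hk', Nat.card_zpowers, hz] at this
      norm_num at this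
    · exfalso
      have heq : Subgroup.zpowers z' = (T : Subgroup G) ⊓ C :=
        Subgroup.eq_of_le_of_card_ge h1 (by rw [hk', Nat.card_zpowers, hz]; norm_num)
      haveI : Nontrivial (T : Subgroup G) :=
        Finite.one_lt_card_iff_nontrivial.mp (by rw [hT27]; norm_num)
      haveI := T.2.center_nontrivial
      obtain ⟨w, hw⟩ := exists_ne (1 : Subgroup.center (T : Subgroup G))
      have hwmem : ((w : (T : Subgroup G)) : G) ∈ Subgroup.zpowers z' := by
        rw [heq]
        exact ⟨(w : (T : Subgroup G)).2, Subgroup.mem_centralizer_singleton_iff.mpr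
          (congrArg Subtype.val (Subgroup.mem_center_iff.mp w.2 ⟨z', hzT⟩)).symm⟩
      have hgen : Subgroup.zpowers ((w : (T : Subgroup G)) : G) = Subgroup.zpowers z' := by
        refine Subgroup.eq_of_le_of_card_ge (Subgroup.zpowers_le.mpr hwmem) ?_
        rw [Nat.card_zpowers, Nat.card_zpowers, hz]
        have hd := Subgroup.card_dvd_of_le (Subgroup.zpowers_le.mpr hwmem)
        rw [Nat.card_zpowers, Nat.card_zpowers, hz] at hd
        rcases (Nat.dvd_prime Nat.prime_three).mp hd with h' | h'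
        · exact absurd (Subtype.ext (Subtype.ext (orderOf_eq_one_iff.mp h'))) hw
        · exact h'.ge
      have hTC : (T : Subgroup G) ≤ (T : Subgroup G) ⊓ C := by
        refine le_inf le_rfl fun s hs => ?_
        obtain ⟨i, hi⟩ := Subgroup.mem_zpowers_iff.mp (hgen.symm ▸ Subgroup.mem_zpowers z' :
          z' ∈ Subgroup.zpowers ((w : (T : Subgroup G)) : G))
        have hc' : Commute s ((w : (T : Subgroup G)) : G) :=
          congrArg Subtype.val (Subgroup.mem_center_iff.mp w.2 ⟨s, hs⟩)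
        rw [Subgroup.mem_centralizer_singleton_iff, ← hi]
        exact (hc'.zpow_right i).eq
      have := Subgroup.card_le_of_le hTC
      rw [hk', hT27] at this
      norm_num at this
    · norm_num
    · norm_num
  have hPC : (P : Subgroup G) ≤ C := fun y hy =>
    Subgroup.mem_centralizer_singleton_iff.mpr (Subgroup.mem_centralizer_iff.mp z.2 y hy)
  have hM := card_sylow_subgroup_mul P C hPC
  have hNC : Nat.card (Subgroup.normalizer ((P : Subgroup G) : Set G) ⊓ C : Subgroup G) ∣ 30 := by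
    have := Subgroup.card_dvd_of_le
      (inf_le_left : Subgroup.normalizer ((P : Subgroup G) : Set G) ⊓ C ≤ _)
    rwa [← hce, hce30] at this
  have h5d : 5 ∣ Nat.card (Subgroup.normalizer ((P : Subgroup G) : Set G) ⊓ C : Subgroup G) := by
    have := Subgroup.card_dvd_of_le
      (le_inf Subgroup.le_normalizer hPC : (P : Subgroup G) ≤ _)
    rwa [hP] at this
  have hCd : Nat.card C ∣ 1080 := h ▸ Subgroup.card_subgroup_dvd_card C
  have hn5 : Nat.card (Sylow 5 C) % 5 = 1 := Sylow.card_sylow_mod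
  set d := Nat.card (Sylow 5 C)
  set m := Nat.card (Subgroup.normalizer ((P : Subgroup G) : Set G) ⊓ C : Subgroup G)
  have hCtop : C ≠ ⊤ := by
    intro ht
    have hc' : z' ∈ Subgroup.center G := Subgroup.mem_center_iff.mpr fun g =>
      Subgroup.mem_centralizer_singleton_iff.mp (ht ▸ Subgroup.mem_top g : g ∈ C)
    rw [Sylow.center_eq_bot hG, Subgroup.mem_bot] at hc'
    rw [hc', orderOf_one] at hz
    omega
  have hidx := Sylow.two_mul_card_dvd_factorial hG hCtop
  have hmul := C.card_mul_index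
  rw [h] at hidx hmul
  have hi7 : 7 ≤ C.index := by
    by_contra hlt
    push Not at hlt
    have h0 : C.index ≠ 0 := Subgroup.index_ne_zero_of_finite
    interval_cases hi : C.index <;> revert hidx <;> decide
  have arith : ∀ x : Fin 155, ∀ m' : Fin 31, ((x : ℕ) % 9 = 0 ∧ (m' : ℕ) % 5 = 0 ∧
      30 % (m' : ℕ) = 0 ∧ (x : ℕ) % (m' : ℕ) = 0 ∧ (x : ℕ) / (m' : ℕ) % 5 = 1) → (x : ℕ) = 90 := by
    decide +kernel
  have h90 : Nat.card C = 90 := by
    have hle : Nat.card C ≤ 154 := by nlinarith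
    have hm0 : 0 < m := Nat.pos_of_dvd_of_pos hNC (by norm_num)
    have hm30 : m ≤ 30 := Nat.le_of_dvd (by norm_num) hNC
    refine arith ⟨Nat.card C, by omega⟩ ⟨m, by omega⟩ ⟨Nat.dvd_iff_mod_eq_zero.mp h9,
      Nat.dvd_iff_mod_eq_zero.mp h5d, Nat.dvd_iff_mod_eq_zero.mp hNC, ?_, ?_⟩
    all_goals dsimp only
    · rw [← hM, Nat.mul_mod_left]
    · rw [← hM, Nat.mul_div_cancel _ hm0]; exact hn5
  -- a subgroup of index two in `C`
  obtain ⟨i, hi⟩ := exists_prime_orderOf_dvd_card' (G := C) 2 (by rw [h90]; norm_num)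
  obtain ⟨M, hM2, -⟩ := Cfsg.Agent.Lib.Fusion.Thompson.exists_index_two_of_fixedPointFree
    (G := C) (α := C) (by rw [h90]) i hi (fun x hx => by
      have : i = 1 := mul_eq_right.mp hx
      rw [this, orderOf_one] at hi
      omega)
  set M' : Subgroup G := M.map C.subtype
  have hM45 : Nat.card M' = 45 := by
    rw [Nat.card_congr (M.equivMapOfInjective _ (Subgroup.subtype_injective _)).symm.toEquiv]
    have := M.card_mul_index
    rw [hM2, h90] at this
    omega
  have hPM : (P : Subgroup G) ≤ M' := by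
    intro y hy
    refine ⟨⟨y, hPC hy⟩, ?_, rfl⟩
    have h1 := orderOf_dvd_natCard (⟨y, hy⟩ : (P : Subgroup G))
    rw [hP, Subgroup.orderOf_mk] at h1
    have h5 : (⟨y, hPC hy⟩ : C) ^ 5 = 1 := orderOf_dvd_iff_pow_eq_one.mp (by
      rw [Subgroup.orderOf_mk]; exact h1)
    have hsq := Subgroup.mul_self_mem_of_index_two hM2 (⟨y, hPC hy⟩ : C)
    have : (⟨y, hPC hy⟩ : C) = ((⟨y, hPC hy⟩ : C) * ⟨y, hPC hy⟩) ^ 3 := by
      rw [← pow_two, ← pow_mul, show 2 * 3 = 5 + 1 by norm_num, pow_succ, h5, one_mul]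
    rw [this]
    exact pow_mem hsq 3
  have hM5 := card_sylow_subgroup_mul P M' hPM
  rw [hM45] at hM5
  have hd5 : Nat.card (Sylow 5 M') % 5 = 1 := Sylow.card_sylow_mod
  have hle : Nat.card (Subgroup.normalizer ((P : Subgroup G) : Set G) ⊓ M' : Subgroup G) ∣ 30 := by
    have := Subgroup.card_dvd_of_le
      (inf_le_left : Subgroup.normalizer ((P : Subgroup G) : Set G) ⊓ M' ≤ _)
    rwa [← hce, hce30] at this
  have h5d' : 5 ∣ Nat.card (Subgroup.normalizer ((P : Subgroup G) : Set G) ⊓ M' : Subgroup G) := by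
    have := Subgroup.card_dvd_of_le
      (le_inf Subgroup.le_normalizer hPM : (P : Subgroup G) ≤ _)
    rwa [hP] at this
  have arith' : ∀ m' < 31, m' % 5 = 0 → 30 % m' = 0 → 45 % m' = 0 → 45 / m' % 5 ≠ 1 := by
    decide +kernel
  generalize Nat.card (Sylow 5 M') = d' at *
  generalize Nat.card (Subgroup.normalizer ((P : Subgroup G) : Set G) ⊓ M' : Subgroup G) = m' at *
  have hm0 : 0 < m' := Nat.pos_of_dvd_of_pos hle (by norm_num)
  refine arith' m' (Nat.lt_succ_of_le (Nat.le_of_dvd (by norm_num) hle))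
    (Nat.dvd_iff_mod_eq_zero.mp h5d') (Nat.dvd_iff_mod_eq_zero.mp hle) ?_ ?_
  · rw [← hM5, Nat.mul_mod_left]
  · rw [← hM5, Nat.mul_div_cancel _ hm0]; exact hd5

/-! ### 1008 -/

theorem card_ne_1008 (hG : ¬ IsMulCommutative G) : Nat.card G ≠ 1008 := by
  intro h
  haveI : Fact (Nat.Prime 7) := ⟨by norm_num⟩
  have hmem := actual_mem hG h [(2, 4, 63), (3, 2, 112), (7, 1, 144)] _ (by decide +kernel)
    (by decide +kernel) rfl
  have key : ∀ l ∈ (OrderSieve.combos 1008 [(2, 4, 63), (3, 2, 112), (7, 1, 144)]).filter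
      (OrderSieve.okCombo 1008), (l.map fun e => e.2.2).getLast? = some 36 := by decide +kernel
  have h36 : Nat.card (Sylow 7 G) = 36 := by simpa [OrderSieve.actual] using key _ hmem
  let P : Sylow 7 G := default
  have hP : Nat.card (P : Subgroup G) = 7 := by
    simpa using Sylow.card_sylow_eq P (a := 1) (m := 144) (by omega) (by norm_num)
  obtain ⟨e, c, he, he1, hc, hC, hce⟩ := Sylow.exists_normalizer_factor hG P hP
  have hN := Sylow.card_normalizer_mul P
  rw [h36, h, ← hce] at hN
  have he6 : e ≤ 6 := Nat.le_of_dvd (by norm_num) he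
  have hc14 : c = 14 := by
    obtain ⟨k, rfl⟩ := hc
    interval_cases e <;> omega
  have hce28 : c * e = 28 := by subst hc14; omega
  obtain ⟨t, htC, ht⟩ := exists_involution (hC.symm ▸ hc14.symm ▸ (by norm_num : 2 ∣ 14))
  let S : Sylow 2 G := default
  have hS : Nat.card (S : Subgroup G) = 16 := by
    simpa using Sylow.card_sylow_eq S (a := 4) (m := 63) (by omega) (by norm_num)
  have h8 := eight_dvd_card_centralizer S hS (index_ne_two hG) t ht
  set C : Subgroup G := Subgroup.centralizer ({t} : Set G) with hCt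
  have hPC : (P : Subgroup G) ≤ C := fun y hy =>
    Subgroup.mem_centralizer_singleton_iff.mpr (Subgroup.mem_centralizer_iff.mp htC y hy)
  have hM := card_sylow_subgroup_mul P C hPC
  have hNC : Nat.card (Subgroup.normalizer ((P : Subgroup G) : Set G) ⊓ C : Subgroup G) ∣ 28 := by
    have := Subgroup.card_dvd_of_le
      (inf_le_left : Subgroup.normalizer ((P : Subgroup G) : Set G) ⊓ C ≤ _)
    rwa [← hce, hce28] at this
  have h7d : 7 ∣ Nat.card (Subgroup.normalizer ((P : Subgroup G) : Set G) ⊓ C : Subgroup G) := by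
    have := Subgroup.card_dvd_of_le
      (le_inf Subgroup.le_normalizer hPC : (P : Subgroup G) ≤ _)
    rwa [hP] at this
  have hn7 : Nat.card (Sylow 7 C) % 7 = 1 := Sylow.card_sylow_mod
  have hCtop : C ≠ ⊤ := by
    intro hT
    have hc' : t ∈ Subgroup.center G := Subgroup.mem_center_iff.mpr fun g =>
      Subgroup.mem_centralizer_singleton_iff.mp (hT ▸ Subgroup.mem_top g : g ∈ C)
    rw [Sylow.center_eq_bot hG, Subgroup.mem_bot] at hc'
    rw [hc', orderOf_one] at ht
    omega
  have hidx := Sylow.two_mul_card_dvd_factorial hG hCtop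
  have hmul := C.card_mul_index
  rw [h] at hidx hmul
  have hi8 : 8 ≤ C.index := by
    by_contra hlt
    push Not at hlt
    have h0 : C.index ≠ 0 := Subgroup.index_ne_zero_of_finite
    interval_cases hi : C.index <;> revert hidx <;> decide
  have h2d : 2 ∣ Nat.card (Subgroup.normalizer ((P : Subgroup G) : Set G) ⊓ C : Subgroup G) := by
    have h' := Subgroup.card_dvd_of_le (Subgroup.zpowers_le.mpr
      (show t ∈ Subgroup.normalizer ((P : Subgroup G) : Set G) ⊓ C from
        ⟨Sylow.centralizer_le_normalizer _ htC, Subgroup.mem_centralizer_singleton_iff.mpr rfl⟩))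
    rwa [Nat.card_zpowers, ht] at h'
  have arith : ∀ x : Fin 127, ∀ m : Fin 29, ((x : ℕ) % 8 = 0 ∧ (m : ℕ) % 7 = 0 ∧ (m : ℕ) % 2 = 0 ∧
      28 % (m : ℕ) = 0 ∧ (x : ℕ) % (m : ℕ) = 0 ∧ (x : ℕ) / (m : ℕ) % 7 = 1) → (x : ℕ) = 112 := by
    decide +kernel
  have h112 : Nat.card C = 112 := by
    have hle : Nat.card C ≤ 126 := by nlinarith
    have hm0 := Nat.pos_of_dvd_of_pos hNC (by norm_num)
    refine arith ⟨Nat.card C, by omega⟩ ⟨_, Nat.lt_succ_of_le (Nat.le_of_dvd (by norm_num) hNC)⟩
      ⟨Nat.dvd_iff_mod_eq_zero.mp h8, Nat.dvd_iff_mod_eq_zero.mp h7d,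
      Nat.dvd_iff_mod_eq_zero.mp h2d, Nat.dvd_iff_mod_eq_zero.mp hNC, ?_, ?_⟩
    all_goals dsimp only
    · rw [← hM, Nat.mul_mod_left]
    · rw [← hM, Nat.mul_div_cancel _ hm0]; exact hn7
  have h9 : C.index = 9 := by rw [h112] at hmul; omega
  have := Counting.two_mul_normalizer_dvd hG hCtop (p := 7) (by norm_num) (by omega) (by omega)
    (by rw [h]; norm_num) P
  rw [h9, ← hce, hce28] at this
  revert this
  decide

end Cfsg.Agent.Lib.Classif.SmallOrderKills
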