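import Mathlib
import Cfsg.Agent.Lib.Classif.SmallOrderKills
import Cfsg.Agent.Lib.Classif.SmallOrderInvert

/-!
No simple group has order 720.  With 16 or 40 Sylow 3-subgroups local arguments suffice; with 10
they meet trivially, the two-point stabiliser is a group of order 8 with one involution, and an
element of order four in it is an odd permutation of the cosets of a cyclic subgroup of order 8.
-/

set_option autoImplicit false

namespace Cfsg.Agent.Lib.Classif.Order720

open scoped Pointwise
open Cfsg.Agent.Lib.SmallGroups Cfsg.Agent.Lib.Classif.SmallOrderTools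
  Cfsg.Agent.Lib.Classif.SmallOrderKills Cfsg.Agent.Lib.Classif.SmallOrderInvert

variable {G : Type*} [Group G] [Finite G] [IsSimpleGroup G]

theorem card_normalizer_five (hG : ¬ IsMulCommutative G) (h : Nat.card G = 720) (Q : Sylow 5 G) :
    Nat.card (Subgroup.normalizer ((Q : Subgroup G) : Set G)) = 20 := by
  haveI : Fact (Nat.Prime 5) := ⟨by norm_num⟩
  have hm := OrderSieve.mem_adm hG (p := 5) (a := 1) (m := 144) (by omega) (by norm_num)
    (by norm_num) (by norm_num)
  rw [h, show OrderSieve.adm 720 5 1 144 = [36] by decide +kernel] at hm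
  have h36 : Nat.card (Sylow 5 G) = 36 := by simpa using hm
  have := Sylow.card_normalizer_mul Q
  rw [h36, h] at this
  omega

/-- No subgroup has order 45 or 90. -/
theorem five_not_dvd (hG : ¬ IsMulCommutative G) (h : Nat.card G = 720) (H : Subgroup G)
    (hH : Nat.card H = 45 ∨ Nat.card H = 90) : False := by
  haveI : Fact (Nat.Prime 5) := ⟨by norm_num⟩
  obtain ⟨x, hx⟩ := exists_prime_orderOf_dvd_card' (G := H) 5 (by rcases hH with e | e <;> rw [e] <;> norm_num)
  rw [← Subgroup.orderOf_coe] at hx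
  have hp : IsPGroup 5 (Subgroup.zpowers (x : G)) :=
    IsPGroup.of_card (n := 1) (by rw [Nat.card_zpowers, hx, pow_one])
  obtain ⟨Q, hQ⟩ := hp.exists_le_sylow
  have hQ5 : Nat.card (Q : Subgroup G) = 5 := by
    simpa using Sylow.card_sylow_eq Q (a := 1) (m := 144) (by omega) (by norm_num)
  have hQH : (Q : Subgroup G) ≤ H := by
    rw [← Subgroup.eq_of_le_of_card_ge hQ (by rw [hQ5, Nat.card_zpowers, hx])]
    exact Subgroup.zpowers_le.mpr x.2
  have hM := card_sylow_subgroup_mul Q H hQH
  have hd : Nat.card (Subgroup.normalizer ((Q : Subgroup G) : Set G) ⊓ H : Subgroup G) ∣ 20 := by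
    have := Subgroup.card_dvd_of_le
      (inf_le_left : Subgroup.normalizer ((Q : Subgroup G) : Set G) ⊓ H ≤ _)
    rwa [card_normalizer_five hG h Q] at this
  have h5 : 5 ∣ Nat.card (Subgroup.normalizer ((Q : Subgroup G) : Set G) ⊓ H : Subgroup G) := by
    have := Subgroup.card_dvd_of_le (le_inf Subgroup.le_normalizer hQH : (Q : Subgroup G) ≤ _)
    rwa [hQ5] at this
  have hn : Nat.card (Sylow 5 H) % 5 = 1 := Sylow.card_sylow_mod
  have arith : ∀ m : Fin 21, ∀ x : Fin 2, ((m : ℕ) % 5 = 0 ∧ 20 % (m : ℕ) = 0 ∧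
      (45 * ((x : ℕ) + 1)) % (m : ℕ) = 0 ∧ (45 * ((x : ℕ) + 1)) / (m : ℕ) % 5 = 1) → False := by
    decide +kernel
  have hm0 := Nat.pos_of_dvd_of_pos hd (by norm_num)
  have hm : ∀ i : Fin 2, Nat.card H = 45 * ((i : ℕ) + 1) → False := fun i hi =>
    arith ⟨_, Nat.lt_succ_of_le (Nat.le_of_dvd (by norm_num) hd)⟩ i
      ⟨Nat.dvd_iff_mod_eq_zero.mp h5, Nat.dvd_iff_mod_eq_zero.mp hd,
        by dsimp only; rw [← hi, ← hM, Nat.mul_mod_left],
        by dsimp only; rw [← hi, ← hM, Nat.mul_div_cancel _ hm0]; exact hn⟩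
  rcases hH with e | e
  · exact hm 0 (by rw [e]; rfl)
  · exact hm 1 (by rw [e]; rfl)

/-- The case of 40 Sylow 3-subgroups. -/
theorem false_forty (hG : ¬ IsMulCommutative G) (h : Nat.card G = 720)
    (h40 : Nat.card (Sylow 3 G) = 40) : False := by
  classical
  haveI : Fact (Nat.Prime 3) := ⟨by norm_num⟩
  obtain ⟨P, R, N, hne, hNdef, hD, hPN, hRN, hNtop, m', d, hN, hmi, hdm, hd3, hd⟩ :=
    exists_intersection_normalizer (G := G) (p := 3) (a := 2) (m := 80) (by omega) (by norm_num)
      le_rfl (by rw [h40]; norm_num)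
  set D : Subgroup G := (P : Subgroup G) ⊓ R with hDdef
  have hidx := Sylow.two_mul_card_dvd_factorial hG hNtop
  rw [h] at hidx
  have hi8 : 8 ≤ N.index := by
    by_contra hlt
    push Not at hlt
    have hi0 : N.index ≠ 0 := Subgroup.index_ne_zero_of_finite
    interval_cases hi' : N.index <;> revert hidx <;> decide
  have hm'10 : m' ≤ 10 := by nlinarith
  have hm' : m' = 4 ∨ m' = 8 := by
    have h80 : m' ∣ 80 := Dvd.intro _ hmi
    have hd' : d ≤ m' := Nat.le_of_dvd (Nat.pos_of_dvd_of_pos h80 (by norm_num)) hdm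
    have arith : ∀ m : Fin 11, ∀ d : Fin 11, (80 % (m : ℕ) = 0 ∧ (m : ℕ) % (d : ℕ) = 0 ∧
        (d : ℕ) % 3 = 1 ∧ 3 < (d : ℕ) ∧ (m : ℕ) ≠ 0) →
        (m : ℕ) = 4 ∨ (m : ℕ) = 8 ∨ (m : ℕ) = 10 := by decide +kernel
    have h' := arith ⟨m', by omega⟩ ⟨d, by omega⟩ ⟨Nat.dvd_iff_mod_eq_zero.mp h80,
      Nat.dvd_iff_mod_eq_zero.mp hdm, hd3, hd, by dsimp only; omega⟩
    dsimp only at h'
    rcases h' with e | e | e
    · exact Or.inl e
    · exact Or.inr e
    · exact (five_not_dvd hG h N (Or.inr (by rw [hN, e]; norm_num))).elim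
  have hP9 : Nat.card (P : Subgroup G) = 9 := by
    simpa using Sylow.card_sylow_eq P (a := 2) (m := 80) (by omega) (by norm_num)
  have habel : ∀ Q : Sylow 3 G, IsMulCommutative (Q : Subgroup G) := fun Q =>
    IsPGroup.isMulCommutative_of_card_eq_prime_sq (p := 3)
      (by rw [Sylow.card_eq_multiplicity, ← P.card_eq_multiplicity, hP9]; norm_num)
  set C : Subgroup G := Subgroup.centralizer (D : Set G) with hC
  have hcen : ∀ Q : Sylow 3 G, D ≤ (Q : Subgroup G) → (Q : Subgroup G) ≤ C := by
    intro Q hQ x hx y hy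
    exact congrArg Subtype.val ((habel Q).is_comm.comm ⟨y, hQ hy⟩ ⟨x, hx⟩)
  have hC36 : 36 ≤ Nat.card C := by
    have := (two_sylow_le P R hne C (hcen P inf_le_left) (hcen R inf_le_right)).2
    rw [hP9] at this
    exact this
  have hCN : C ≤ N := by rw [hNdef]; exact Sylow.centralizer_le_normalizer D
  have hNP : Nat.card (Subgroup.normalizer ((P : Subgroup G) : Set G)) =
      2 * Nat.card (P : Subgroup G) := by
    have := Sylow.card_normalizer_mul P
    rw [h40, h] at this
    omega
  obtain ⟨s, hs, -, hinv, hor⟩ := exists_inverting hG P (habel P) (by norm_num) hNP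
  obtain ⟨⟨x, hx⟩, hx3⟩ := exists_prime_orderOf_dvd_card' (G := D) 3 (Dvd.intro_left 1 (by omega))
  rw [Subgroup.orderOf_mk] at hx3
  have hx1 : x ≠ 1 := fun e => by rw [e, orderOf_one] at hx3; omega
  have hxP : x ∈ (P : Subgroup G) := (Subgroup.mem_inf.mp hx).1
  have hzx : Subgroup.zpowers x = D :=
    Subgroup.eq_of_le_of_card_ge (Subgroup.zpowers_le.mpr hx) (by rw [Nat.card_zpowers, hx3]; omega)
  have hsN : s ∈ N := by
    rw [hNdef, Subgroup.mem_normalizer_iff]
    intro y
    constructor
    · intro hy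
      rw [hinv y (Subgroup.mem_inf.mp hy).1]
      exact inv_mem hy
    · intro hy
      have h1 : y ∈ (P : Subgroup G) :=
        (Subgroup.mem_normalizer_iff.mp hs y).mpr (Subgroup.mem_inf.mp hy).1
      rw [hinv y h1] at hy
      exact inv_mem_iff.mp hy
  have hsC : s ∉ C := by
    intro hs'
    have h1 := hinv x hxP
    rw [← hs' x hx, mul_inv_cancel_right] at h1
    have h2 : x ^ 2 = 1 := by rw [pow_two]; nth_rw 1 [h1]; exact inv_mul_cancel x
    have := orderOf_dvd_of_pow_eq_one h2
    rw [hx3] at this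
    norm_num at this
  have hlt : Nat.card C < Nat.card N := by
    by_contra hge
    exact hsC ((Subgroup.eq_of_le_of_card_ge hCN (by omega)) ▸ hsN)
  have h72 : Nat.card N = 72 ∧ Nat.card C = 36 := by
    have hd1 : Nat.card C ∣ Nat.card N := Subgroup.card_dvd_of_le hCN
    obtain ⟨k, hk⟩ := hd1
    rw [hN] at hk hlt ⊢
    have hk2 : 2 ≤ k := by
      by_contra hk'
      interval_cases k <;> omega
    have hmul := Nat.mul_le_mul_left (Nat.card C) hk2
    rcases hm' with e | e <;> rw [e] at hk hlt ⊢ <;> constructor <;> omega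
  have hi10 : N.index = 10 := by
    have := N.card_mul_index
    rw [h72.1, h] at this
    omega
  have hCidx : (C.subgroupOf N).index = 2 := by
    have := Subgroup.card_mul_index (C.subgroupOf N)
    rw [Nat.card_congr (Subgroup.subgroupOfEquivOfLe hCN).toEquiv, h72.2, h72.1] at this
    omega
  -- `x` fixes one coset only
  have hfix : ∀ g : G, g⁻¹ * x * g ∈ N → g ∈ N := by
    intro g hg
    set y := g⁻¹ * x * g with hy
    have hyo : orderOf y = 3 := by
      rw [← hx3]
      have : y = (MulAut.conj g⁻¹).toMonoidHom x := by simp [hy]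
      rw [this]
      exact orderOf_injective _ (MulAut.conj g⁻¹).injective x
    have hyC : y ∈ C := by
      have h4 : y * y * (y * y) = y := by
        have h3 : y ^ 3 = 1 := hyo ▸ pow_orderOf_eq_one y
        calc y * y * (y * y) = y ^ 3 * y := by simp [pow_succ, mul_assoc]
          _ = y := by rw [h3, one_mul]
      have := Subgroup.mul_self_mem_of_index_two hCidx (⟨y, hg⟩ : N)
      rw [← h4]
      exact mul_mem (Subgroup.mem_subgroupOf.mp this) (Subgroup.mem_subgroupOf.mp this)
    have hyp : IsPGroup 3 (Subgroup.zpowers (⟨y, hyC⟩ : C)) :=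
      IsPGroup.of_card (n := 1) (by rw [Nat.card_zpowers, Subgroup.orderOf_mk, hyo, pow_one])
    obtain ⟨T, hT⟩ := hyp.exists_le_sylow
    obtain ⟨c, hc⟩ := MulAction.exists_smul_eq C T (P.subtype (hcen P inf_le_left))
    have hcy : (c : G) * y * (c : G)⁻¹ ∈ (P : Subgroup G) := by
      have : c * ⟨y, hyC⟩ * c⁻¹ ∈ (c • T : Sylow 3 C) := by
        show _ ∈ ((c • T : Sylow 3 C) : Subgroup C)
        rw [Sylow.coe_subgroup_smul, Subgroup.mem_pointwise_smul_iff_inv_smul_mem]
        simp only [← map_inv, MulAut.smul_def, MulAut.conj_apply, inv_inv]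
        simpa [mul_assoc] using hT (Subgroup.mem_zpowers _)
      rw [hc] at this
      exact this
    set k := (c : G) * g⁻¹ with hk
    have hkx : k * x * k⁻¹ = (c : G) * y * (c : G)⁻¹ := by rw [hk, hy]; group
    obtain ⟨n, hn, hne'⟩ := Cfsg.Agent.Lib.Transfer.Fusion.controls_of_isMulCommutative P (habel P)
      x hxP k (hkx ▸ hcy)
    have hpm : k * x * k⁻¹ = x ∨ k * x * k⁻¹ = x⁻¹ := by
      rw [← hne']
      rcases hor n hn with hnP | hnP
      · left
        have := congrArg Subtype.val ((habel P).is_comm.comm ⟨n, hnP⟩ ⟨x, hxP⟩)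
        simp only [Subgroup.coe_mul] at this
        rw [this, mul_inv_cancel_right]
      · right
        have := congrArg Subtype.val ((habel P).is_comm.comm ⟨n * s, hnP⟩ ⟨x⁻¹, inv_mem hxP⟩)
        simp only [Subgroup.coe_mul] at this
        calc n * x * n⁻¹ = (n * s) * (s⁻¹ * x * s) * (n * s)⁻¹ := by group
          _ = (n * s) * x⁻¹ * (n * s)⁻¹ := by
              have h1 := hinv _ (inv_mem hxP)
              rw [inv_inv] at h1
              congr 2
              calc s⁻¹ * x * s = s⁻¹ * (s * x⁻¹ * s⁻¹) * s := by rw [h1]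
                _ = x⁻¹ := by group
          _ = x⁻¹ := by rw [this, mul_inv_cancel_right]
    have hkN : k ∈ N := by
      rw [hNdef, Subgroup.mem_normalizer_iff_map_conj_eq, ← hzx, MonoidHom.map_zpowers]
      show Subgroup.zpowers (k * x * k⁻¹) = _
      rcases hpm with e | e <;> rw [e]
      exact Subgroup.zpowers_inv
    have hgc : g = k⁻¹ * c := by rw [hk]; group
    rw [hgc]
    exact mul_mem (inv_mem hkN) (hCN c.2)
  -- the centraliser in the symmetric group
  haveI : Fintype (G ⧸ N) := Fintype.ofFinite _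
  set σ := MulAction.toPermHom G (G ⧸ N) x with hσ
  have hfp : Fintype.card (Function.fixedPoints σ) = 1 := by
    rw [Fintype.card_eq_one_iff]
    have h1 : σ ((1 : G) : G ⧸ N) = ((1 : G) : G ⧸ N) := by
      show x • ((1 : G) : G ⧸ N) = _
      rw [MulAction.Quotient.smul_coe, QuotientGroup.eq, smul_eq_mul, mul_one, mul_one]
      exact inv_mem (hPN hxP)
    refine ⟨⟨_, h1⟩, ?_⟩
    rintro ⟨q, hq⟩
    induction q using QuotientGroup.induction_on with
    | H g =>
      apply Subtype.ext
      have hq' : x • (g : G ⧸ N) = g := hq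
      rw [MulAction.Quotient.smul_coe, QuotientGroup.eq, smul_eq_mul] at hq'
      show (g : G ⧸ N) = ((1 : G) : G ⧸ N)
      rw [QuotientGroup.eq, mul_one]
      refine inv_mem (hfix g ?_)
      have := inv_mem hq'
      simpa [mul_assoc] using this
  have hσ3 : σ ^ 3 = 1 := by rw [hσ, ← map_pow, ← hx3, pow_orderOf_eq_one, map_one]
  have hct := Equiv.Perm.cycleType_of_pow_prime_eq_one hσ3
  have hcard10 : Fintype.card (G ⧸ N) = 10 := by
    rw [← Nat.card_eq_fintype_card, ← Subgroup.index_eq_card, hi10]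
  have hcyc : σ.cycleType = Multiset.replicate 3 3 := by
    have hsum := σ.sum_cycleType_le
    rw [Equiv.Perm.card_fixedPoints] at hfp
    rw [hct, Multiset.sum_replicate, smul_eq_mul, hcard10] at hsum hfp
    rw [hct]
    congr 1
    omega
  have hcz : Nat.card (Subgroup.centralizer ({σ} : Set (Equiv.Perm (G ⧸ N)))) = 162 := by
    rw [Equiv.Perm.nat_card_centralizer, hcyc, hcard10]
    decide
  have hle : C.map (MulAction.toPermHom G (G ⧸ N)) ≤
      Subgroup.centralizer ({σ} : Set (Equiv.Perm (G ⧸ N))) := by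
    rintro _ ⟨y, hy, rfl⟩
    rw [Subgroup.mem_centralizer_singleton_iff, hσ, ← map_mul, ← map_mul]
    congr 1
    exact (hy x hx).symm
  have h36 := Subgroup.card_dvd_of_le hle
  rw [← Nat.card_congr (C.equivMapOfInjective _ (Sylow.toPermHom_injective hNtop)).toEquiv, h72.2,
    hcz] at h36
  norm_num at h36

/-- With ten Sylow 3-subgroups, any two meet trivially. -/
theorem inf_eq_bot_ten (hG : ¬ IsMulCommutative G) (h : Nat.card G = 720)
    (h10 : Nat.card (Sylow 3 G) = 10) [Fact (Nat.Prime 3)] (P R : Sylow 3 G) (hne : P ≠ R) :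
    (P : Subgroup G) ⊓ R = ⊥ := by
  classical
  by_contra hbot
  set D : Subgroup G := (P : Subgroup G) ⊓ R with hDdef
  have hcard : ∀ Q : Sylow 3 G, Nat.card (Q : Subgroup G) = 9 := fun Q => by
    simpa using Sylow.card_sylow_eq Q (a := 2) (m := 80) (by omega) (by norm_num)
  have hmeet : ∀ A B : Sylow 3 G, A ≠ B → D ≤ A → D ≤ B → (A : Subgroup G) ⊓ B = D := by
    intro A B hAB hA hB
    refine (Subgroup.eq_of_le_of_card_ge (le_inf hA hB) ?_).symm
    have hd : Nat.card ((A : Subgroup G) ⊓ B : Subgroup G) ∣ 3 ^ 2 := by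
      have := Subgroup.card_dvd_of_le (inf_le_left : (A : Subgroup G) ⊓ B ≤ A)
      rwa [hcard] at this
    have hD1 : 1 < Nat.card D := Subgroup.one_lt_card_iff_ne_bot D |>.mpr hbot
    obtain ⟨k, hk, hk'⟩ := (Nat.dvd_prime_pow Nat.prime_three).mp hd
    have hdD : Nat.card D ∣ 3 ^ 2 := by
      have := Subgroup.card_dvd_of_le (inf_le_left : D ≤ (P : Subgroup G))
      rwa [hcard] at this
    obtain ⟨j, hj, hj'⟩ := (Nat.dvd_prime_pow Nat.prime_three).mp hdD
    have hk1 : k ≠ 2 := by
      rintro rfl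
      exact hAB (Sylow.ext ((Subgroup.eq_of_le_of_card_ge inf_le_left (by rw [hcard, hk']; norm_num)).symm.trans
        (Subgroup.eq_of_le_of_card_ge inf_le_right (by rw [hcard, hk']; norm_num))))
    have hj0 : j ≠ 0 := by rintro rfl; rw [hj'] at hD1; norm_num at hD1
    rw [hk', hj']
    exact Nat.pow_le_pow_right (by norm_num) (by omega)
  have hD3 : Nat.card D = 3 := by
    have hdD : Nat.card D ∣ 3 ^ 2 := by
      have := Subgroup.card_dvd_of_le (inf_le_left : D ≤ (P : Subgroup G))
      rwa [hcard] at this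
    obtain ⟨j, hj, hj'⟩ := (Nat.dvd_prime_pow Nat.prime_three).mp hdD
    interval_cases j
    · exact absurd (Subgroup.card_eq_one.mp (by simpa using hj')) hbot
    · simpa using hj'
    · exfalso
      exact hne (Sylow.ext ((Subgroup.eq_of_le_of_card_ge inf_le_left (by rw [hcard, hj']; norm_num)).symm.trans
        (Subgroup.eq_of_le_of_card_ge inf_le_right (by rw [hcard, hj']; norm_num))))
  have habel : ∀ Q : Sylow 3 G, IsMulCommutative (Q : Subgroup G) := fun Q =>
    IsPGroup.isMulCommutative_of_card_eq_prime_sq (p := 3) (by rw [hcard]; norm_num)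
  set C : Subgroup G := Subgroup.centralizer (D : Set G) with hC
  have hcen : ∀ Q : Sylow 3 G, D ≤ (Q : Subgroup G) → (Q : Subgroup G) ≤ C := by
    intro Q hQ x hx y hy
    exact congrArg Subtype.val ((habel Q).is_comm.comm ⟨y, hQ hy⟩ ⟨x, hx⟩)
  -- four Sylow subgroups above `D`
  obtain ⟨x, hxP, hxD⟩ : ∃ x ∈ (P : Subgroup G), x ∉ D :=
    SetLike.not_le_iff_exists.mp fun hle => by
      have := Subgroup.card_le_of_le hle; rw [hcard] at this; omega
  have hx9 : x ^ 9 = 1 := by
    have := pow_card_eq_one' (x := (⟨x, hxP⟩ : (P : Subgroup G)))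
    rw [hcard] at this
    simpa using congrArg Subtype.val this
  have hxR : x • R ≠ R := fun he => hxD ⟨hxP, mem_of_smul_eq x (n := 2) (by simpa using hx9) R he⟩
  have hx2R : (x * x) • R ≠ R := by
    intro he
    have h2 : x * x ∈ R := mem_of_smul_eq (x * x) (n := 2)
      (by show (x * x) ^ 9 = 1; rw [← pow_two, ← pow_mul, mul_comm, pow_mul, hx9, one_pow]) R he
    refine hxD ⟨hxP, ?_⟩
    have : x = (x * x) ^ 5 := by
      rw [← pow_two, ← pow_mul, show 2 * 5 = 9 + 1 by norm_num, pow_succ, hx9, one_mul]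
    rw [this]
    exact pow_mem h2 5
  have hxP' : x • P = P := Sylow.smul_eq_iff_mem_normalizer.mpr (Subgroup.le_normalizer hxP)
  have hfixD : ∀ y ∈ (P : Subgroup G), ∀ Q : Sylow 3 G, D ≤ (Q : Subgroup G) →
      D ≤ ((y • Q : Sylow 3 G) : Subgroup G) := by
    intro y hy Q hQ z hz
    rw [Sylow.coe_subgroup_smul, Subgroup.mem_pointwise_smul_iff_inv_smul_mem]
    simp only [← map_inv, MulAut.smul_def, MulAut.conj_apply, inv_inv]
    have : z * y = y * z := hcen P inf_le_left hy z hz
    rw [mul_assoc, this, inv_mul_cancel_left]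
    exact hQ hz
  let f : Fin 4 → Sylow 3 G := ![P, R, x • R, (x * x) • R]
  have hfi : Function.Injective f := by
    have e1 : P ≠ x • R := fun e => hne (MulAction.injective x (hxP'.trans e))
    have e2 : P ≠ (x * x) • R := fun e => hne (MulAction.injective (x * x)
      (by show (x * x) • P = (x * x) • R; rw [mul_smul, hxP', hxP', e]))
    have e3 : x • R ≠ (x * x) • R := fun e => hxR (MulAction.injective x
      (show x • (x • R) = x • R by rw [smul_smul, ← e]))
    intro i j hij
    fin_cases i <;> fin_cases j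
    all_goals first
      | rfl
      | exact absurd hij hne
      | exact absurd hij hne.symm
      | exact absurd hij e1
      | exact absurd hij e1.symm
      | exact absurd hij e2
      | exact absurd hij e2.symm
      | exact absurd hij e3
      | exact absurd hij e3.symm
      | exact absurd hij hxR
      | exact absurd hij hxR.symm
      | exact absurd hij hx2R
      | exact absurd hij hx2R.symm
  have hfD : ∀ i, D ≤ (f i : Subgroup G) := by
    intro i
    fin_cases i
    · exact inf_le_left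
    · exact inf_le_right
    · exact hfixD x hxP R inf_le_right
    · exact hfixD _ (mul_mem hxP hxP) R inf_le_right
  set N := Subgroup.normalizer (D : Set G) with hNdef
  have hidx10 : 10 ≤ N.index := by
    have hNtop : N ≠ ⊤ := by
      intro htop
      rcases (Subgroup.normalizer_eq_top_iff.mp htop).eq_bot_or_eq_top with h' | h'
      · exact hbot h'
      · rw [h', Subgroup.card_top, h] at hD3; omega
    have hPN : (P : Subgroup G) ≤ N := (hcen P inf_le_left).trans (Sylow.centralizer_le_normalizer D)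
    have h9 : 9 ∣ Nat.card N := hcard P ▸ Subgroup.card_dvd_of_le hPN
    have hidx := Sylow.two_mul_card_dvd_factorial hG hNtop
    have hmul := N.card_mul_index
    rw [h] at hidx hmul
    by_contra hlt
    push Not at hlt
    have hi0 : N.index ≠ 0 := Subgroup.index_ne_zero_of_finite
    have hi8 : N.index = 8 := by
      interval_cases hi' : N.index <;> first
        | rfl
        | omega
        | (revert hidx; decide)
    exact five_not_dvd hG h N (Or.inr (by rw [hi8] at hmul; omega))
  -- count ordered pairs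
  let F : (G ⧸ N) × {p : Fin 4 × Fin 4 // p.1 ≠ p.2} → {p : Sylow 3 G × Sylow 3 G // p.1 ≠ p.2} :=
    fun a => ⟨(a.1.out • f a.2.1.1, a.1.out • f a.2.1.2),
      fun e => a.2.2 (hfi (MulAction.injective _ e))⟩
  have hF : Function.Injective F := by
    rintro ⟨q, ⟨⟨i, j⟩, hij⟩⟩ ⟨q', ⟨⟨i', j'⟩, hij'⟩⟩ he
    have he' := congrArg Subtype.val he
    simp only [F, Prod.mk.injEq] at he'
    obtain ⟨h1, h2⟩ := he'
    have hconj : MulAut.conj q.out • D = MulAut.conj q'.out • D := by
      conv_lhs => rw [← hmeet (f i) (f j) (fun e => hij (hfi e)) (hfD i) (hfD j)]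
      conv_rhs => rw [← hmeet (f i') (f j') (fun e => hij' (hfi e)) (hfD i') (hfD j')]
      rw [Subgroup.smul_inf, Subgroup.smul_inf, ← Sylow.coe_subgroup_smul,
        ← Sylow.coe_subgroup_smul, ← Sylow.coe_subgroup_smul, ← Sylow.coe_subgroup_smul, h1, h2]
    have hq : q = q' := by
      rw [← QuotientGroup.out_eq' q, ← QuotientGroup.out_eq' q', QuotientGroup.eq]
      refine Subgroup.mem_normalizer_iff_map_conj_eq.mpr ?_
      have h3 : MulAut.conj (q.out⁻¹ * q'.out) • D = D := by
        rw [map_mul, mul_smul, ← hconj, smul_smul, ← map_mul, inv_mul_cancel, map_one, one_smul]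
      exact h3
    subst hq
    have e1 := hfi (MulAction.injective _ h1)
    have e2 := hfi (MulAction.injective _ h2)
    subst e1; subst e2; rfl
  have hFc := Nat.card_le_card_of_injective F hF
  haveI : Fintype (Sylow 3 G) := Fintype.ofFinite _
  have hpairs : Nat.card {p : Sylow 3 G × Sylow 3 G // p.1 ≠ p.2} = 90 := by
    rw [Nat.card_eq_fintype_card, Fintype.card_subtype_compl, Fintype.card_prod,
      ← Nat.card_eq_fintype_card, h10]
    have : Fintype.card {p : Sylow 3 G × Sylow 3 G // p.1 = p.2} = 10 := by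
      rw [← h10, Nat.card_eq_fintype_card]
      exact Fintype.card_congr ⟨fun p => p.1.1, fun a => ⟨(a, a), rfl⟩,
        fun ⟨⟨a, b⟩, hab⟩ => by cases hab; rfl, fun a => rfl⟩
    rw [this]
  rw [Nat.card_prod, hpairs, ← Subgroup.index_eq_card, Nat.card_eq_fintype_card,
    show Fintype.card {p : Fin 4 × Fin 4 // p.1 ≠ p.2} = 12 by decide] at hFc
  omega

/-- The case of ten Sylow 3-subgroups. -/
theorem false_ten (hG : ¬ IsMulCommutative G) (h : Nat.card G = 720)
    (h10 : Nat.card (Sylow 3 G) = 10) : False := by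
  classical
  haveI : Fact (Nat.Prime 3) := ⟨by norm_num⟩
  haveI : Fact (Nat.Prime 2) := ⟨Nat.prime_two⟩
  haveI : Fintype (Sylow 3 G) := Fintype.ofFinite _
  have hcard : ∀ Q : Sylow 3 G, Nat.card (Q : Subgroup G) = 9 := fun Q => by
    simpa using Sylow.card_sylow_eq Q (a := 2) (m := 80) (by omega) (by norm_num)
  have h9 : ∀ (A : Sylow 3 G) (x : G), x ∈ A → x ^ 9 = 1 := fun A x hx => by
    have := pow_card_eq_one' (x := (⟨x, hx⟩ : (A : Subgroup G)))
    rw [hcard] at this
    simpa using congrArg Subtype.val this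
  have hsemi : ∀ (A B : Sylow 3 G), A ≠ B → ∀ x ∈ (A : Subgroup G), x • B = B → x = 1 := by
    intro A B hAB x hx he
    have hxB := mem_of_smul_eq x (n := 2) (by simpa using h9 A x hx) B he
    have : x ∈ (A : Subgroup G) ⊓ B := ⟨hx, hxB⟩
    rw [inf_eq_bot_ten hG h h10 A B hAB] at this
    exact Subgroup.mem_bot.mp this
  have hfixA : ∀ (A : Sylow 3 G), ∀ x ∈ (A : Subgroup G), x • A = A := fun A x hx =>
    Sylow.smul_eq_iff_mem_normalizer.mpr (Subgroup.le_normalizer hx)
  have hreg : ∀ (A B C : Sylow 3 G), A ≠ B → A ≠ C → ∃ x ∈ (A : Subgroup G), x • B = C := by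
    intro A B C hAB hAC
    let F : ↥(A : Subgroup G) → {R : Sylow 3 G // R ≠ A} := fun x => ⟨(x : G) • B,
      fun e => hAB (MulAction.injective (x : G) (show (x : G) • A = (x : G) • B from
        (hfixA A x x.2).trans e.symm))⟩
    have hFi : Function.Injective F := by
      intro x y hxy
      have h1 : (x : G) • B = (y : G) • B := congrArg Subtype.val hxy
      have h2 := hsemi A B hAB ((y : G)⁻¹ * x) (mul_mem (inv_mem y.2) x.2)
        (by rw [mul_smul, h1, inv_smul_smul])
      exact Subtype.ext (inv_mul_eq_one.mp h2).symm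
    have hcR : Nat.card {R : Sylow 3 G // R ≠ A} = 9 := by
      rw [Nat.card_eq_fintype_card, Fintype.card_subtype_compl, Fintype.card_subtype_eq,
        ← Nat.card_eq_fintype_card, h10]
    have hFb := (Nat.bijective_iff_injective_and_card F).mpr ⟨hFi, by rw [hcard, hcR]⟩
    obtain ⟨x, hx⟩ := hFb.2 ⟨C, hAC.symm⟩
    exact ⟨x, x.2, congrArg Subtype.val hx⟩
  let P : Sylow 3 G := default
  obtain ⟨Q, hQP⟩ : ∃ Q : Sylow 3 G, Q ≠ P := by
    haveI : Nontrivial (Sylow 3 G) := Finite.one_lt_card_iff_nontrivial.mp (by rw [h10]; norm_num)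
    exact exists_ne P
  let K : Subgroup G :=
    Subgroup.normalizer ((P : Subgroup G) : Set G) ⊓ Subgroup.normalizer ((Q : Subgroup G) : Set G)
  have hK : ∀ g, g ∈ K ↔ g • P = P ∧ g • Q = Q := fun g =>
    ⟨fun hg => ⟨Sylow.smul_eq_iff_mem_normalizer.mpr hg.1, Sylow.smul_eq_iff_mem_normalizer.mpr hg.2⟩,
      fun hg => ⟨Sylow.smul_eq_iff_mem_normalizer.mp hg.1, Sylow.smul_eq_iff_mem_normalizer.mp hg.2⟩⟩
  have hK8 : Nat.card K = 8 := by
    let F : ↥(P : Subgroup G) × K → Subgroup.normalizer ((P : Subgroup G) : Set G) := fun a =>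
      ⟨a.1.1 * a.2.1, mul_mem (Subgroup.le_normalizer a.1.2) a.2.2.1⟩
    have hFb : Function.Bijective F := by
      constructor
      · rintro ⟨a, b⟩ ⟨a', b'⟩ he
        have he' : a.1 * b.1 = a'.1 * b'.1 := congrArg Subtype.val he
        have h1 : a'.1⁻¹ * a.1 = b'.1 * b.1⁻¹ := by
          rw [eq_mul_inv_iff_mul_eq, mul_assoc, he', inv_mul_cancel_left]
        have h2 := hsemi P Q hQP.symm _ (mul_mem (inv_mem a'.2) a.2)
          (h1 ▸ ((hK _).mp (mul_mem b'.2 (inv_mem b.2))).2)
        have : a = a' := Subtype.ext (inv_mul_eq_one.mp h2).symm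
        subst this
        exact Prod.ext rfl (Subtype.ext (mul_left_cancel he'))
      · rintro ⟨g, hg⟩
        have hgP : g • P = P := Sylow.smul_eq_iff_mem_normalizer.mpr hg
        obtain ⟨x, hx, hxQ⟩ := hreg P Q (g • Q) hQP.symm
          (fun e => hQP (MulAction.injective g (hgP.trans e)).symm)
        refine ⟨(⟨x, hx⟩, ⟨x⁻¹ * g, (hK _).mpr ⟨?_, ?_⟩⟩), Subtype.ext (mul_inv_cancel_left x g)⟩
        · rw [mul_smul, hgP, inv_smul_eq_iff, hfixA P x hx]
        · rw [mul_smul, ← hxQ, inv_smul_smul]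
    have := Nat.card_eq_of_bijective F hFb
    have hN := Sylow.card_normalizer_mul P
    rw [Nat.card_prod, hcard] at this
    rw [h10, h] at hN
    omega
  have hinj : ∀ g : G, (∀ R : Sylow 3 G, g • R = R) → g = 1 := by
    intro g hg
    by_contra hne
    obtain ⟨R, hR⟩ := not_fix_all (p := 3) (by omega) hne
    exact hR (hg R)
  -- involutions in `K`
  have hinvol : ∀ u ∈ K, orderOf u = 2 →
      (∀ x ∈ (P : Subgroup G), u * x * u⁻¹ = x⁻¹) ∧ ∀ R : Sylow 3 G, u • R = R → R = P ∨ R = Q := by
    intro u hu huo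
    have huu : u * u = 1 := by rw [← pow_two, ← huo, pow_orderOf_eq_one]
    have hui : u⁻¹ = u := inv_eq_of_mul_eq_one_right huu
    have huP := ((hK u).mp hu).1
    have huQ := ((hK u).mp hu).2
    have hfx : ∀ x ∈ (P : Subgroup G), u • (x • Q) = x • Q → u * x * u⁻¹ = x := by
      intro x hx he
      have hmem : x⁻¹ * (u * x * u⁻¹) ∈ (P : Subgroup G) :=
        mul_mem (inv_mem hx) ((Subgroup.mem_normalizer_iff.mp hu.1 x).mp hx)
      refine (inv_mul_eq_one.mp (hsemi P Q hQP.symm _ hmem ?_)).symm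
      rw [mul_smul, mul_smul, mul_smul, inv_smul_eq_iff.mpr huQ.symm, he, inv_smul_smul]
    set W : Subgroup G := (P : Subgroup G) ⊓ Subgroup.centralizer ({u} : Set G) with hW
    have hWd : Nat.card W ∣ 3 ^ 2 := by
      have := Subgroup.card_dvd_of_le (inf_le_left : W ≤ (P : Subgroup G))
      rwa [hcard] at this
    have hfixcard : Nat.card {R : Sylow 3 G // u • R = R} = Nat.card W + 1 := by
      have hcomm : ∀ x ∈ W, u • (x • Q) = x • Q := by
        intro x hx
        rw [smul_smul, ← Subgroup.mem_centralizer_singleton_iff.mp hx.2, mul_smul, huQ]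
      let F : Option W → {R : Sylow 3 G // u • R = R} := fun o => match o with
        | none => ⟨P, huP⟩
        | some x => ⟨(x : G) • Q, hcomm x x.2⟩
      have hFb : Function.Bijective F := by
        constructor
        · intro a b hab
          have hne : ∀ x : W, (x : G) • Q ≠ P := fun x e => hQP (MulAction.injective (x : G)
            (show (x : G) • Q = (x : G) • P by rw [e, hfixA P x x.2.1]))
          rcases a with _ | a <;> rcases b with _ | b
          · rfl
          · exact absurd (congrArg Subtype.val hab).symm (hne b)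
          · exact absurd (congrArg Subtype.val hab) (hne a)
          · have h1 : (a : G) • Q = (b : G) • Q := congrArg Subtype.val hab
            have h2 := hsemi P Q hQP.symm ((b : G)⁻¹ * a) (mul_mem (inv_mem b.2.1) a.2.1)
              (by rw [mul_smul, h1, inv_smul_smul])
            exact congrArg some (Subtype.ext (inv_mul_eq_one.mp h2).symm)
        · rintro ⟨R, hR⟩
          by_cases hRP : R = P
          · subst hRP; exact ⟨none, rfl⟩
          obtain ⟨x, hx, rfl⟩ := hreg P Q R hQP.symm (Ne.symm hRP)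
          have hxW : x ∈ W := ⟨hx, Subgroup.mem_centralizer_singleton_iff.mpr
            (mul_inv_eq_iff_eq_mul.mp (hfx x hx hR)).symm⟩
          exact ⟨some ⟨x, hxW⟩, rfl⟩
      rw [← Nat.card_eq_of_bijective F hFb, Finite.card_option]
    have h4 := four_dvd_moved (α := Sylow 3 G) hG u (by rw [pow_two, huu])
    rw [h10, hfixcard] at h4
    have hlt : Nat.card {R : Sylow 3 G // u • R = R} < 10 := by
      obtain ⟨R, hR⟩ := not_fix_all (p := 3) (by omega) (show u ≠ 1 from fun e => by
        rw [e, orderOf_one] at huo; omega)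
      rw [← h10]
      exact Finite.card_subtype_lt hR
    rw [hfixcard] at hlt
    obtain ⟨k, hk, hk'⟩ := (Nat.dvd_prime_pow Nat.prime_three).mp hWd
    have hk0 : k = 0 := by interval_cases k <;> omega
    rw [hk0, pow_zero] at hk'
    have hW1 : W = ⊥ := Subgroup.card_eq_one.mp hk'
    constructor
    · intro x hx
      have hy : u * x * u⁻¹ ∈ (P : Subgroup G) := (Subgroup.mem_normalizer_iff.mp hu.1 x).mp hx
      have hcm : x * (u * x * u⁻¹) = u * x * u⁻¹ * x := congrArg Subtype.val
        ((IsPGroup.isMulCommutative_of_card_eq_prime_sq (p := 3) (by rw [hcard]; norm_num) :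
          IsMulCommutative (P : Subgroup G)).is_comm.comm ⟨x, hx⟩ ⟨_, hy⟩)
      have hxW : x * (u * x * u⁻¹) ∈ W := by
        refine ⟨mul_mem hx hy, Subgroup.mem_centralizer_singleton_iff.mpr ?_⟩
        calc x * (u * x * u⁻¹) * u = (u * u) * x * (u * x) := by rw [huu, one_mul]; group
          _ = u * (u * x * u⁻¹ * x) := by
              rw [hui]
              simp only [mul_assoc]
          _ = u * (x * (u * x * u⁻¹)) := by rw [hcm]
      rw [hW1, Subgroup.mem_bot] at hxW
      exact eq_inv_of_mul_eq_one_right hxW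
    · intro R hR
      by_cases hRP : R = P
      · exact Or.inl hRP
      obtain ⟨x, hx, rfl⟩ := hreg P Q R hQP.symm (Ne.symm hRP)
      have hxW : x ∈ W := ⟨hx, Subgroup.mem_centralizer_singleton_iff.mpr
        (mul_inv_eq_iff_eq_mul.mp (hfx x hx hR)).symm⟩
      rw [hW1, Subgroup.mem_bot] at hxW
      rw [hxW, one_smul]
      exact Or.inr rfl
  obtain ⟨u, huK, hu⟩ := exists_involution (H := K) (by rw [hK8]; norm_num)
  have huu : u * u = 1 := by rw [← pow_two, ← hu, pow_orderOf_eq_one]
  have hu1 : u ≠ 1 := fun e => by rw [e, orderOf_one] at hu; omega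
  have huniq : ∀ v ∈ K, orderOf v = 2 → v = u := by
    intro v hv hvo
    have hvu : v * u = 1 := by
      refine hinj _ fun R => ?_
      have hP' : (v * u) • P = P := ((hK _).mp (mul_mem hv huK)).1
      by_cases hRP : R = P
      · rw [hRP]; exact hP'
      obtain ⟨x, hx, rfl⟩ := hreg P Q R hQP.symm (Ne.symm hRP)
      have h1 : v * u * x * (v * u)⁻¹ = x := by
        calc v * u * x * (v * u)⁻¹ = v * (u * x * u⁻¹) * v⁻¹ := by group
          _ = v * x⁻¹ * v⁻¹ := by rw [(hinvol u huK hu).1 x hx]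
          _ = x := by rw [(hinvol v hv hvo).1 _ (inv_mem hx), inv_inv]
      rw [smul_smul, mul_inv_eq_iff_eq_mul.mp h1, mul_smul,
        ((hK _).mp (mul_mem hv huK)).2]
    exact (mul_eq_one_iff_eq_inv.mp hvu).trans (inv_eq_of_mul_eq_one_right huu)
  have hno8 : ∀ k ∈ K, k ^ 4 = 1 := by
    intro k hk
    have hd : orderOf k ∣ 2 ^ 3 := by
      rw [← Subgroup.orderOf_mk k hk]
      have := orderOf_dvd_natCard (⟨k, hk⟩ : K)
      rwa [hK8] at this
    obtain ⟨j, hj, hj'⟩ := (Nat.dvd_prime_pow Nat.prime_two).mp hd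
    by_contra h4
    have hj3 : j = 3 := by
      by_contra hne
      exact h4 (orderOf_dvd_iff_pow_eq_one.mp (hj' ▸ (pow_dvd_pow 2 (show j ≤ 2 by omega))))
    set σ := MulAction.toPermHom G (Sylow 3 G) k with hσ
    have hσo : orderOf σ = 8 := by
      rw [hσ, orderOf_injective _ (fun a b hab => by
        have := hinj (b⁻¹ * a) fun R => by
          rw [mul_smul, inv_smul_eq_iff]
          exact Equiv.congr_fun hab R
        exact (inv_mul_eq_one.mp this).symm), hj', hj3]
      norm_num
    have hs := sign_toPermHom_eq_one hG (α := Sylow 3 G) k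
    rw [← hσ] at hs
    have hsup : σ.support.card ≤ 8 := by
      have hsub : σ.support ⊆ ((Finset.univ : Finset (Sylow 3 G)).erase P).erase Q := by
        intro R hR
        rw [Equiv.Perm.mem_support] at hR
        refine Finset.mem_erase.mpr ⟨?_, Finset.mem_erase.mpr ⟨?_, Finset.mem_univ _⟩⟩
        · rintro rfl; exact hR ((hK k).mp hk).2
        · rintro rfl; exact hR ((hK k).mp hk).1
      refine (Finset.card_le_card hsub).trans ?_
      rw [Finset.card_erase_of_mem (Finset.mem_erase.mpr ⟨hQP, Finset.mem_univ _⟩),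
        Finset.card_erase_of_mem (Finset.mem_univ _), Finset.card_univ, ← Nat.card_eq_fintype_card,
        h10]
    have h8mem : 8 ∈ σ.cycleType := by
      by_contra hn8
      have : σ.cycleType.lcm ∣ 4 := Multiset.lcm_dvd.mpr fun n hn => by
        have hd8 := Equiv.Perm.dvd_of_mem_cycleType hn
        rw [hσo] at hd8
        have := Nat.le_of_dvd (by norm_num) hd8
        have hne : n ≠ 8 := fun e => hn8 (e ▸ hn)
        interval_cases n <;> omega
      rw [Equiv.Perm.lcm_cycleType, hσo] at this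
      norm_num at this
    obtain ⟨rest, hrest⟩ := Multiset.exists_cons_of_mem h8mem
    have hsum := σ.sum_cycleType
    rw [hrest, Multiset.sum_cons] at hsum
    have hrest0 : rest = 0 := by
      by_contra hne
      obtain ⟨n, hn⟩ := Multiset.exists_mem_of_ne_zero hne
      have h2 := Equiv.Perm.two_le_of_mem_cycleType (σ := σ) (n := n)
        (hrest ▸ Multiset.mem_cons_of_mem hn)
      have := Multiset.le_sum_of_mem hn
      omega
    rw [Equiv.Perm.sign_of_cycleType, hrest, hrest0] at hs
    simp at hs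
    exact absurd hs (by decide)
  -- the setwise stabiliser
  let S : Subgroup G :=
    { carrier := {g | (g • P = P ∧ g • Q = Q) ∨ (g • P = Q ∧ g • Q = P)}
      one_mem' := Or.inl ⟨one_smul _ _, one_smul _ _⟩
      mul_mem' := by
        intro a b ha hb
        rcases ha with ⟨a1, a2⟩ | ⟨a1, a2⟩ <;> rcases hb with ⟨b1, b2⟩ | ⟨b1, b2⟩
        · exact Or.inl ⟨by rw [mul_smul, b1, a1], by rw [mul_smul, b2, a2]⟩
        · exact Or.inr ⟨by rw [mul_smul, b1, a2], by rw [mul_smul, b2, a1]⟩
        · exact Or.inr ⟨by rw [mul_smul, b1, a1], by rw [mul_smul, b2, a2]⟩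
        · exact Or.inl ⟨by rw [mul_smul, b1, a2], by rw [mul_smul, b2, a1]⟩
      inv_mem' := by
        intro a ha
        rcases ha with ⟨a1, a2⟩ | ⟨a1, a2⟩
        · exact Or.inl ⟨by rw [inv_smul_eq_iff, a1], by rw [inv_smul_eq_iff, a2]⟩
        · exact Or.inr ⟨by rw [inv_smul_eq_iff, a2], by rw [inv_smul_eq_iff, a1]⟩ }
  have hKS : K ≤ S := fun g hg => Or.inl ((hK g).mp hg)
  obtain ⟨w₀, hw₀⟩ : ∃ w, w • P = Q ∧ w • Q = P := by
    obtain ⟨g, hg⟩ := MulAction.exists_smul_eq G P Q
    obtain ⟨x, hx, hxR⟩ := hreg Q (g • Q) P (fun e => hQP (MulAction.injective g (hg.trans e)).symm) hQP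
    exact ⟨x * g, by rw [mul_smul, hg, hfixA Q x hx], by rw [mul_smul, hxR]⟩
  have hw₀S : w₀ ∈ S := Or.inr hw₀
  have hidxK : (K.subgroupOf S).index = 2 := by
    rw [Subgroup.index_eq_two_iff]
    refine ⟨⟨w₀, hw₀S⟩, fun b => ?_⟩
    rcases b.2 with ⟨b1, b2⟩ | ⟨b1, b2⟩
    · refine Or.inr ⟨Subgroup.mem_subgroupOf.mpr ((hK _).mpr ⟨b1, b2⟩), fun hm => ?_⟩
      have := ((hK _).mp (Subgroup.mem_subgroupOf.mp hm)).1
      simp only [Subgroup.coe_mul, mul_smul, hw₀.1, b2] at this
      exact hQP this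
    · refine Or.inl ⟨Subgroup.mem_subgroupOf.mpr ((hK _).mpr ⟨?_, ?_⟩), fun hm => ?_⟩
      · simp only [Subgroup.coe_mul, mul_smul, hw₀.1, b2]
      · simp only [Subgroup.coe_mul, mul_smul, hw₀.2, b1]
      · have := ((hK _).mp (Subgroup.mem_subgroupOf.mp hm)).1
        rw [b1] at this
        exact hQP this
  have hS16 : Nat.card S = 16 := by
    have := Subgroup.card_mul_index (K.subgroupOf S)
    rw [Nat.card_congr (Subgroup.subgroupOfEquivOfLe hKS).toEquiv, hK8, hidxK] at this
    omega
  have hsqK : ∀ g ∈ S, g * g ∈ K := fun g hg =>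
    Subgroup.mem_subgroupOf.mp (Subgroup.mul_self_mem_of_index_two hidxK (⟨g, hg⟩ : S))
  have hswap : ∀ g ∈ S, g ∉ K → g • P = Q ∧ g • Q = P := fun g hg hgK =>
    hg.resolve_left fun h' => hgK ((hK g).mpr h')
  have hord2 : ∀ g ∈ S, g ∉ K → g ^ 4 = 1 → g * g = 1 := by
    intro g hg hgK hg4
    by_contra hne
    have ho : orderOf (g * g) = 2 :=
      orderOf_eq_prime (by rw [← pow_two, ← pow_mul, hg4]) hne
    have hfixg := (hinvol _ (hsqK g hg) ho).2
    have hs := sign_toPermHom_eq_one hG (α := Sylow 3 G) g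
    have hsq : ∀ R : Sylow 3 G, g • g • R = R → R = P ∨ R = Q := fun R hR =>
      hfixg R (by rwa [mul_smul])
    rw [sign_eq_neg_one_of_pow_four (MulAction.toPermHom G (Sylow 3 G) g)
      (by rw [← map_pow, hg4, map_one])
      (fun R hR => by
        have hR' : g • R = R := hR
        have h1 := hswap g hg hgK
        rcases hsq R (by rw [hR', hR']) with rfl | rfl
        · exact hQP (h1.1.symm.trans hR')
        · exact hQP (hR'.symm.trans h1.2))
      P (show g • g • P = P by rw [(hswap g hg hgK).1, (hswap g hg hgK).2])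
      (fun R hR => (hsq R hR).imp id fun e => e.trans (hswap g hg hgK).1.symm)
      (by rw [← Nat.card_eq_fintype_card, h10])] at hs
    exact absurd hs (by decide)
  -- an element of order eight
  obtain ⟨w, hwS, hwK, hw4⟩ : ∃ w ∈ S, w ∉ K ∧ w ^ 4 ≠ 1 := by
    by_contra hcon
    push Not at hcon
    have hall : ∀ g ∈ S, g ∉ K → g * g = 1 := fun g hg hgK => hord2 g hg hgK (hcon g hg hgK)
    have hw₀K : w₀ ∉ K := fun e => hQP (hw₀.1.symm.trans ((hK _).mp e).1)
    have hinvK : ∀ k ∈ K, w₀ * k * w₀⁻¹ = k⁻¹ := by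
      intro k hk
      have hnot : w₀ * k ∉ K := fun e => hw₀K (by simpa using mul_mem e (inv_mem hk))
      have h1 := hall _ (mul_mem hw₀S (hKS hk)) hnot
      have h2 := hall _ hw₀S hw₀K
      rw [inv_eq_of_mul_eq_one_right h2]
      exact eq_inv_of_mul_eq_one_left (by rw [← h1]; group)
    have hab : ∀ a ∈ K, ∀ b ∈ K, a * b = b * a := by
      intro a ha b hb
      have h1 := hinvK _ (mul_mem ha hb)
      rw [← conj_mul, hinvK a ha, hinvK b hb, mul_inv_rev] at h1
      have h2 := congrArg (·⁻¹) h1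
      simp only [mul_inv_rev, inv_inv] at h2
      exact h2.symm
    obtain ⟨k, hk, hk1, hku⟩ : ∃ k ∈ K, k ≠ 1 ∧ k ≠ u := by
      by_contra hc
      push Not at hc
      have : (K : Set G) ⊆ {1, u} := fun k hk => by
        by_cases h1 : k = 1
        · exact Or.inl h1
        · exact Or.inr (hc k hk h1)
      have := Set.ncard_le_ncard this
      rw [← Nat.card_coe_set_eq] at this
      have h2 : ({1, u} : Set G).ncard ≤ 2 := (Set.ncard_insert_le _ _).trans (by simp)
      have h3 : Nat.card (K : Set G) = 8 := hK8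
      omega
    have hsqu : ∀ k ∈ K, k ≠ 1 → k ≠ u → k * k = u := by
      intro k hk hk1 hku
      have hkk : k * k ≠ 1 := fun e => hku (huniq k hk (orderOf_eq_prime (by rw [pow_two, e]) hk1))
      exact huniq _ (mul_mem hk hk) (orderOf_eq_prime (by rw [← pow_two, ← pow_mul, hno8 k hk]) hkk)
    have hkk := hsqu k hk hk1 hku
    have hall' : (K : Set G) ⊆ {1, u, k, k * u} := by
      intro a ha
      simp only [Set.mem_insert_iff, Set.mem_singleton_iff]
      by_cases ha1 : a = 1
      · exact Or.inl ha1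
      by_cases hau : a = u
      · exact Or.inr (Or.inl hau)
      have haa := hsqu a ha ha1 hau
      set b := k⁻¹ * a with hb
      have hbK : b ∈ K := mul_mem (inv_mem hk) ha
      have hbb : b * b = 1 := by
        calc b * b = k⁻¹ * (a * k⁻¹) * a := by rw [hb]; group
          _ = k⁻¹ * (k⁻¹ * a) * a := by rw [hab a ha _ (inv_mem hk)]
          _ = (k * k)⁻¹ * (a * a) := by group
          _ = 1 := by rw [hkk, haa, inv_mul_cancel]
      by_cases hb1 : b = 1
      · exact Or.inr (Or.inr (Or.inl (inv_mul_eq_one.mp hb1).symm))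
      · have := huniq b hbK (orderOf_eq_prime (by rw [pow_two, hbb]) hb1)
        exact Or.inr (Or.inr (Or.inr (by rw [← this, hb, mul_inv_cancel_left])))
    have := Set.ncard_le_ncard hall'
    rw [← Nat.card_coe_set_eq] at this
    have h2 : ({1, u, k, k * u} : Set G).ncard ≤ 4 :=
      (Set.ncard_insert_le _ _).trans (Nat.add_le_add_right ((Set.ncard_insert_le _ _).trans
        (Nat.add_le_add_right ((Set.ncard_insert_le _ _).trans (by simp)) 1)) 1)
    have h3 : Nat.card (K : Set G) = 8 := hK8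
    omega
  have hwo : orderOf w = 8 := by
    have h1 := hno8 _ (hsqK w hwS)
    rw [← pow_two, ← pow_mul] at h1
    obtain ⟨j, hj, hj'⟩ := (Nat.dvd_prime_pow Nat.prime_two).mp
      (show orderOf w ∣ 2 ^ 3 from orderOf_dvd_of_pow_eq_one h1)
    interval_cases j
    all_goals first
      | (rw [hj']; norm_num; done)
      | exact absurd (orderOf_dvd_iff_pow_eq_one.mp (by rw [hj']; norm_num)) hw4
  set M := Subgroup.zpowers w with hMdef
  have hMS : M ≤ S := Subgroup.zpowers_le.mpr hwS
  have hM8 : Nat.card M = 8 := by rw [Nat.card_zpowers, hwo]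
  have hMidx : (M.subgroupOf S).index = 2 := by
    have := Subgroup.card_mul_index (M.subgroupOf S)
    rw [Nat.card_congr (Subgroup.subgroupOfEquivOfLe hMS).toEquiv, hM8, hS16] at this
    omega
  set V := Subgroup.zpowers (w ^ 2) with hVdef
  have hVK : V ≤ K := Subgroup.zpowers_le.mpr (by rw [pow_two]; exact hsqK w hwS)
  have hMmem : ∀ m ∈ M, m ^ 4 = 1 → m ∈ V := by
    intro m hm hm4
    obtain ⟨i, rfl⟩ := Subgroup.mem_zpowers_iff.mp hm
    rw [← zpow_natCast, ← zpow_mul, ← orderOf_dvd_iff_zpow_eq_one, hwo] at hm4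
    push_cast at hm4
    obtain ⟨q, rfl⟩ : (2 : ℤ) ∣ i := by omega
    exact ⟨q, by show (w ^ 2) ^ q = w ^ (2 * q); rw [← zpow_natCast, ← zpow_mul]; rfl⟩
  have hw4u : w ^ 4 = u :=
    huniq _ (by rw [show 4 = 2 * 2 from rfl, pow_mul, pow_two]
                exact mul_mem (by rw [pow_two]; exact hsqK w hwS) (by rw [pow_two]; exact hsqK w hwS))
      (orderOf_eq_prime (by rw [← pow_mul, show 4 * 2 = 8 from rfl, ← hwo, pow_orderOf_eq_one]) hw4)
  obtain ⟨k, hkK, hkV⟩ : ∃ k ∈ K, k ∉ V := SetLike.not_le_iff_exists.mp fun hle => by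
    have := Subgroup.card_le_of_le hle
    rw [hK8, Nat.card_zpowers, orderOf_pow_of_dvd (by norm_num) (by rw [hwo]; norm_num), hwo] at this
    omega
  have huV : u ∈ V := ⟨2, by
    show (w ^ 2) ^ (2 : ℤ) = u
    rw [zpow_ofNat, ← pow_mul, ← hw4u]⟩
  have hkk : k * k = u := by
    have hk1 : k ≠ 1 := fun e => hkV (e ▸ one_mem V)
    have hku : k ≠ u := fun e => hkV (e ▸ huV)
    have hne : k * k ≠ 1 := fun e => hku (huniq k hkK (orderOf_eq_prime (by rw [pow_two, e]) hk1))
    exact huniq _ (mul_mem hkK hkK) (orderOf_eq_prime (by rw [← pow_two, ← pow_mul, hno8 k hkK]) hne)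
  -- the centraliser of `u`
  have hcu : ∀ g : G, g * u = u * g → g ∈ S := by
    intro g hg
    have hmap : ∀ R, u • R = R → g • R = P ∨ g • R = Q := fun R hR =>
      (hinvol u huK hu).2 _ (by rw [smul_smul, ← hg, mul_smul, hR])
    rcases hmap P ((hK u).mp huK).1 with e1 | e1 <;> rcases hmap Q ((hK u).mp huK).2 with e2 | e2
    · exact absurd (MulAction.injective g (e2.trans e1.symm)) hQP
    · exact Or.inl ⟨e1, e2⟩
    · exact Or.inr ⟨e1, e2⟩
    · exact absurd (MulAction.injective g (e2.trans e1.symm)) hQP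
  -- `k` on the cosets of `M`
  have hk4 : k ^ 4 = 1 := hno8 k hkK
  have hnofix : ∀ g : G, g⁻¹ * k * g ∉ M := by
    intro g hg
    have hm4 : (g⁻¹ * k * g) ^ 4 = 1 := by
      have : g⁻¹ * k * g = (MulAut.conj g⁻¹) k := by simp
      rw [this, ← map_pow, hk4, map_one]
    have hmV := hMmem _ hg hm4
    have hmK := hVK hmV
    have hkfix : ∀ R, k • R = R → R = P ∨ R = Q := fun R hR =>
      (hinvol u huK hu).2 R (by rw [← hkk, mul_smul, hR, hR])
    have hgR : ∀ R, (g⁻¹ * k * g) • R = R → g • R = P ∨ g • R = Q := fun R hR => by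
      refine hkfix _ ?_
      rwa [mul_smul, mul_smul, inv_smul_eq_iff] at hR
    have hgS : g ∈ S := by
      rcases hgR P ((hK _).mp hmK).1 with e1 | e1 <;> rcases hgR Q ((hK _).mp hmK).2 with e2 | e2
      · exact absurd (MulAction.injective g (e2.trans e1.symm)) hQP
      · exact Or.inl ⟨e1, e2⟩
      · exact Or.inr ⟨e1, e2⟩
      · exact absurd (MulAction.injective g (e2.trans e1.symm)) hQP
    have hn := Subgroup.normal_of_index_eq_two hMidx
    have := hn.conj_mem ⟨g⁻¹ * k * g, hMS hg⟩ (Subgroup.mem_subgroupOf.mpr hg) ⟨g, hgS⟩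
    rw [Subgroup.mem_subgroupOf] at this
    simp only [Subgroup.coe_mul, Subgroup.coe_inv] at this
    rw [show g * (g⁻¹ * k * g) * g⁻¹ = k by group] at this
    exact hkV (hMmem k this hk4)
  haveI : Fintype (G ⧸ M) := Fintype.ofFinite _
  have hcard90 : Fintype.card (G ⧸ M) % 8 = 2 := by
    have := M.card_mul_index
    rw [hM8, h, Subgroup.index_eq_card, Nat.card_eq_fintype_card] at this
    omega
  set τ := MulAction.toPermHom G (G ⧸ M) k with hτ
  have hs := sign_toPermHom_eq_one hG (α := G ⧸ M) k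
  have hfix2 : ∀ q : G ⧸ M, τ (τ q) = q → q = ((1 : G) : G ⧸ M) ∨ q = τ ((1 : G) : G ⧸ M) := by
    intro q
    induction q using QuotientGroup.induction_on with
    | H g =>
      intro hq
      have hq' : u • (g : G ⧸ M) = g := by rw [← hkk, mul_smul]; exact hq
      rw [MulAction.Quotient.smul_coe, QuotientGroup.eq, smul_eq_mul] at hq'
      have hgm : g⁻¹ * u * g ∈ M := by
        have := inv_mem hq'
        simpa [mul_assoc] using this
      have hconj : g⁻¹ * u * g = (MulAut.conj g⁻¹).toMonoidHom u := by simp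
      have ho : orderOf (g⁻¹ * u * g) = 2 := by
        rw [hconj, orderOf_injective _ (MulAut.conj g⁻¹).injective, hu]
      have hgu : g⁻¹ * u * g = u :=
        huniq _ (hVK (hMmem _ hgm (orderOf_dvd_iff_pow_eq_one.mp (by rw [ho]; norm_num)))) ho
      have hgS : g ∈ S := hcu g (by
        calc g * u = g * (g⁻¹ * u * g) := by rw [hgu]
          _ = u * g := by group)
      by_cases hgM : g ∈ M
      · left
        rw [QuotientGroup.eq, mul_one]
        exact inv_mem hgM
      · right
        show (g : G ⧸ M) = k • ((1 : G) : G ⧸ M)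
        rw [MulAction.Quotient.smul_coe, QuotientGroup.eq, smul_eq_mul, mul_one]
        have hkS := hKS hkK
        exact Subgroup.mem_subgroupOf.mp ((Subgroup.mul_mem_iff_of_index_two hMidx).mpr
          ⟨fun h' => absurd (inv_mem_iff.mp (Subgroup.mem_subgroupOf.mp h')) hgM,
            fun h' => absurd (hMmem k (Subgroup.mem_subgroupOf.mp h') hk4) hkV⟩ :
          (⟨g, hgS⟩ : S)⁻¹ * ⟨k, hkS⟩ ∈ M.subgroupOf S)
  rw [sign_eq_neg_one_of_pow_four τ (by rw [hτ, ← map_pow, hk4, map_one])
    (fun q hq => by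
      induction q using QuotientGroup.induction_on with
      | H g =>
        have hq' : k • (g : G ⧸ M) = g := hq
        rw [MulAction.Quotient.smul_coe, QuotientGroup.eq, smul_eq_mul] at hq'
        refine hnofix g ?_
        have := inv_mem hq'
        simpa [mul_assoc] using this)
    ((1 : G) : G ⧸ M)
    (show k • k • ((1 : G) : G ⧸ M) = _ by
      rw [smul_smul, hkk, MulAction.Quotient.smul_coe, QuotientGroup.eq, smul_eq_mul, mul_one,
        mul_one]
      exact inv_mem (hw4u ▸ pow_mem (Subgroup.mem_zpowers w) 4))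
    hfix2 hcard90] at hs
  exact absurd hs (by decide)

theorem card_ne_720 (hG : ¬ IsMulCommutative G) : Nat.card G ≠ 720 := by
  intro h
  haveI : Fact (Nat.Prime 3) := ⟨by norm_num⟩
  have hm := OrderSieve.mem_adm hG (p := 3) (a := 2) (m := 80) (by omega) (by norm_num)
    (by norm_num) (by norm_num)
  rw [h, show OrderSieve.adm 720 3 2 80 = [10, 16, 40] by decide +kernel] at hm
  simp only [List.mem_cons, List.not_mem_nil, or_false] at hm
  rcases hm with e | e | e
  · exact false_ten hG h e
  · let P : Sylow 3 G := default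
    have := Sylow.card_normalizer_mul P
    rw [e, h] at this
    exact five_not_dvd hG h (Subgroup.normalizer ((P : Subgroup G) : Set G)) (Or.inl (by omega))
  · exact false_forty hG h e

end Cfsg.Agent.Lib.Classif.Order720
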