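import Mathlib
import Cfsg.Agent.Lib.Classif.SmallOrderKills
import Cfsg.Agent.Lib.Classif.SmallOrderInvert

/-!
No non-abelian simple group has order 612, 756 or 1040.
-/

set_option autoImplicit false

namespace Cfsg.Agent.Lib.Classif.SmallOrderKills2

open Cfsg.Agent.Lib.SmallGroups Cfsg.Agent.Lib.Classif.SmallOrderTools
  Cfsg.Agent.Lib.Classif.SmallOrderKills Cfsg.Agent.Lib.Classif.SmallOrderInvert

variable {G : Type*} [Group G] [Finite G] [IsSimpleGroup G]

theorem centralizer_ne_top (hG : ¬ IsMulCommutative G) {x : G} (hx : x ≠ 1) :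
    Subgroup.centralizer ({x} : Set G) ≠ ⊤ := by
  intro h
  have hc : x ∈ Subgroup.center G := Subgroup.mem_center_iff.mpr fun g =>
    Subgroup.mem_centralizer_singleton_iff.mp (h ▸ Subgroup.mem_top g :
      g ∈ Subgroup.centralizer ({x} : Set G))
  rw [Sylow.center_eq_bot hG, Subgroup.mem_bot] at hc
  exact hx hc

theorem card_ne_612 (hG : ¬ IsMulCommutative G) : Nat.card G ≠ 612 := by
  intro h
  haveI : Fact (Nat.Prime 3) := ⟨by norm_num⟩
  have h34 : Nat.card (Sylow 3 G) = 34 := by
    have hm := OrderSieve.mem_adm hG (p := 3) (a := 2) (m := 68) (by omega) (by norm_num)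
      (by norm_num) (by norm_num)
    rw [h, show OrderSieve.adm 612 3 2 68 = [34] by decide +kernel] at hm
    simpa using hm
  obtain ⟨P, R, N, hne, hNdef, hD, hPN, hRN, hNtop, m', d, hN, hmi, hdm, hd3, hd⟩ :=
    exists_intersection_normalizer (G := G) (p := 3) (a := 2) (m := 68) (by omega) (by norm_num)
      le_rfl (by rw [h34]; norm_num)
  set D : Subgroup G := (P : Subgroup G) ⊓ R with hDdef
  have hP9 : Nat.card (P : Subgroup G) = 9 := by
    simpa using Sylow.card_sylow_eq P (a := 2) (m := 68) (by omega) (by norm_num)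
  have hidx := Sylow.two_mul_card_dvd_factorial hG hNtop
  rw [h] at hidx
  have hm' : m' = 4 := by
    have h68 : m' ∣ 68 := Dvd.intro _ hmi
    have hd' : d ≤ m' := Nat.le_of_dvd (Nat.pos_of_dvd_of_pos h68 (by norm_num)) hdm
    have hi : 17 ≤ N.index := by
      by_contra hlt
      push Not at hlt
      have hi0 : N.index ≠ 0 := Subgroup.index_ne_zero_of_finite
      interval_cases hi' : N.index <;> revert hidx <;> decide
    nlinarith
  have hN36 : Nat.card N = 36 := by rw [hN, hm']; norm_num
  have habel : ∀ Q : Sylow 3 G, IsMulCommutative (Q : Subgroup G) := fun Q =>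
    IsPGroup.isMulCommutative_of_card_eq_prime_sq (p := 3)
      (by rw [Sylow.card_eq_multiplicity, ← P.card_eq_multiplicity, hP9]; norm_num)
  set C : Subgroup G := Subgroup.centralizer (D : Set G) with hC
  have hcen : ∀ Q : Sylow 3 G, D ≤ (Q : Subgroup G) → (Q : Subgroup G) ≤ C := by
    intro Q hQ x hx y hy
    exact congrArg Subtype.val ((habel Q).is_comm.comm ⟨y, hQ hy⟩ ⟨x, hx⟩)
  have hC36 : 36 ≤ Nat.card C := by
    have := (two_sylow_le P R hne C (hcen P inf_le_left) (hcen R inf_le_right)).2
    rw [hP9] at this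
    exact this
  have hCN : C = N := by
    subst hNdef
    exact Subgroup.eq_of_le_of_card_ge (Sylow.centralizer_le_normalizer D) (by omega)
  have hNP : Nat.card (Subgroup.normalizer ((P : Subgroup G) : Set G)) =
      2 * Nat.card (P : Subgroup G) := by
    have := Sylow.card_normalizer_mul P
    rw [h34, h] at this
    omega
  obtain ⟨s, hs, -, hinv, -⟩ := exists_inverting hG P (habel P) (by norm_num) hNP
  have hsN : s ∈ C := by
    rw [hCN, hNdef]
    rw [Subgroup.mem_normalizer_iff]
    intro x
    constructor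
    · intro hx
      rw [hinv x (Subgroup.mem_inf.mp hx).1]
      exact inv_mem hx
    · intro hx
      have h1 : x ∈ (P : Subgroup G) :=
        (Subgroup.mem_normalizer_iff.mp hs x).mpr (Subgroup.mem_inf.mp hx).1
      rw [hinv x h1] at hx
      exact inv_mem_iff.mp hx
  obtain ⟨⟨x, hx⟩, hx3⟩ := exists_prime_orderOf_dvd_card' (G := D) 3 (Dvd.intro_left 1 (by omega))
  rw [Subgroup.orderOf_mk] at hx3
  have h1 := hinv x (Subgroup.mem_inf.mp hx).1
  rw [← hsN x hx, mul_inv_cancel_right] at h1
  have h2 : x ^ 2 = 1 := by rw [pow_two]; nth_rw 1 [h1]; exact inv_mul_cancel x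
  have := orderOf_dvd_of_pow_eq_one h2
  rw [hx3] at this
  norm_num at this

theorem card_ne_756 (hG : ¬ IsMulCommutative G) : Nat.card G ≠ 756 := by
  intro h
  haveI : Fact (Nat.Prime 3) := ⟨by norm_num⟩
  have h28 : Nat.card (Sylow 3 G) = 28 := by
    have hm := OrderSieve.mem_adm hG (p := 3) (a := 3) (m := 28) (by omega) (by norm_num)
      (by norm_num) (by norm_num)
    rw [h, show OrderSieve.adm 756 3 3 28 = [28] by decide +kernel] at hm
    simpa using hm
  let P : Sylow 3 G := default
  have hcard : ∀ Q : Sylow 3 G, Nat.card (Q : Subgroup G) = 27 := fun Q => by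
    simpa using Sylow.card_sylow_eq Q (a := 3) (m := 28) (by omega) (by norm_num)
  have hN27 : Subgroup.normalizer ((P : Subgroup G) : Set G) = (P : Subgroup G) := by
    symm
    refine Subgroup.eq_of_le_of_card_ge Subgroup.le_normalizer ?_
    have := Sylow.card_normalizer_mul P
    rw [h28, h] at this
    rw [hcard P]; omega
  -- two Sylow subgroups do not meet in a subgroup of order 9
  have hint : ∀ Q R : Sylow 3 G, Q ≠ R →
      Nat.card ((Q : Subgroup G) ⊓ R : Subgroup G) * 3 ≠ Nat.card (Q : Subgroup G) := by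
    intro Q R hne hc
    obtain ⟨-, -, m', d, hN, hdm, hd3, hd, -⟩ := Counting.normalizer_inf_of_index_prime Q R hne hc
    set N := Subgroup.normalizer (((Q : Subgroup G) ⊓ R : Subgroup G) : Set G) with hNdef
    have hNtop : N ≠ ⊤ := by
      intro htop
      rcases (Subgroup.normalizer_eq_top_iff.mp htop).eq_bot_or_eq_top with h' | h'
      · rw [h', Subgroup.card_bot, hcard] at hc; omega
      · rw [h', Subgroup.card_top, hcard, h] at hc; omega
    have hidx := Sylow.two_mul_card_dvd_factorial hG hNtop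
    have hmul := N.card_mul_index
    rw [hN, hcard, h] at hmul
    rw [h] at hidx
    have hm28 : m' * N.index = 28 := by nlinarith
    have hmd : d ≤ m' := Nat.le_of_dvd (Nat.pos_of_ne_zero fun h0 => by simp [h0] at hm28) hdm
    have hi : N.index ≤ 7 := by nlinarith
    have hi0 : N.index ≠ 0 := Subgroup.index_ne_zero_of_finite
    interval_cases hi' : N.index <;> revert hidx <;> decide
  have hPnab : ¬ IsMulCommutative (P : Subgroup G) := by
    intro hab
    refine Sylow.not_normalizer_le_centralizer hG P ?_ ?_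
    · intro hb; have := hcard P; rw [hb, Subgroup.card_bot] at this; omega
    · rw [hN27]
      intro x hx y hy
      exact congrArg Subtype.val (hab.is_comm.comm ⟨y, hy⟩ ⟨x, hx⟩)
  haveI : Nontrivial (P : Subgroup G) :=
    Finite.one_lt_card_iff_nontrivial.mp (by rw [hcard]; norm_num)
  set Z₀ : Subgroup (P : Subgroup G) := Subgroup.center (P : Subgroup G) with hZ₀
  have hZ3 : Nat.card Z₀ = 3 := by
    have hd : Nat.card Z₀ ∣ 3 ^ 3 := by
      have := Subgroup.card_subgroup_dvd_card Z₀
      rwa [hcard] at this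
    obtain ⟨k, hk, hk'⟩ := (Nat.dvd_prime_pow Nat.prime_three).mp hd
    haveI := P.2.center_nontrivial
    have h1 : 1 < Nat.card Z₀ := Finite.one_lt_card
    interval_cases k
    · rw [hk'] at h1; norm_num at h1
    · rw [hk']; norm_num
    · exfalso
      have hi : Z₀.index = 3 := by
        have := Z₀.card_mul_index
        rw [hk', hcard] at this
        omega
      haveI : IsCyclic ((P : Subgroup G) ⧸ Subgroup.center (P : Subgroup G)) :=
        isCyclic_of_prime_card (p := 3) (by rw [← Subgroup.index_eq_card]; exact hi)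
      exact hPnab (isMulCommutative_of_isCyclic_quotient_center_self _)
    · exfalso
      have : Z₀ = ⊤ := Subgroup.eq_top_of_card_eq _ (by rw [hk', hcard]; norm_num)
      exact hPnab ⟨⟨fun a b =>
        (Subgroup.mem_center_iff.mp (this ▸ Subgroup.mem_top a : a ∈ Z₀) b).symm⟩⟩
  set Z : Subgroup G := Z₀.map (P : Subgroup G).subtype with hZdef
  have hZP : Z ≤ (P : Subgroup G) := Subgroup.map_subtype_le _
  have hZcard : Nat.card Z = 3 := by
    rw [hZdef, Nat.card_congr (Z₀.equivMapOfInjective _ (Subgroup.subtype_injective _)).symm.toEquiv,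
      hZ3]
  have hZc : Z ≤ Subgroup.centralizer ((P : Subgroup G) : Set G) := by
    rintro _ ⟨z, hz, rfl⟩ y hy
    exact congrArg Subtype.val (Subgroup.mem_center_iff.mp hz ⟨y, hy⟩)
  by_cases hW : Cfsg.IsWeaklyClosed Z (P : Subgroup G)
  · -- transfer
    have hctrl := Cfsg.Agent.Lib.Transfer.Fusion.commutator_inf_sylow_eq_of_controls P
      (Subgroup.normalizer (Z : Set G))
      (fun x hx => by
        apply Sylow.centralizer_le_normalizer
        intro y hy
        exact (hZc hy x hx).symm)
      (fun x hx g hg =>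
        Cfsg.Agent.Lib.Transfer.Fusion.controls_of_isWeaklyClosed P Z hZc hW x hx g hg)
    set V := Subgroup.normalizer (Z : Set G) with hV
    have hPV : (P : Subgroup G) ≤ V := fun x hx => by
      apply Sylow.centralizer_le_normalizer
      intro y hy
      exact (hZc hy x hx).symm
    have hVP : V = (P : Subgroup G) := by
      have hVtop : V ≠ ⊤ := by
        intro htop
        rcases (Subgroup.normalizer_eq_top_iff.mp htop).eq_bot_or_eq_top with h' | h'
        · rw [h', Subgroup.card_bot] at hZcard; omega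
        · rw [h', Subgroup.card_top, h] at hZcard; omega
      have hidx := Sylow.two_mul_card_dvd_factorial hG hVtop
      rw [h] at hidx
      by_contra hne
      have hn : Nat.card (Sylow 3 V) % 3 = 1 := Sylow.card_sylow_mod
      have hM := card_sylow_subgroup_mul P V hPV
      rw [hN27, inf_eq_left.mpr hPV, hcard] at hM
      have hmul := V.card_mul_index
      rw [← hM, h] at hmul
      have hne1 : Nat.card (Sylow 3 V) ≠ 1 := by
        intro h1
        apply hne
        refine (Subgroup.eq_of_le_of_card_ge hPV ?_).symm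
        rw [← hM, h1, hcard]
      have h28' : Nat.card (Sylow 3 V) * V.index = 28 := by nlinarith
      have hi : V.index ≤ 7 := by
        have : 4 ≤ Nat.card (Sylow 3 V) := by omega
        nlinarith
      have hi0 : V.index ≠ 0 := Subgroup.index_ne_zero_of_finite
      interval_cases hi' : V.index <;> revert hidx <;> decide
    rw [hVP, Sylow.commutator_eq_top hG, top_inf_eq] at hctrl
    haveI : Group.IsNilpotent (P : Subgroup G) := P.2.isNilpotent
    have hne : (P : Subgroup G) ≠ ⊥ := fun hb => by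
      have := hcard P; rw [hb, Subgroup.card_bot] at this; omega
    have hlt := Group.IsSolvable.commutator_lt_top_of_nontrivial (G := (P : Subgroup G))
    have h1 : (P : Subgroup G) ≤ ⁅(P : Subgroup G), (P : Subgroup G)⁆ :=
      hctrl.le.trans inf_le_left
    rw [← Subgroup.map_subtype_commutator] at h1
    apply hlt.ne
    rw [eq_top_iff]
    rintro x -
    obtain ⟨y, hy, hyx⟩ := h1 x.2
    exact Subtype.ext hyx ▸ hy
  · -- two Sylow subgroups meeting in order 9
    simp only [Cfsg.IsWeaklyClosed, not_and, not_forall] at hW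
    obtain ⟨g, hgP, hgne⟩ := hW hZP
    set W := Z.map (MulAut.conj g).toMonoidHom with hWdef
    have hW3 : Nat.card W = 3 := by
      rw [hWdef, Nat.card_congr (Z.equivMapOfInjective _ (MulAut.conj g).injective).symm.toEquiv,
        hZcard]
    set C := Subgroup.centralizer (W : Set G) with hCdef
    have hE : Z ⊔ W ≤ C := by
      refine sup_le (fun z hz y hy => hZc hz y (hgP hy)) ?_
      intro x hx y hy
      obtain ⟨a, ha, rfl⟩ := hx
      obtain ⟨b, hb, rfl⟩ := hy
      simp only [MulEquiv.coe_toMonoidHom, ← map_mul]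
      rw [hZc ha b (hZP hb)]
    have hgPC : ((g • P : Sylow 3 G) : Subgroup G) ≤ C := by
      rintro x hx _ ⟨b, hb, rfl⟩
      obtain ⟨a, ha, rfl⟩ : ∃ a ∈ (P : Subgroup G), (MulAut.conj g) a = x := by
        rw [Sylow.coe_subgroup_smul, Subgroup.mem_pointwise_smul_iff_inv_smul_mem] at hx
        exact ⟨_, hx, by simp [mul_assoc]⟩
      simp only [MulEquiv.coe_toMonoidHom, ← map_mul]
      rw [hZc hb a ha]
    have hEp : IsPGroup 3 ((Z ⊔ W : Subgroup G).subgroupOf C) :=
      (P.2.to_le (sup_le hZP hgP)).comap_subtype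
    obtain ⟨T, hT⟩ := hEp.exists_le_sylow
    obtain ⟨R, hR⟩ := (T.2.map C.subtype).exists_le_sylow
    have hTR : (T : Subgroup C).map C.subtype = (R : Subgroup G) := by
      refine Subgroup.eq_of_le_of_card_ge hR ?_
      rw [hcard, Nat.card_congr ((T : Subgroup C).equivMapOfInjective _
        (Subgroup.subtype_injective _)).symm.toEquiv, T.card_eq_multiplicity,
        ← ((g • P).subtype hgPC).card_eq_multiplicity]
      show 27 ≤ Nat.card (((g • P : Sylow 3 G) : Subgroup G).subgroupOf C)
      rw [Nat.card_congr (Subgroup.subgroupOfEquivOfLe hgPC).toEquiv, hcard]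
    have hRC : (R : Subgroup G) ≤ C := hTR ▸ Subgroup.map_subtype_le _
    have hER : Z ⊔ W ≤ (R : Subgroup G) := fun x hx =>
      hTR ▸ ⟨⟨x, hE hx⟩, hT (Subgroup.mem_subgroupOf.mpr hx), rfl⟩
    have hRP : R ≠ P := by
      intro he
      apply hgne
      subst he
      refine Subgroup.eq_of_le_of_card_ge ?_ (by rw [hZcard, hW3])
      intro w hw
      refine ⟨⟨w, hgP hw⟩, ?_, rfl⟩
      rw [SetLike.mem_coe, hZ₀, Subgroup.mem_center_iff]
      intro y
      exact Subtype.ext (hRC y.2 w hw).symm
    have hle : Z ⊔ W ≤ (P : Subgroup G) ⊓ R := le_inf (sup_le hZP hgP) hER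
    have hd : Nat.card ((P : Subgroup G) ⊓ R : Subgroup G) ∣ 3 ^ 3 := by
      have := Subgroup.card_dvd_of_le (inf_le_left : (P : Subgroup G) ⊓ R ≤ P)
      rwa [hcard] at this
    obtain ⟨k, hk, hk'⟩ := (Nat.dvd_prime_pow Nat.prime_three).mp hd
    have h3 : 3 < Nat.card ((P : Subgroup G) ⊓ R : Subgroup G) := by
      by_contra hle3
      apply hgne
      have e1 : Z = (P : Subgroup G) ⊓ R :=
        Subgroup.eq_of_le_of_card_ge (le_sup_left.trans hle) (by omega)
      exact Subgroup.eq_of_le_of_card_ge ((le_sup_right.trans hle).trans_eq e1.symm) (by omega)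
    interval_cases k
    · omega
    · omega
    · exact hint P R hRP.symm (by rw [hk', hcard]; norm_num)
    · refine hRP (Sylow.ext (Subgroup.eq_of_le_of_card_ge ?_ (by rw [hcard, hcard])).symm)
      exact (Subgroup.eq_of_le_of_card_ge inf_le_left (by rw [hcard, hk']; norm_num) :
        (P : Subgroup G) ⊓ R = P).symm.le.trans inf_le_right

/-! ### 1040 -/

/-- Fibre counting on Sylow subgroups: fixed points of `u` against conjugates of `u` in `N(P)`. -/
theorem card_fixed_sylow_mul {p : ℕ} [Fact p.Prime] (P : Sylow p G) (u : G) :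
    Nat.card {Q : Sylow p G // u • Q = Q} *
        Nat.card (Subgroup.normalizer ((P : Subgroup G) : Set G)) =
      Nat.card {v : G // IsConj u v ∧ v ∈ Subgroup.normalizer ((P : Subgroup G) : Set G)} *
        Nat.card (Subgroup.centralizer ({u} : Set G)) := by
  rw [← Counting.card_conj_fiber]
  have h := card_subtype_mul_stabilizer (G := G) P (fun Q : Sylow p G => u • Q = Q)
  rw [Sylow.stabilizer_eq_normalizer] at h
  refine h.trans ?_
  refine Nat.card_congr (Equiv.subtypeEquivRight fun g => ?_)
  constructor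
  · intro hg
    refine Sylow.smul_eq_iff_mem_normalizer.mp ?_
    rw [mul_smul, mul_smul, hg, inv_smul_smul]
  · intro hg
    have h' : (g⁻¹ * u * g) • P = P := Sylow.smul_eq_iff_mem_normalizer.mpr hg
    rwa [mul_smul, mul_smul, inv_smul_eq_iff] at h'

omit [IsSimpleGroup G] in
theorem card_centralizer_conj {u v : G} (h : IsConj u v) :
    Nat.card (Subgroup.centralizer ({v} : Set G)) = Nat.card (Subgroup.centralizer ({u} : Set G)) := by
  have h1 := Counting.card_isConj_mul u
  have h2 := Counting.card_isConj_mul v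
  have h3 : Nat.card {y : G // IsConj u y} = Nat.card {y : G // IsConj v y} :=
    Nat.card_congr (Equiv.subtypeEquivRight fun y => ⟨fun hy => h.symm.trans hy, fun hy => h.trans hy⟩)
  have hpos : 0 < Nat.card {y : G // IsConj v y} :=
    Nat.card_pos_iff.mpr ⟨⟨⟨v, IsConj.refl v⟩⟩, inferInstance⟩
  exact Nat.eq_of_mul_eq_mul_left hpos (h2.trans (h3 ▸ h1).symm)

omit [IsSimpleGroup G] in
/-- An involution acting non-trivially on a group of prime order inverts it. -/
theorem inverts_of_prime {p : ℕ} [hp : Fact p.Prime] (u y : G) (hu : u * u = 1) (hy : orderOf y = p)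
    (hn : u * y * u⁻¹ ∈ Subgroup.zpowers y) (hc : u * y ≠ y * u) : u * y * u⁻¹ = y⁻¹ := by
  have hui : u⁻¹ = u := inv_eq_of_mul_eq_one_right hu
  have huu : ∀ a : G, u * (u * a) = a := fun a => by rw [← mul_assoc, hu, one_mul]
  set w := u * y * u⁻¹ with hw
  obtain ⟨k, hk⟩ := Subgroup.mem_zpowers_iff.mp hn
  have hcomm : w * y = y * w := by rw [← hk]; exact (Commute.zpow_self y k).eq
  have hmem : y * w ∈ Subgroup.zpowers y := mul_mem (Subgroup.mem_zpowers y) hn
  have huz : u * (y * w) = y * w * u := by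
    calc u * (y * w) = (u * y * u⁻¹) * (u * u * y) * u⁻¹ := by rw [hw]; group
      _ = w * y * u := by rw [hu, one_mul, hw, hui]
      _ = y * w * u := by rw [hcomm]
  by_contra hne
  have hne1 : y * w ≠ 1 := fun h => hne (eq_inv_of_mul_eq_one_right h)
  have hgen : Subgroup.zpowers (y * w) = Subgroup.zpowers y := by
    refine Subgroup.eq_of_le_of_card_ge (Subgroup.zpowers_le.mpr hmem) ?_
    rw [Nat.card_zpowers, Nat.card_zpowers, hy]
    have hd := Subgroup.card_dvd_of_le (Subgroup.zpowers_le.mpr hmem)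
    rw [Nat.card_zpowers, Nat.card_zpowers, hy] at hd
    rcases (Nat.dvd_prime hp.out).mp hd with h' | h'
    · exact absurd (orderOf_eq_one_iff.mp h') hne1
    · exact h'.ge
  obtain ⟨j, hj⟩ := Subgroup.mem_zpowers_iff.mp (hgen ▸ Subgroup.mem_zpowers y)
  apply hc
  rw [← hj]
  exact (Commute.zpow_right huz j).eq

theorem card_ne_1040 (hG : ¬ IsMulCommutative G) : Nat.card G ≠ 1040 := by
  classical
  intro h
  haveI : Fact (Nat.Prime 5) := ⟨by norm_num⟩
  haveI : Fact (Nat.Prime 13) := ⟨by norm_num⟩
  have h26 : Nat.card (Sylow 5 G) = 26 := by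
    have hm := OrderSieve.mem_adm hG (p := 5) (a := 1) (m := 208) (by omega) (by norm_num)
      (by norm_num) (by norm_num)
    rw [h, show OrderSieve.adm 1040 5 1 208 = [26] by decide +kernel] at hm
    simpa using hm
  have h40 : Nat.card (Sylow 13 G) = 40 := by
    have hm := OrderSieve.mem_adm hG (p := 13) (a := 1) (m := 80) (by omega) (by norm_num)
      (by norm_num) (by norm_num)
    rw [h, show OrderSieve.adm 1040 13 1 80 = [40] by decide +kernel] at hm
    simpa using hm
  have hcard5 : ∀ Q : Sylow 5 G, Nat.card (Q : Subgroup G) = 5 := fun Q => by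
    simpa using Sylow.card_sylow_eq Q (a := 1) (m := 208) (by omega) (by norm_num)
  have hcard13 : ∀ Q : Sylow 13 G, Nat.card (Q : Subgroup G) = 13 := fun Q => by
    simpa using Sylow.card_sylow_eq Q (a := 1) (m := 80) (by omega) (by norm_num)
  let S₁ : Sylow 2 G := default
  have hS₁ : Nat.card (S₁ : Subgroup G) = 16 := by
    simpa using Sylow.card_sylow_eq S₁ (a := 4) (m := 65) (by omega) (by norm_num)
  have h8 := eight_dvd_card_centralizer S₁ hS₁ (index_ne_two hG)
  -- an involution normalising a Sylow 13-subgroup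
  let P₁ : Sylow 13 G := default
  obtain ⟨e₁, c₁, he₁, he₁1, hc₁, hC₁, hce₁⟩ := Sylow.exists_normalizer_factor hG P₁ (hcard13 P₁)
  have hN₁ : Nat.card (Subgroup.normalizer ((P₁ : Subgroup G) : Set G)) = 26 := by
    have := Sylow.card_normalizer_mul P₁
    rw [h40, h] at this
    omega
  have hc13 : c₁ = 13 := by
    obtain ⟨k, rfl⟩ := hc₁
    rw [hN₁] at hce₁
    have : e₁ ≤ 12 := Nat.le_of_dvd (by norm_num) he₁
    interval_cases e₁ <;> omega
  obtain ⟨u, huN, hu⟩ := exists_involution (H := Subgroup.normalizer ((P₁ : Subgroup G) : Set G))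
    (by rw [hN₁]; norm_num)
  have hu2 : u * u = 1 := by rw [← pow_two, ← hu, pow_orderOf_eq_one]
  have hu1 : u ≠ 1 := fun h' => by rw [h', orderOf_one] at hu; omega
  obtain ⟨⟨y, hy⟩, hy13⟩ := exists_prime_orderOf_dvd_card' (G := (P₁ : Subgroup G)) 13
    (by rw [hcard13])
  rw [Subgroup.orderOf_mk] at hy13
  have hy1 : y ≠ 1 := fun h' => by rw [h', orderOf_one] at hy13; omega
  have hzy : Subgroup.zpowers y = (P₁ : Subgroup G) :=
    Subgroup.eq_of_le_of_card_ge (Subgroup.zpowers_le.mpr hy)
      (by rw [Nat.card_zpowers, hy13, hcard13])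
  have hncy : u * y ≠ y * u := by
    intro hc
    have hmem : u ∈ Subgroup.centralizer ((P₁ : Subgroup G) : Set G) := by
      intro x hx
      rw [← hzy] at hx
      obtain ⟨j, rfl⟩ := Subgroup.mem_zpowers_iff.mp hx
      exact (Commute.zpow_right hc j).eq.symm
    have := Subgroup.card_dvd_of_le (Subgroup.zpowers_le.mpr hmem)
    rw [Nat.card_zpowers, hu, hC₁, hc13] at this
    norm_num at this
  have huy : u * y * u⁻¹ = y⁻¹ := inverts_of_prime (p := 13) u y hu2 hy13
    (hzy ▸ (Subgroup.mem_normalizer_iff.mp huN y).mp hy) hncy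
  set c := Nat.card (Subgroup.centralizer ({u} : Set G)) with hcdef
  -- at most four fixed points on the Sylow 13-subgroups
  have hf40 : Nat.card {Q : Sylow 13 G // u • Q = Q} ≤ 4 := by
    have hb := card_fixed_inverter_le (α := Sylow 13 G) (p := 13) (by norm_num) u y hy13 huy
    have h1 : Nat.card {Q : Sylow 13 G // y • Q ≠ Q} ≤ 39 := by
      have h2 := Finite.card_subtype_lt (p := fun Q : Sylow 13 G => y • Q ≠ Q) (x := P₁)
        (not_not.mpr (Sylow.smul_eq_iff_mem_normalizer.mpr (Subgroup.le_normalizer hy)))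
      rw [h40] at h2
      omega
    have h3 : Nat.card {Q : Sylow 13 G // u • Q = Q} ≤
        Nat.card {Q : Sylow 13 G // u • Q = Q ∧ y • Q ≠ Q} + 1 := by
      rw [← Nat.card_congr (Equiv.sumCompl
        (fun Q : {Q : Sylow 13 G // u • Q = Q} => y • Q.1 ≠ Q.1)), Nat.card_sum]
      refine Nat.add_le_add (Nat.card_congr (Equiv.subtypeSubtypeEquivSubtypeInter
        (fun Q : Sylow 13 G => u • Q = Q) (fun Q => y • Q ≠ Q))).le ?_
      rw [Finite.card_le_one_iff_subsingleton]
      refine ⟨fun a b => Subtype.ext (Subtype.ext ?_)⟩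
      rw [eq_of_smul_eq_of_prime P₁ a.1.1 (hcard13 P₁) hy hy1 (not_not.mp a.2),
        eq_of_smul_eq_of_prime P₁ b.1.1 (hcard13 P₁) hy hy1 (not_not.mp b.2)]
    omega
  have hcount := card_fixed_sylow_mul P₁ u
  rw [hN₁, ← hcdef] at hcount
  have hk13 : 13 ≤ Nat.card {v : G // IsConj u v ∧
      v ∈ Subgroup.normalizer ((P₁ : Subgroup G) : Set G)} := by
    have hinj : Function.Injective (fun i : Fin 13 => (⟨y ^ (i : ℕ) * u * (y ^ (i : ℕ))⁻¹,
        isConj_iff.mpr ⟨y ^ (i : ℕ), rfl⟩, mul_mem (mul_mem (pow_mem (Subgroup.le_normalizer hy) _)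
          huN) (inv_mem (pow_mem (Subgroup.le_normalizer hy) _))⟩ :
        {v : G // IsConj u v ∧ v ∈ Subgroup.normalizer ((P₁ : Subgroup G) : Set G)})) := by
      intro i j hij
      have h1 : y ^ (i : ℕ) * u * (y ^ (i : ℕ))⁻¹ = y ^ (j : ℕ) * u * (y ^ (j : ℕ))⁻¹ :=
        congrArg Subtype.val hij
      have hcm : ∀ k : ℕ, y ^ k * u * (y ^ k)⁻¹ = y ^ (2 * k) * u := by
        intro k
        have : u * (y ^ k)⁻¹ = y ^ k * u := by
          have h2 := (conj_pow : (u * y * u⁻¹) ^ k = u * y ^ k * u⁻¹)
          rw [huy, inv_pow] at h2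
          have h3 : (y ^ k)⁻¹ * u = u * y ^ k := by rw [h2, inv_mul_cancel_right]
          calc u * (y ^ k)⁻¹ = y ^ k * ((y ^ k)⁻¹ * u) * (y ^ k)⁻¹ := by group
            _ = y ^ k * (u * y ^ k) * (y ^ k)⁻¹ := by rw [h3]
            _ = y ^ k * u := by group
        rw [mul_assoc, this, ← mul_assoc, ← pow_add, two_mul]
      rw [hcm, hcm] at h1
      have h2 := pow_inj_mod.mp (mul_right_cancel h1)
      rw [hy13] at h2
      have := i.2
      have := j.2
      ext
      omega
    have := Nat.card_le_card_of_injective _ hinj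
    simpa using this
  have hc8 : c = 8 := by
    have h1 : c ≤ 8 := by nlinarith
    have h2 := Nat.le_of_dvd Nat.card_pos (h8 u hu)
    omega
  -- two fixed points on the Sylow 5-subgroups
  have hy5 : ∀ Q : Sylow 5 G, y • Q ≠ Q := by
    intro Q hQ
    have hyQ : y ∈ Subgroup.normalizer ((Q : Subgroup G) : Set G) :=
      Sylow.smul_eq_iff_mem_normalizer.mp hQ
    have := Subgroup.card_dvd_of_le (Subgroup.zpowers_le.mpr hyQ)
    have hN := Sylow.card_normalizer_mul Q
    rw [h26, h] at hN
    rw [Nat.card_zpowers, hy13, show Nat.card (Subgroup.normalizer ((Q : Subgroup G) : Set G)) = 40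
      by omega] at this
    norm_num at this
  have hf26 : Nat.card {Q : Sylow 5 G // u • Q = Q} = 2 := by
    have hb := card_fixed_inverter_le (α := Sylow 5 G) (p := 13) (by norm_num) u y hy13 huy
    have h1 : Nat.card {Q : Sylow 5 G // y • Q ≠ Q} = 26 := by
      rw [← h26]; exact Nat.card_congr (Equiv.subtypeUnivEquiv hy5)
    have h2 : Nat.card {Q : Sylow 5 G // u • Q = Q ∧ y • Q ≠ Q} =
        Nat.card {Q : Sylow 5 G // u • Q = Q} :=
      Nat.card_congr (Equiv.subtypeEquivRight fun Q => ⟨fun hh => hh.1, fun hh => ⟨hh, hy5 Q⟩⟩)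
    rw [h1, h2] at hb
    have h3 := four_dvd_moved (α := Sylow 5 G) hG u (by rw [pow_two, hu2])
    rw [h26] at h3
    omega
  -- the normaliser of a Sylow 5-subgroup
  let P : Sylow 5 G := default
  obtain ⟨e, cP, he, he1, hcP, hCP, hce⟩ := Sylow.exists_normalizer_factor hG P (hcard5 P)
  set N := Subgroup.normalizer ((P : Subgroup G) : Set G) with hNdef
  set CP := Subgroup.centralizer ((P : Subgroup G) : Set G) with hCPdef
  have hN40 : Nat.card N = 40 := by
    have hN := Sylow.card_normalizer_mul P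
    rw [h26, h, ← hNdef] at hN
    omega
  rw [hN40] at hce
  have he4 : e ≤ 4 := Nat.le_of_dvd (by norm_num) he
  have hcP' : cP = 10 ∨ cP = 20 := by
    obtain ⟨k, rfl⟩ := hcP
    interval_cases e <;> omega
  have hconj10 : Nat.card {v : G // IsConj u v ∧ v ∈ N} = 10 := by
    have := card_fixed_sylow_mul P u
    rw [← hNdef, hf26, hN40, ← hcdef, hc8] at this
    omega
  have hCi : ∀ i ∈ CP, orderOf i = 2 → Subgroup.centralizer ({i} : Set G) = N := by
    intro i hi hio
    set C := Subgroup.centralizer ({i} : Set G) with hCdef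
    have hCPle : (P : Subgroup G) ≤ C := fun x hx =>
      Subgroup.mem_centralizer_singleton_iff.mpr (Subgroup.mem_centralizer_iff.mp hi x hx)
    have hM := card_sylow_subgroup_mul P C hCPle
    rw [← hNdef] at hM
    have hNC : Nat.card (N ⊓ C : Subgroup G) ∣ 40 := hN40 ▸ Subgroup.card_dvd_of_le inf_le_left
    have h5d : 5 ∣ Nat.card (N ⊓ C : Subgroup G) :=
      hcard5 P ▸ Subgroup.card_dvd_of_le (le_inf Subgroup.le_normalizer hCPle)
    have h2d : 2 ∣ Nat.card (N ⊓ C : Subgroup G) := by
      have h' := Subgroup.card_dvd_of_le (Subgroup.zpowers_le.mpr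
        (show i ∈ N ⊓ C from ⟨Sylow.centralizer_le_normalizer _ hi,
          Subgroup.mem_centralizer_singleton_iff.mpr rfl⟩))
      rwa [Nat.card_zpowers, hio] at h'
    have hn5 : Nat.card (Sylow 5 C) % 5 = 1 := Sylow.card_sylow_mod
    have hCtop : C ≠ ⊤ := centralizer_ne_top hG fun h' => by rw [h', orderOf_one] at hio; omega
    have hidx := Sylow.two_mul_card_dvd_factorial hG hCtop
    have hmul := C.card_mul_index
    rw [h] at hidx hmul
    have hi13 : 13 ≤ C.index := by
      by_contra hlt
      push Not at hlt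
      have h0 : C.index ≠ 0 := Subgroup.index_ne_zero_of_finite
      interval_cases hi' : C.index <;> revert hidx <;> decide
    have arith : ∀ x : Fin 81, ∀ m : Fin 41, ((x : ℕ) % 8 = 0 ∧ (m : ℕ) % 5 = 0 ∧ (m : ℕ) % 2 = 0 ∧
        40 % (m : ℕ) = 0 ∧ (x : ℕ) % (m : ℕ) = 0 ∧ (x : ℕ) / (m : ℕ) % 5 = 1) →
        (x : ℕ) = 40 ∧ (m : ℕ) = 40 := by
      decide +kernel
    have hle : Nat.card C ≤ 80 := by nlinarith
    have hm0 := Nat.pos_of_dvd_of_pos hNC (by norm_num)
    obtain ⟨hx, hm⟩ := arith ⟨Nat.card C, by omega⟩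
      ⟨_, Nat.lt_succ_of_le (Nat.le_of_dvd (by norm_num) hNC)⟩
      ⟨Nat.dvd_iff_mod_eq_zero.mp (h8 i hio), Nat.dvd_iff_mod_eq_zero.mp h5d,
      Nat.dvd_iff_mod_eq_zero.mp h2d, Nat.dvd_iff_mod_eq_zero.mp hNC,
      by dsimp only; rw [← hM, Nat.mul_mod_left],
      by dsimp only; rw [← hM, Nat.mul_div_cancel _ hm0]; exact hn5⟩
    dsimp only at hx hm
    have h1 : N ⊓ C = C := Subgroup.eq_of_le_of_card_ge inf_le_right (by omega)
    exact Subgroup.eq_of_le_of_card_ge (h1 ▸ inf_le_left) (by omega)
  -- a Sylow 2-subgroup of `N` inside one of `G`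
  obtain ⟨R₀, hR₀, -⟩ := Sylow.exists_subgroup_card_pow_succ (G := N) (p := 2) (n := 2)
    (by rw [hN40]; norm_num) (H := (Sylow.exists_subgroup_card_pow_prime (G := N) 2 (n := 2)
      (by rw [hN40]; norm_num)).choose) ((Sylow.exists_subgroup_card_pow_prime (G := N) 2 (n := 2)
      (by rw [hN40]; norm_num)).choose_spec)
  set R : Subgroup G := R₀.map N.subtype with hRdef
  have hR8 : Nat.card R = 8 := by
    rw [hRdef, Nat.card_congr (R₀.equivMapOfInjective _ (Subgroup.subtype_injective _)).symm.toEquiv,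
      hR₀]
    norm_num
  have hRN : R ≤ N := Subgroup.map_subtype_le _
  obtain ⟨S, hRS⟩ := (IsPGroup.of_card (p := 2) (n := 3) (by rw [hR8]; norm_num) :
    IsPGroup 2 R).exists_le_sylow
  have hS : Nat.card (S : Subgroup G) = 16 := by
    simpa using Sylow.card_sylow_eq S (a := 4) (m := 65) (by omega) (by norm_num)
  have hSN : ¬ (S : Subgroup G) ≤ N := fun hle => by
    have := Subgroup.card_dvd_of_le hle; rw [hS, hN40] at this; norm_num at this
  have hSNR : (S : Subgroup G) ⊓ N = R := by
    refine (Subgroup.eq_of_le_of_card_ge (le_inf hRS hRN) ?_).symm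
    have h1 : Nat.card ((S : Subgroup G) ⊓ N : Subgroup G) ∣ 16 :=
      hS ▸ Subgroup.card_dvd_of_le inf_le_left
    have h2 : Nat.card ((S : Subgroup G) ⊓ N : Subgroup G) ∣ 40 :=
      hN40 ▸ Subgroup.card_dvd_of_le inf_le_right
    have h3 : Nat.card ((S : Subgroup G) ⊓ N : Subgroup G) ∣ 8 := Nat.dvd_gcd h1 h2
    rw [hR8]
    exact Nat.le_of_dvd (by norm_num) h3
  rcases hcP' with hc10 | hc20
  · -- cyclic of order four above the centraliser: too many involutions invert
    haveI : Nontrivial (S : Subgroup G) :=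
      Finite.one_lt_card_iff_nontrivial.mp (by rw [hS]; norm_num)
    haveI := S.2.center_nontrivial
    obtain ⟨z₀, hz₀⟩ := exists_prime_orderOf_dvd_card' (G := Subgroup.center (S : Subgroup G)) 2 (by
      obtain ⟨k, hk⟩ := (S.2.to_subgroup (Subgroup.center (S : Subgroup G))).exists_card_eq
      rw [hk]
      refine dvd_pow_self 2 fun h0 => ?_
      rw [h0, pow_zero] at hk
      exact absurd hk (Finite.one_lt_card (α := Subgroup.center (S : Subgroup G))).ne')
    set z : G := ((z₀ : (S : Subgroup G)) : G) with hzdef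
    have hzo : orderOf z = 2 := by rw [hzdef, Subgroup.orderOf_coe, Subgroup.orderOf_coe, hz₀]
    have hzS : z ∈ (S : Subgroup G) := (z₀ : (S : Subgroup G)).2
    have hSz : (S : Subgroup G) ≤ Subgroup.centralizer ({z} : Set G) := fun s hs =>
      Subgroup.mem_centralizer_singleton_iff.mpr
        (congrArg Subtype.val (Subgroup.mem_center_iff.mp z₀.2 ⟨s, hs⟩))
    have h16 : 16 ∣ Nat.card (Subgroup.centralizer ({z} : Set G)) :=
      hS ▸ Subgroup.card_dvd_of_le hSz
    have hzN : z ∈ N := by
      obtain ⟨t', ht'R, ht'⟩ := exists_involution (H := R ⊓ CP) (by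
        have h1 : CP.relIndex R ≤ CP.relIndex N :=
          Subgroup.relIndex_le_of_le_right hRN (by
            intro h0
            have := Subgroup.card_mul_index (CP.subgroupOf N)
            rw [show (CP.subgroupOf N).index = 0 from h0, hN40, mul_zero] at this
            omega)
        have h2 : CP.relIndex N = 4 := by
          have := Subgroup.card_mul_index (CP.subgroupOf N)
          rw [Nat.card_congr (Subgroup.subgroupOfEquivOfLe
            (Sylow.centralizer_le_normalizer _)).toEquiv, hCP, hc10, hN40] at this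
          show (CP.subgroupOf N).index = 4
          omega
        have h3 := Subgroup.card_mul_index (CP.subgroupOf R)
        have h4 : Nat.card (CP.subgroupOf R) = Nat.card (R ⊓ CP : Subgroup G) := by
          rw [← Subgroup.inf_subgroupOf_left]
          exact Nat.card_congr (Subgroup.subgroupOfEquivOfLe inf_le_left).toEquiv
        rw [h4, hR8] at h3
        have h5 : (CP.subgroupOf R).index ≤ 4 := h2 ▸ h1
        obtain ⟨k, hk⟩ : Nat.card (R ⊓ CP : Subgroup G) ∣ 8 := Dvd.intro _ h3
        have h6 : Nat.card (R ⊓ CP : Subgroup G) ≤ 8 := Nat.le_of_dvd (by norm_num) ⟨k, hk⟩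
        interval_cases hh : Nat.card (R ⊓ CP : Subgroup G) <;> omega)
      rw [← hCi t' ht'R.2 ht']
      exact Subgroup.mem_centralizer_singleton_iff.mpr
        (Subgroup.mem_centralizer_singleton_iff.mp (hSz (hRS ht'R.1))).symm
    obtain ⟨⟨w, hw⟩, hw5⟩ := exists_prime_orderOf_dvd_card' (G := (P : Subgroup G)) 5
      (by rw [hcard5])
    rw [Subgroup.orderOf_mk] at hw5
    have hzw : Subgroup.zpowers w = (P : Subgroup G) :=
      Subgroup.eq_of_le_of_card_ge (Subgroup.zpowers_le.mpr hw)
        (by rw [Nat.card_zpowers, hw5, hcard5])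
    have hout : ∀ v ∈ N, orderOf v = 2 → Nat.card (Subgroup.centralizer ({v} : Set G)) ≠ 40 →
        v * w * v⁻¹ = w⁻¹ := by
      intro v hv hvo hvc
      refine inverts_of_prime (p := 5) v w (by rw [← pow_two, ← hvo, pow_orderOf_eq_one]) hw5
        (hzw ▸ (Subgroup.mem_normalizer_iff.mp hv w).mp hw) fun hc => hvc ?_
      rw [hCi v ?_ hvo, hN40]
      intro x hx
      rw [← hzw] at hx
      obtain ⟨j, rfl⟩ := Subgroup.mem_zpowers_iff.mp hx
      exact (Commute.zpow_right hc j).eq.symm
    have hczw : ∀ x : G, x * w * x⁻¹ = w → x ∈ CP := by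
      intro x hx y hy
      rw [← hzw] at hy
      obtain ⟨j, rfl⟩ := Subgroup.mem_zpowers_iff.mp hy
      exact (Commute.zpow_right (mul_inv_eq_iff_eq_mul.mp hx : Commute x w) j).eq.symm
    have hinvz := hout z hzN hzo fun h' => by rw [h'] at h16; norm_num at h16
    let F : Option {v : G // IsConj u v ∧ v ∈ N} → CP := fun o => match o with
      | none => 1
      | some v => ⟨z⁻¹ * v.1, by
          obtain ⟨v, hv, hvN⟩ := v
          have hvo : orderOf v = 2 := by
            obtain ⟨g, rfl⟩ := isConj_iff.mp hv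
            rw [← hu, ← MulAut.conj_apply]
            exact orderOf_injective (MulAut.conj g).toMonoidHom (MulAut.conj g).injective u
          have hi1 := hout v hvN hvo (by rw [card_centralizer_conj hv, ← hcdef, hc8]; norm_num)
          refine hczw _ ?_
          calc z⁻¹ * v * w * (z⁻¹ * v)⁻¹ = z⁻¹ * (v * w * v⁻¹) * z := by group
            _ = z⁻¹ * (z * w * z⁻¹) * z := by rw [hi1, hinvz]
            _ = w := by group⟩
    have hF : Function.Injective F := by
      have hne : ∀ v : {v : G // IsConj u v ∧ v ∈ N}, z⁻¹ * v.1 ≠ 1 := by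
        intro v hv
        have hvz : z = v.1 := inv_mul_eq_one.mp hv
        have := card_centralizer_conj v.2.1
        rw [← hvz, ← hcdef, hc8] at this
        rw [this] at h16
        norm_num at h16
      intro a b hab
      rcases a with _ | a <;> rcases b with _ | b
      · rfl
      · exact absurd (congrArg Subtype.val hab).symm (hne b)
      · exact absurd (congrArg Subtype.val hab) (hne a)
      · exact congrArg some (Subtype.ext (mul_left_cancel (congrArg Subtype.val hab)))
    have := Nat.card_le_card_of_injective F hF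
    rw [Finite.card_option, hconj10, hCP, hc10] at this
    omega
  · -- the part of `R` centralising `P` moves to itself
    set A := R ⊓ CP with hAdef
    have hA4 : 4 ≤ Nat.card A := by
      have h2 : CP.relIndex N = 2 := by
        have := Subgroup.card_mul_index (CP.subgroupOf N)
        rw [Nat.card_congr (Subgroup.subgroupOfEquivOfLe
          (Sylow.centralizer_le_normalizer _)).toEquiv, hCP, hc20, hN40] at this
        show (CP.subgroupOf N).index = 2
        omega
      have h1 : CP.relIndex R ≤ CP.relIndex N :=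
        Subgroup.relIndex_le_of_le_right hRN (by rw [h2]; norm_num)
      have h3 := Subgroup.card_mul_index (CP.subgroupOf R)
      have h4 : Nat.card (CP.subgroupOf R) = Nat.card (R ⊓ CP : Subgroup G) := by
        rw [← Subgroup.inf_subgroupOf_left]
        exact Nat.card_congr (Subgroup.subgroupOfEquivOfLe inf_le_left).toEquiv
      rw [h4, hR8] at h3
      have h5 : (CP.subgroupOf R).index ≤ 2 := h2 ▸ h1
      nlinarith
    obtain ⟨x, hxS, hxN⟩ := SetLike.not_le_iff_exists.mp hSN
    have hRn : ∀ r ∈ R, x * r * x⁻¹ ∈ R := by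
      have hle : (S : Subgroup G) ≤ Subgroup.normalizer (R : Set G) := by
        rw [← Subgroup.normal_subgroupOf_iff_le_normalizer hRS]
        refine Subgroup.normal_of_index_eq_two ?_
        have := Subgroup.card_mul_index (R.subgroupOf (S : Subgroup G))
        rw [Nat.card_congr (Subgroup.subgroupOfEquivOfLe hRS).toEquiv, hR8, hS] at this
        omega
      exact fun r hr => (Subgroup.mem_normalizer_iff.mp (hle hxS) r).mp hr
    have hcol : ∃ a ∈ A, a ≠ 1 ∧ x * a * x⁻¹ ∈ A := by
      by_contra hcon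
      push Not at hcon
      let F : A × A → R := fun p => ⟨x * p.1.1 * x⁻¹ * p.2.1,
        mul_mem (hRn _ p.1.2.1) p.2.2.1⟩
      have hF : Function.Injective F := by
        rintro ⟨a, b⟩ ⟨a', b'⟩ hab
        have h1 : x * a.1 * x⁻¹ * b.1 = x * a'.1 * x⁻¹ * b'.1 := congrArg Subtype.val hab
        have h2 : x * (a'.1⁻¹ * a.1) * x⁻¹ = b'.1 * b.1⁻¹ := by
          calc x * (a'.1⁻¹ * a.1) * x⁻¹
              = (x * a'.1 * x⁻¹)⁻¹ * (x * a.1 * x⁻¹ * b.1) * b.1⁻¹ := by group
            _ = (x * a'.1 * x⁻¹)⁻¹ * (x * a'.1 * x⁻¹ * b'.1) * b.1⁻¹ := by rw [h1]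
            _ = b'.1 * b.1⁻¹ := by group
        have h3 : a'.1⁻¹ * a.1 = 1 := by
          by_contra hne
          exact hcon _ (mul_mem (inv_mem a'.2) a.2) hne (h2 ▸ mul_mem b'.2 (inv_mem b.2))
        have h4 : a = a' := Subtype.ext (inv_mul_eq_one.mp h3).symm
        subst h4
        exact Prod.ext rfl (Subtype.ext (mul_left_cancel h1))
      have := Nat.card_le_card_of_injective F hF
      rw [Nat.card_prod, hR8] at this
      nlinarith
    obtain ⟨a, haA, ha1, hxa⟩ := hcol
    have hA2 : IsPGroup 2 A := (IsPGroup.of_card (p := 2) (n := 3) (by rw [hR8]; norm_num) :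
      IsPGroup 2 R).to_le inf_le_left
    obtain ⟨k, hk⟩ := IsPGroup.iff_orderOf.mp hA2 ⟨a, haA⟩
    rw [Subgroup.orderOf_mk] at hk
    have hk0 : k ≠ 0 := fun h0 => ha1 (orderOf_eq_one_iff.mp (by rw [hk, h0]; rfl))
    set i := a ^ 2 ^ (k - 1) with hidef
    have hio : orderOf i = 2 := by
      rw [hidef, orderOf_pow_of_dvd (pow_ne_zero _ (by norm_num))
        (by rw [hk]; exact pow_dvd_pow 2 (by omega)), hk]
      obtain ⟨j, rfl⟩ := Nat.exists_eq_succ_of_ne_zero hk0
      rw [Nat.succ_sub_one, pow_succ, Nat.mul_div_cancel_left _ (pow_pos (by norm_num) _)]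
    have hiA : i ∈ A := pow_mem haA _
    have hxiA : x * i * x⁻¹ ∈ A := by rw [hidef, ← conj_pow]; exact pow_mem hxa _
    have hxio : orderOf (x * i * x⁻¹) = 2 := by
      rw [← hio, ← MulAut.conj_apply]
      exact orderOf_injective (MulAut.conj x).toMonoidHom (MulAut.conj x).injective i
    have e1 := hCi i hiA.2 hio
    have e2 := hCi (x * i * x⁻¹) hxiA.2 hxio
    apply hxN
    -- `x` normalises `N`, hence `P`
    have hxP : ∀ q ∈ (P : Subgroup G), x * q * x⁻¹ ∈ N := by
      intro q hq
      have hqi : q ∈ Subgroup.centralizer ({i} : Set G) := e1 ▸ Subgroup.le_normalizer hq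
      rw [← e2, Subgroup.mem_centralizer_singleton_iff]
      calc x * q * x⁻¹ * (x * i * x⁻¹) = x * (q * i) * x⁻¹ := by group
        _ = x * (i * q) * x⁻¹ := by rw [Subgroup.mem_centralizer_singleton_iff.mp hqi]
        _ = x * i * x⁻¹ * (x * q * x⁻¹) := by group
    have hxP' : ((x • P : Sylow 5 G) : Subgroup G) ≤ N := by
      intro q hq
      rw [Sylow.coe_subgroup_smul, Subgroup.mem_pointwise_smul_iff_inv_smul_mem] at hq
      simp only [← map_inv, MulAut.smul_def, MulAut.conj_apply, inv_inv] at hq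
      have := hxP _ hq
      simpa [mul_assoc] using this
    have hp5 : IsPGroup 5 ((x • P : Sylow 5 G) : Subgroup G) := (x • P).2
    have := hp5.inf_normalizer_sylow P
    change ((x • P : Sylow 5 G) : Subgroup G) ⊓ N = _ at this
    rw [inf_eq_left.mpr hxP'] at this
    exact Sylow.smul_eq_iff_mem_normalizer.mp
      (Sylow.ext (Subgroup.eq_of_le_of_card_ge (inf_eq_left.mp this.symm)
        (by rw [hcard5, hcard5])))

end Cfsg.Agent.Lib.Classif.SmallOrderKills2
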