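import Mathlib

/-!
Coordinates for the action of a simple group of order 360 on its ten Sylow 3-subgroups:
`9` is one of them, `3a+b < 9` the image of another under `x^a y^b`.  Permutations are coded by
their lists of images.
-/

set_option autoImplicit false

namespace Cfsg.Agent.Lib.Classif.Order360Data

/-- Addition in `(ℤ/3)²` on the codes `0..8`; the code `9` is fixed. -/
def add (c p : Fin 10) : Fin 10 :=
  if p = 9 then 9 else ⟨(((p : ℕ) / 3 + (c : ℕ) / 3) % 3) * 3 + ((p : ℕ) % 3 + (c : ℕ) % 3) % 3, by omega⟩

/-- The map `(a, b) ↦ (-b, a)`. -/
def rot (p : Fin 10) : Fin 10 :=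
  if p = 9 then 9 else ⟨((2 * ((p : ℕ) % 3)) % 3) * 3 + ((p : ℕ) / 3) % 3, by omega⟩

/-- The negative of a code. -/
def neg (p : Fin 10) : Fin 10 :=
  if p = 9 then 9 else ⟨((2 * ((p : ℕ) / 3)) % 3) * 3 + (2 * ((p : ℕ) % 3)) % 3, by omega⟩

def comp (p q : List (Fin 10)) : List (Fin 10) := q.map fun i => p.getD i.val 0

def idL : List (Fin 10) := List.ofFn id

def tL (c : Fin 10) : List (Fin 10) := List.ofFn (add c)

def rL : List (Fin 10) := List.ofFn rot

/-- `rot^k`. -/
def rotN : ℕ → Fin 10 → Fin 10
  | 0 => id
  | k + 1 => fun p => rot (rotN k p)

/-- The involution swapping `0` and `9`, inverting `rot`, with `3 ↦ i` and `4 ↦ j`. -/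
def wF (i j p : Fin 10) : Fin 10 :=
  if p = 0 then 9
  else if p = 9 then 0
  else if p = 3 then i
  else if p = rot 3 then rotN 3 i
  else if p = rotN 2 3 then rotN 2 i
  else if p = rotN 3 3 then rotN 1 i
  else if p = 4 then j
  else if p = rot 4 then rotN 3 j
  else if p = rotN 2 4 then rotN 2 j
  else rotN 1 j

def wL (i j : Fin 10) : List (Fin 10) := List.ofFn (wF i j)

theorem cover : ∀ p : Fin 10, p = 0 ∨ p = 9 ∨ ∃ k : Fin 4, p = rotN k 3 ∨ p = rotN k 4 := by
  decide +kernel

theorem wF_rot : ∀ (i j : Fin 10) (k : Fin 4), wF i j (rotN k 3) = rotN ((4 - (k : ℕ)) % 4) i ∧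
    wF i j (rotN k 4) = rotN ((4 - (k : ℕ)) % 4) j := by
  decide +kernel

/-- `h` is a translation composed with a power of `rot`. -/
def affine (h : List (Fin 10)) : Bool :=
  (List.range 4).any fun k =>
    decide (h = comp (tL (h.getD 0 0)) (List.ofFn (rotN k)))

/-- The necessary conditions on `(i, j)`. -/
def okPair (i j : Fin 10) : Bool :=
  let w := wL i j
  decide (comp w w = idL) &&
    ((List.range 8).all fun a =>
      let a' : Fin 10 := Fin.ofNat 10 (a + 1)
      affine (comp w (comp (tL (neg (wF i j a'))) (comp w (comp (tL a') w)))))

/-- Generators `x`, `y`, `v`, `w`. -/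
def genL (i j : Fin 10) (g : Fin 4) : List (Fin 10) :=
  if g = 0 then tL 3 else if g = 1 then tL 1 else if g = 2 then rL else wL i j

/-- Value of a word. -/
def wordL (i j : Fin 10) (l : List (Fin 4)) : List (Fin 10) :=
  l.foldr (fun g acc => comp (genL i j g) acc) idL

/-- Run a program: each step multiplies an earlier entry by one of the two generators. -/
def run (a b : List (Fin 10)) (prog : List (ℕ × Bool)) : List (List (Fin 10)) :=
  prog.foldl (fun L s => L ++ [comp (if s.2 then b else a) (L.getD s.1 idL)]) [idL]

/-- The four pairs, each with a generator and a program for a subgroup of order 60. -/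
def cands : List ((Fin 10 × Fin 10) × List (Fin 4) × List (ℕ × Bool)) := [
  ((1, 8), [3],
   [(0, false), (0, true), (1, false), (1, true), (2, false), (3, true), (4, false), (5, false), (5, true), (6, false), (7, false), (7, true), (8, true), (9, false), (10, false), (10, true), (11, true), (12, false), (13, false), (14, false), (14, true), (15, true), (16, false), (17, false), (18, false), (18, true), (19, true), (20, true), (22, false), (23, false), (23, true), (24, true), (25, true), (27, false), (28, false), (29, true), (30, true), (32, false), (33, false), (34, false), (34, true), (35, true), (36, false), (37, false), (38, false), (38, true), (39, true), (40, true), (42, false), (43, false), (43, true), (44, true), (45, true), (48, false), (49, false), (53, false), (54, true), (55, true), (56, true)]),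
  ((2, 4), [3],
   [(0, false), (0, true), (1, false), (1, true), (2, false), (3, true), (4, false), (5, false), (5, true), (6, false), (7, false), (7, true), (8, true), (9, false), (10, false), (10, true), (11, true), (12, false), (13, false), (14, false), (14, true), (15, true), (16, false), (17, false), (18, false), (18, true), (19, true), (20, true), (22, false), (23, false), (23, true), (24, true), (25, true), (27, false), (28, false), (29, true), (30, true), (32, false), (33, false), (34, false), (34, true), (35, true), (36, false), (37, false), (38, false), (38, true), (39, true), (40, true), (42, false), (43, false), (43, true), (44, true), (45, true), (48, false), (49, false), (53, false), (54, true), (55, true), (56, true)]),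
  ((3, 7), [2, 3],
   [(0, false), (0, true), (1, false), (1, true), (2, false), (3, true), (4, false), (5, false), (5, true), (6, false), (7, false), (7, true), (8, true), (9, false), (10, false), (10, true), (11, true), (12, false), (13, false), (14, false), (14, true), (15, true), (16, false), (17, false), (18, false), (18, true), (19, true), (20, true), (22, false), (23, false), (23, true), (24, true), (25, true), (27, false), (28, false), (29, true), (30, true), (32, false), (33, false), (34, false), (34, true), (35, true), (36, false), (37, false), (38, false), (38, true), (39, true), (40, true), (42, false), (43, false), (43, true), (44, true), (45, true), (48, false), (49, false), (53, false), (54, true), (55, true), (56, true)]),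
  ((6, 5), [3, 2],
   [(0, false), (0, true), (1, false), (1, true), (2, false), (3, true), (4, false), (5, false), (5, true), (6, false), (7, false), (7, true), (8, true), (9, false), (10, false), (10, true), (11, true), (12, false), (13, false), (14, false), (14, true), (15, true), (16, false), (17, false), (18, false), (18, true), (19, true), (20, true), (22, false), (23, false), (23, true), (24, true), (25, true), (27, false), (28, false), (29, true), (30, true), (32, false), (33, false), (34, false), (34, true), (35, true), (36, false), (37, false), (38, false), (38, true), (39, true), (40, true), (42, false), (43, false), (43, true), (44, true), (45, true), (48, false), (49, false), (53, false), (54, true), (55, true), (56, true)])]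


/-- The subgroup of a candidate has 60 elements. -/
def okSubgroup (i j : Fin 10) (word : List (Fin 4)) (prog : List (ℕ × Bool)) : Bool :=
  let a := tL 3
  let b := wordL i j word
  let L := run a b prog
  decide (L.length = 60) && decide L.Nodup &&
    L.all fun x => L.contains (comp a x) && L.contains (comp b x)

theorem cands_ok : (cands.all fun c => okSubgroup c.1.1 c.1.2 c.2.1 c.2.2) = true := by
  decide +kernel

theorem pairs_ok : ∀ i j : Fin 10, i ≠ 0 → i ≠ 9 → j ≠ 0 → j ≠ 9 → okPair i j = true →
    (i, j) ∈ cands.map Prod.fst := by
  decide +kernel

theorem exists_data (i j : Fin 10) (hi0 : i ≠ 0) (hi9 : i ≠ 9) (hj0 : j ≠ 0) (hj9 : j ≠ 9)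
    (h : okPair i j = true) :
    ∃ (word : List (Fin 4)) (prog : List (ℕ × Bool)), okSubgroup i j word prog = true := by
  obtain ⟨c, hc, he⟩ := List.mem_map.mp (pairs_ok i j hi0 hi9 hj0 hj9 h)
  refine ⟨c.2.1, c.2.2, ?_⟩
  have := List.all_eq_true.mp cands_ok c hc
  rwa [he] at this

end Cfsg.Agent.Lib.Classif.Order360Data
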