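import Mathlib
import Cfsg.Agent.Lib.Classif.SmallOrderKills
import Cfsg.Agent.Lib.Classif.Order360Data

/-!
A simple group of order 360 has a subgroup of index 6: coordinates on the ten Sylow 3-subgroups,
where the two-point stabiliser is cyclic of order four and a swapping involution inverts it.
-/

set_option autoImplicit false

namespace Cfsg.Agent.Lib.Classif.Order360

open scoped Pointwise
open Cfsg.Agent.Lib.SmallGroups Cfsg.Agent.Lib.Classif.SmallOrderTools
  Cfsg.Agent.Lib.Classif.SmallOrderKills Cfsg.Agent.Lib.Classif.Order360Data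

variable {G : Type*} [Group G] [Finite G] [IsSimpleGroup G]

theorem getD_ofFn (F : Fin 10 → Fin 10) (p : Fin 10) : (List.ofFn F).getD p.val 0 = F p := by
  rw [List.getD_eq_getElem _ _ (by simp), List.getElem_ofFn]

theorem sq_add_one_ne : ∀ s : ZMod 3, s * s + 1 ≠ 0 := by decide

theorem card_sylow_three (hG : ¬ IsMulCommutative G) (h : Nat.card G = 360) :
    Nat.card (Sylow 3 G) = 10 := by
  haveI : Fact (Nat.Prime 3) := ⟨by norm_num⟩
  have hm := OrderSieve.mem_adm hG (p := 3) (a := 2) (m := 40) (by omega) (by norm_num)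
    (by norm_num) (by norm_num)
  rw [h] at hm
  have key : ∀ d ∈ OrderSieve.adm 360 3 2 40, d = 10 ∨ d = 40 := by decide +kernel
  rcases key _ hm with e | e
  · exact e
  exfalso
  let P : Sylow 3 G := default
  have hP : Nat.card (P : Subgroup G) = 3 ^ 2 := Sylow.card_sylow_eq P (m := 40) (by omega) (by norm_num)
  have hN := Sylow.card_normalizer_mul P
  rw [e, h] at hN
  have hNP : (P : Subgroup G) = Subgroup.normalizer ((P : Subgroup G) : Set G) :=
    Subgroup.eq_of_le_of_card_ge Subgroup.le_normalizer (by rw [hP]; omega)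
  refine Sylow.not_normalizer_le_centralizer hG P ?_ ?_
  · intro hb; rw [hb, Subgroup.card_bot] at hP; norm_num at hP
  · rw [← hNP]
    intro x hx y hy
    exact congrArg Subtype.val
      ((IsPGroup.isMulCommutative_of_card_eq_prime_sq hP).is_comm.comm ⟨y, hy⟩ ⟨x, hx⟩)

/-- With ten Sylow 3-subgroups, any two meet trivially. -/
theorem inf_eq_bot_ten (hG : ¬ IsMulCommutative G) (h : Nat.card G = 360)
    (h10 : Nat.card (Sylow 3 G) = 10) [Fact (Nat.Prime 3)] (P R : Sylow 3 G) (hne : P ≠ R) :
    (P : Subgroup G) ⊓ R = ⊥ := by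
  classical
  by_contra hbot
  set D : Subgroup G := (P : Subgroup G) ⊓ R with hDdef
  have hcard : ∀ Q : Sylow 3 G, Nat.card (Q : Subgroup G) = 9 := fun Q => by
    simpa using Sylow.card_sylow_eq Q (a := 2) (m := 40) (by omega) (by norm_num)
  have hmeet : ∀ A B : Sylow 3 G, A ≠ B → D ≤ A → D ≤ B → (A : Subgroup G) ⊓ B = D := by
    intro A B hAB hA hB
    refine (Subgroup.eq_of_le_of_card_ge (le_inf hA hB) ?_).symm
    have hd : Nat.card ((A : Subgroup G) ⊓ B : Subgroup G) ∣ 3 ^ 2 := by
      have := Subgroup.card_dvd_of_le (inf_le_left : (A : Subgroup G) ⊓ B ≤ A)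
      rwa [hcard] at this
    have hD1 : 1 < Nat.card D := Subgroup.one_lt_card_iff_ne_bot D |>.mpr hbot
    obtain ⟨k, hk, hk'⟩ := (Nat.dvd_prime_pow Nat.prime_three).mp hd
    have hdD : Nat.card D ∣ 3 ^ 2 := by
      have := Subgroup.card_dvd_of_le (inf_le_left : D ≤ (P : Subgroup G))
      rwa [hcard] at this
    obtain ⟨j, hj, hj'⟩ := (Nat.dvd_prime_pow Nat.prime_three).mp hdD
    have hk1 : k ≠ 2 := by
      rintro rfl
      exact hAB (Sylow.ext ((Subgroup.eq_of_le_of_card_ge inf_le_left (by rw [hcard, hk']; norm_num)).symm.trans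
        (Subgroup.eq_of_le_of_card_ge inf_le_right (by rw [hcard, hk']; norm_num))))
    have hj0 : j ≠ 0 := by rintro rfl; rw [hj'] at hD1; norm_num at hD1
    rw [hk', hj']
    exact Nat.pow_le_pow_right (by norm_num) (by omega)
  have hD3 : Nat.card D = 3 := by
    have hdD : Nat.card D ∣ 3 ^ 2 := by
      have := Subgroup.card_dvd_of_le (inf_le_left : D ≤ (P : Subgroup G))
      rwa [hcard] at this
    obtain ⟨j, hj, hj'⟩ := (Nat.dvd_prime_pow Nat.prime_three).mp hdD
    interval_cases j
    · exact absurd (Subgroup.card_eq_one.mp (by simpa using hj')) hbot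
    · simpa using hj'
    · exfalso
      exact hne (Sylow.ext ((Subgroup.eq_of_le_of_card_ge inf_le_left (by rw [hcard, hj']; norm_num)).symm.trans
        (Subgroup.eq_of_le_of_card_ge inf_le_right (by rw [hcard, hj']; norm_num))))
  have habel : ∀ Q : Sylow 3 G, IsMulCommutative (Q : Subgroup G) := fun Q =>
    IsPGroup.isMulCommutative_of_card_eq_prime_sq (p := 3) (by rw [hcard]; norm_num)
  set C : Subgroup G := Subgroup.centralizer (D : Set G) with hC
  have hcen : ∀ Q : Sylow 3 G, D ≤ (Q : Subgroup G) → (Q : Subgroup G) ≤ C := by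
    intro Q hQ x hx y hy
    exact congrArg Subtype.val ((habel Q).is_comm.comm ⟨y, hQ hy⟩ ⟨x, hx⟩)
  -- four Sylow subgroups above `D`
  obtain ⟨x, hxP, hxD⟩ : ∃ x ∈ (P : Subgroup G), x ∉ D :=
    SetLike.not_le_iff_exists.mp fun hle => by
      have := Subgroup.card_le_of_le hle; rw [hcard] at this; omega
  have hx9 : x ^ 9 = 1 := by
    have := pow_card_eq_one' (x := (⟨x, hxP⟩ : (P : Subgroup G)))
    rw [hcard] at this
    simpa using congrArg Subtype.val this
  have hxR : x • R ≠ R := fun he => hxD ⟨hxP, mem_of_smul_eq x (n := 2) (by simpa using hx9) R he⟩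
  have hx2R : (x * x) • R ≠ R := by
    intro he
    have h2 : x * x ∈ R := mem_of_smul_eq (x * x) (n := 2)
      (by show (x * x) ^ 9 = 1; rw [← pow_two, ← pow_mul, mul_comm, pow_mul, hx9, one_pow]) R he
    refine hxD ⟨hxP, ?_⟩
    have : x = (x * x) ^ 5 := by
      rw [← pow_two, ← pow_mul, show 2 * 5 = 9 + 1 by norm_num, pow_succ, hx9, one_mul]
    rw [this]
    exact pow_mem h2 5
  have hxP' : x • P = P := Sylow.smul_eq_iff_mem_normalizer.mpr (Subgroup.le_normalizer hxP)
  have hfixD : ∀ y ∈ (P : Subgroup G), ∀ Q : Sylow 3 G, D ≤ (Q : Subgroup G) →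
      D ≤ ((y • Q : Sylow 3 G) : Subgroup G) := by
    intro y hy Q hQ z hz
    rw [Sylow.coe_subgroup_smul, Subgroup.mem_pointwise_smul_iff_inv_smul_mem]
    simp only [← map_inv, MulAut.smul_def, MulAut.conj_apply, inv_inv]
    have : z * y = y * z := hcen P inf_le_left hy z hz
    rw [mul_assoc, this, inv_mul_cancel_left]
    exact hQ hz
  let f : Fin 4 → Sylow 3 G := ![P, R, x • R, (x * x) • R]
  have hfi : Function.Injective f := by
    have e1 : P ≠ x • R := fun e => hne (MulAction.injective x (hxP'.trans e))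
    have e2 : P ≠ (x * x) • R := fun e => hne (MulAction.injective (x * x)
      (by show (x * x) • P = (x * x) • R; rw [mul_smul, hxP', hxP', e]))
    have e3 : x • R ≠ (x * x) • R := fun e => hxR (MulAction.injective x
      (show x • (x • R) = x • R by rw [smul_smul, ← e]))
    intro i j hij
    fin_cases i <;> fin_cases j
    all_goals first
      | rfl
      | exact absurd hij hne
      | exact absurd hij hne.symm
      | exact absurd hij e1
      | exact absurd hij e1.symm
      | exact absurd hij e2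
      | exact absurd hij e2.symm
      | exact absurd hij e3
      | exact absurd hij e3.symm
      | exact absurd hij hxR
      | exact absurd hij hxR.symm
      | exact absurd hij hx2R
      | exact absurd hij hx2R.symm
  have hfD : ∀ i, D ≤ (f i : Subgroup G) := by
    intro i
    fin_cases i
    · exact inf_le_left
    · exact inf_le_right
    · exact hfixD x hxP R inf_le_right
    · exact hfixD _ (mul_mem hxP hxP) R inf_le_right
  set N := Subgroup.normalizer (D : Set G) with hNdef
  have hidx8 : 8 ≤ N.index := by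
    have hNtop : N ≠ ⊤ := by
      intro htop
      rcases (Subgroup.normalizer_eq_top_iff.mp htop).eq_bot_or_eq_top with h' | h'
      · exact hbot h'
      · rw [h', Subgroup.card_top, h] at hD3; omega
    have hPN : (P : Subgroup G) ≤ N := (hcen P inf_le_left).trans (Sylow.centralizer_le_normalizer D)
    have h9 : 9 ∣ Nat.card N := hcard P ▸ Subgroup.card_dvd_of_le hPN
    have hidx := Sylow.two_mul_card_dvd_factorial hG hNtop
    have hmul := N.card_mul_index
    rw [h] at hidx hmul
    by_contra hlt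
    push Not at hlt
    have hi0 : N.index ≠ 0 := Subgroup.index_ne_zero_of_finite
    obtain ⟨q, hq⟩ := h9
    rw [hq] at hmul
    have hq40 : q * N.index = 40 := by nlinarith
    interval_cases hi' : N.index <;> first
      | omega
      | (revert hidx; decide)
  -- count ordered pairs
  let F : (G ⧸ N) × {p : Fin 4 × Fin 4 // p.1 ≠ p.2} → {p : Sylow 3 G × Sylow 3 G // p.1 ≠ p.2} :=
    fun a => ⟨(a.1.out • f a.2.1.1, a.1.out • f a.2.1.2),
      fun e => a.2.2 (hfi (MulAction.injective _ e))⟩
  have hF : Function.Injective F := by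
    rintro ⟨q, ⟨⟨i, j⟩, hij⟩⟩ ⟨q', ⟨⟨i', j'⟩, hij'⟩⟩ he
    have he' := congrArg Subtype.val he
    simp only [F, Prod.mk.injEq] at he'
    obtain ⟨h1, h2⟩ := he'
    have hconj : MulAut.conj q.out • D = MulAut.conj q'.out • D := by
      conv_lhs => rw [← hmeet (f i) (f j) (fun e => hij (hfi e)) (hfD i) (hfD j)]
      conv_rhs => rw [← hmeet (f i') (f j') (fun e => hij' (hfi e)) (hfD i') (hfD j')]
      rw [Subgroup.smul_inf, Subgroup.smul_inf, ← Sylow.coe_subgroup_smul,
        ← Sylow.coe_subgroup_smul, ← Sylow.coe_subgroup_smul, ← Sylow.coe_subgroup_smul, h1, h2]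
    have hq : q = q' := by
      rw [← QuotientGroup.out_eq' q, ← QuotientGroup.out_eq' q', QuotientGroup.eq]
      refine Subgroup.mem_normalizer_iff_map_conj_eq.mpr ?_
      have h3 : MulAut.conj (q.out⁻¹ * q'.out) • D = D := by
        rw [map_mul, mul_smul, ← hconj, smul_smul, ← map_mul, inv_mul_cancel, map_one, one_smul]
      exact h3
    subst hq
    have e1 := hfi (MulAction.injective _ h1)
    have e2 := hfi (MulAction.injective _ h2)
    subst e1; subst e2; rfl
  have hFc := Nat.card_le_card_of_injective F hF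
  haveI : Fintype (Sylow 3 G) := Fintype.ofFinite _
  have hpairs : Nat.card {p : Sylow 3 G × Sylow 3 G // p.1 ≠ p.2} = 90 := by
    rw [Nat.card_eq_fintype_card, Fintype.card_subtype_compl, Fintype.card_prod,
      ← Nat.card_eq_fintype_card, h10]
    have : Fintype.card {p : Sylow 3 G × Sylow 3 G // p.1 = p.2} = 10 := by
      rw [← h10, Nat.card_eq_fintype_card]
      exact Fintype.card_congr ⟨fun p => p.1.1, fun a => ⟨(a, a), rfl⟩,
        fun ⟨⟨a, b⟩, hab⟩ => by cases hab; rfl, fun a => rfl⟩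
    rw [this]
  rw [Nat.card_prod, hpairs, ← Subgroup.index_eq_card, Nat.card_eq_fintype_card,
    show Fintype.card {p : Fin 4 × Fin 4 // p.1 ≠ p.2} = 12 by decide] at hFc
  omega

/-- A simple group of order 360 has a subgroup of index 6. -/
theorem exists_index_six (hG : ¬ IsMulCommutative G) (h : Nat.card G = 360) :
    ∃ H : Subgroup G, H.index = 6 := by
  classical
  haveI : Fact (Nat.Prime 3) := ⟨by norm_num⟩
  haveI : Fact (Nat.Prime 2) := ⟨Nat.prime_two⟩
  have h10 := card_sylow_three hG h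
  haveI : Fintype (Sylow 3 G) := Fintype.ofFinite _
  have hcard : ∀ Q : Sylow 3 G, Nat.card (Q : Subgroup G) = 9 := fun Q => by
    simpa using Sylow.card_sylow_eq Q (a := 2) (m := 40) (by omega) (by norm_num)
  have h9 : ∀ (A : Sylow 3 G) (x : G), x ∈ A → x ^ 9 = 1 := fun A x hx => by
    have := pow_card_eq_one' (x := (⟨x, hx⟩ : (A : Subgroup G)))
    rw [hcard] at this
    simpa using congrArg Subtype.val this
  have hsemi : ∀ (A B : Sylow 3 G), A ≠ B → ∀ x ∈ (A : Subgroup G), x • B = B → x = 1 := by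
    intro A B hAB x hx he
    have hxB := mem_of_smul_eq x (n := 2) (by simpa using h9 A x hx) B he
    have : x ∈ (A : Subgroup G) ⊓ B := ⟨hx, hxB⟩
    rw [inf_eq_bot_ten hG h h10 A B hAB] at this
    exact Subgroup.mem_bot.mp this
  have hfixA : ∀ (A : Sylow 3 G), ∀ x ∈ (A : Subgroup G), x • A = A := fun A x hx =>
    Sylow.smul_eq_iff_mem_normalizer.mpr (Subgroup.le_normalizer hx)
  have hreg : ∀ (A B C : Sylow 3 G), A ≠ B → A ≠ C → ∃ x ∈ (A : Subgroup G), x • B = C := by
    intro A B C hAB hAC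
    let F : ↥(A : Subgroup G) → {R : Sylow 3 G // R ≠ A} := fun x => ⟨(x : G) • B,
      fun e => hAB (MulAction.injective (x : G) (show (x : G) • A = (x : G) • B from
        (hfixA A x x.2).trans e.symm))⟩
    have hFi : Function.Injective F := by
      intro x y hxy
      have h1 : (x : G) • B = (y : G) • B := congrArg Subtype.val hxy
      have h2 := hsemi A B hAB ((y : G)⁻¹ * x) (mul_mem (inv_mem y.2) x.2)
        (by rw [mul_smul, h1, inv_smul_smul])
      exact Subtype.ext (inv_mul_eq_one.mp h2).symm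
    have hcR : Nat.card {R : Sylow 3 G // R ≠ A} = 9 := by
      rw [Nat.card_eq_fintype_card, Fintype.card_subtype_compl, Fintype.card_subtype_eq,
        ← Nat.card_eq_fintype_card, h10]
    have hFb := (Nat.bijective_iff_injective_and_card F).mpr ⟨hFi, by rw [hcard, hcR]⟩
    obtain ⟨x, hx⟩ := hFb.2 ⟨C, hAC.symm⟩
    exact ⟨x, x.2, congrArg Subtype.val hx⟩
  let P : Sylow 3 G := default
  obtain ⟨Q, hQP⟩ : ∃ Q : Sylow 3 G, Q ≠ P := by
    haveI : Nontrivial (Sylow 3 G) := Finite.one_lt_card_iff_nontrivial.mp (by rw [h10]; norm_num)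
    exact exists_ne P
  let K : Subgroup G :=
    Subgroup.normalizer ((P : Subgroup G) : Set G) ⊓ Subgroup.normalizer ((Q : Subgroup G) : Set G)
  have hK : ∀ g, g ∈ K ↔ g • P = P ∧ g • Q = Q := fun g =>
    ⟨fun hg => ⟨Sylow.smul_eq_iff_mem_normalizer.mpr hg.1, Sylow.smul_eq_iff_mem_normalizer.mpr hg.2⟩,
      fun hg => ⟨Sylow.smul_eq_iff_mem_normalizer.mp hg.1, Sylow.smul_eq_iff_mem_normalizer.mp hg.2⟩⟩
  have hK4 : Nat.card K = 4 := by
    let F : ↥(P : Subgroup G) × K → Subgroup.normalizer ((P : Subgroup G) : Set G) := fun a =>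
      ⟨a.1.1 * a.2.1, mul_mem (Subgroup.le_normalizer a.1.2) a.2.2.1⟩
    have hFb : Function.Bijective F := by
      constructor
      · rintro ⟨a, b⟩ ⟨a', b'⟩ he
        have he' : a.1 * b.1 = a'.1 * b'.1 := congrArg Subtype.val he
        have h1 : a'.1⁻¹ * a.1 = b'.1 * b.1⁻¹ := by
          rw [eq_mul_inv_iff_mul_eq, mul_assoc, he', inv_mul_cancel_left]
        have h2 := hsemi P Q hQP.symm _ (mul_mem (inv_mem a'.2) a.2)
          (h1 ▸ ((hK _).mp (mul_mem b'.2 (inv_mem b.2))).2)
        have : a = a' := Subtype.ext (inv_mul_eq_one.mp h2).symm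
        subst this
        exact Prod.ext rfl (Subtype.ext (mul_left_cancel he'))
      · rintro ⟨g, hg⟩
        have hgP : g • P = P := Sylow.smul_eq_iff_mem_normalizer.mpr hg
        obtain ⟨x, hx, hxQ⟩ := hreg P Q (g • Q) hQP.symm
          (fun e => hQP (MulAction.injective g (hgP.trans e)).symm)
        refine ⟨(⟨x, hx⟩, ⟨x⁻¹ * g, (hK _).mpr ⟨?_, ?_⟩⟩), Subtype.ext (mul_inv_cancel_left x g)⟩
        · rw [mul_smul, hgP, inv_smul_eq_iff, hfixA P x hx]
        · rw [mul_smul, ← hxQ, inv_smul_smul]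
    have := Nat.card_eq_of_bijective F hFb
    have hN := Sylow.card_normalizer_mul P
    rw [Nat.card_prod, hcard] at this
    rw [h10, h] at hN
    omega
  have hinj : ∀ g : G, (∀ R : Sylow 3 G, g • R = R) → g = 1 := by
    intro g hg
    by_contra hne
    obtain ⟨R, hR⟩ := not_fix_all (p := 3) (by omega) hne
    exact hR (hg R)
  -- involutions in `K`
  have hinvol : ∀ u ∈ K, orderOf u = 2 →
      (∀ x ∈ (P : Subgroup G), u * x * u⁻¹ = x⁻¹) ∧ ∀ R : Sylow 3 G, u • R = R → R = P ∨ R = Q := by
    intro u hu huo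
    have huu : u * u = 1 := by rw [← pow_two, ← huo, pow_orderOf_eq_one]
    have hui : u⁻¹ = u := inv_eq_of_mul_eq_one_right huu
    have huP := ((hK u).mp hu).1
    have huQ := ((hK u).mp hu).2
    have hfx : ∀ x ∈ (P : Subgroup G), u • (x • Q) = x • Q → u * x * u⁻¹ = x := by
      intro x hx he
      have hmem : x⁻¹ * (u * x * u⁻¹) ∈ (P : Subgroup G) :=
        mul_mem (inv_mem hx) ((Subgroup.mem_normalizer_iff.mp hu.1 x).mp hx)
      refine (inv_mul_eq_one.mp (hsemi P Q hQP.symm _ hmem ?_)).symm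
      rw [mul_smul, mul_smul, mul_smul, inv_smul_eq_iff.mpr huQ.symm, he, inv_smul_smul]
    set W : Subgroup G := (P : Subgroup G) ⊓ Subgroup.centralizer ({u} : Set G) with hW
    have hWd : Nat.card W ∣ 3 ^ 2 := by
      have := Subgroup.card_dvd_of_le (inf_le_left : W ≤ (P : Subgroup G))
      rwa [hcard] at this
    have hfixcard : Nat.card {R : Sylow 3 G // u • R = R} = Nat.card W + 1 := by
      have hcomm : ∀ x ∈ W, u • (x • Q) = x • Q := by
        intro x hx
        rw [smul_smul, ← Subgroup.mem_centralizer_singleton_iff.mp hx.2, mul_smul, huQ]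
      let F : Option W → {R : Sylow 3 G // u • R = R} := fun o => match o with
        | none => ⟨P, huP⟩
        | some x => ⟨(x : G) • Q, hcomm x x.2⟩
      have hFb : Function.Bijective F := by
        constructor
        · intro a b hab
          have hne : ∀ x : W, (x : G) • Q ≠ P := fun x e => hQP (MulAction.injective (x : G)
            (show (x : G) • Q = (x : G) • P by rw [e, hfixA P x x.2.1]))
          rcases a with _ | a <;> rcases b with _ | b
          · rfl
          · exact absurd (congrArg Subtype.val hab).symm (hne b)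
          · exact absurd (congrArg Subtype.val hab) (hne a)
          · have h1 : (a : G) • Q = (b : G) • Q := congrArg Subtype.val hab
            have h2 := hsemi P Q hQP.symm ((b : G)⁻¹ * a) (mul_mem (inv_mem b.2.1) a.2.1)
              (by rw [mul_smul, h1, inv_smul_smul])
            exact congrArg some (Subtype.ext (inv_mul_eq_one.mp h2).symm)
        · rintro ⟨R, hR⟩
          by_cases hRP : R = P
          · subst hRP; exact ⟨none, rfl⟩
          obtain ⟨x, hx, rfl⟩ := hreg P Q R hQP.symm (Ne.symm hRP)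
          have hxW : x ∈ W := ⟨hx, Subgroup.mem_centralizer_singleton_iff.mpr
            (mul_inv_eq_iff_eq_mul.mp (hfx x hx hR)).symm⟩
          exact ⟨some ⟨x, hxW⟩, rfl⟩
      rw [← Nat.card_eq_of_bijective F hFb, Finite.card_option]
    have h4 := four_dvd_moved (α := Sylow 3 G) hG u (by rw [pow_two, huu])
    rw [h10, hfixcard] at h4
    have hlt : Nat.card {R : Sylow 3 G // u • R = R} < 10 := by
      obtain ⟨R, hR⟩ := not_fix_all (p := 3) (by omega) (show u ≠ 1 from fun e => by
        rw [e, orderOf_one] at huo; omega)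
      rw [← h10]
      exact Finite.card_subtype_lt hR
    rw [hfixcard] at hlt
    obtain ⟨k, hk, hk'⟩ := (Nat.dvd_prime_pow Nat.prime_three).mp hWd
    have hk0 : k = 0 := by interval_cases k <;> omega
    rw [hk0, pow_zero] at hk'
    have hW1 : W = ⊥ := Subgroup.card_eq_one.mp hk'
    constructor
    · intro x hx
      have hy : u * x * u⁻¹ ∈ (P : Subgroup G) := (Subgroup.mem_normalizer_iff.mp hu.1 x).mp hx
      have hcm : x * (u * x * u⁻¹) = u * x * u⁻¹ * x := congrArg Subtype.val
        ((IsPGroup.isMulCommutative_of_card_eq_prime_sq (p := 3) (by rw [hcard]; norm_num) :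
          IsMulCommutative (P : Subgroup G)).is_comm.comm ⟨x, hx⟩ ⟨_, hy⟩)
      have hxW : x * (u * x * u⁻¹) ∈ W := by
        refine ⟨mul_mem hx hy, Subgroup.mem_centralizer_singleton_iff.mpr ?_⟩
        calc x * (u * x * u⁻¹) * u = (u * u) * x * (u * x) := by rw [huu, one_mul]; group
          _ = u * (u * x * u⁻¹ * x) := by
              rw [hui]
              simp only [mul_assoc]
          _ = u * (x * (u * x * u⁻¹)) := by rw [hcm]
      rw [hW1, Subgroup.mem_bot] at hxW
      exact eq_inv_of_mul_eq_one_right hxW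
    · intro R hR
      by_cases hRP : R = P
      · exact Or.inl hRP
      obtain ⟨x, hx, rfl⟩ := hreg P Q R hQP.symm (Ne.symm hRP)
      have hxW : x ∈ W := ⟨hx, Subgroup.mem_centralizer_singleton_iff.mpr
        (mul_inv_eq_iff_eq_mul.mp (hfx x hx hR)).symm⟩
      rw [hW1, Subgroup.mem_bot] at hxW
      rw [hxW, one_smul]
      exact Or.inr rfl
  obtain ⟨u, huK, hu⟩ := exists_involution (H := K) (by rw [hK4]; norm_num)
  have huu : u * u = 1 := by rw [← pow_two, ← hu, pow_orderOf_eq_one]
  have hu1 : u ≠ 1 := fun e => by rw [e, orderOf_one] at hu; omega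
  have huniq : ∀ v ∈ K, orderOf v = 2 → v = u := by
    intro v hv hvo
    have hvu : v * u = 1 := by
      refine hinj _ fun R => ?_
      have hP' : (v * u) • P = P := ((hK _).mp (mul_mem hv huK)).1
      by_cases hRP : R = P
      · rw [hRP]; exact hP'
      obtain ⟨x, hx, rfl⟩ := hreg P Q R hQP.symm (Ne.symm hRP)
      have h1 : v * u * x * (v * u)⁻¹ = x := by
        calc v * u * x * (v * u)⁻¹ = v * (u * x * u⁻¹) * v⁻¹ := by group
          _ = v * x⁻¹ * v⁻¹ := by rw [(hinvol u huK hu).1 x hx]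
          _ = x := by rw [(hinvol v hv hvo).1 _ (inv_mem hx), inv_inv]
      rw [smul_smul, mul_inv_eq_iff_eq_mul.mp h1, mul_smul,
        ((hK _).mp (mul_mem hv huK)).2]
    exact (mul_eq_one_iff_eq_inv.mp hvu).trans (inv_eq_of_mul_eq_one_right huu)
  -- a generator of `K`
  obtain ⟨v, hvK, hv1, hvu⟩ : ∃ v ∈ K, v ≠ 1 ∧ v ≠ u := by
    by_contra hc
    push Not at hc
    have : (K : Set G) ⊆ {1, u} := fun k hk => by
      by_cases h1 : k = 1
      · exact Or.inl h1
      · exact Or.inr (hc k hk h1)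
    have := Set.ncard_le_ncard this
    rw [← Nat.card_coe_set_eq] at this
    have h2 : ({1, u} : Set G).ncard ≤ 2 := (Set.ncard_insert_le _ _).trans (by simp)
    have h3 : Nat.card (K : Set G) = 4 := hK4
    omega
  have hK4' : ∀ k ∈ K, k ^ 4 = 1 := fun k hk => by
    have := pow_card_eq_one' (x := (⟨k, hk⟩ : K))
    rw [hK4] at this
    simpa using congrArg Subtype.val this
  have hvv : v * v = u := by
    have hne : v * v ≠ 1 := fun e => hvu (huniq v hvK (orderOf_eq_prime (by rw [pow_two, e]) hv1))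
    exact huniq _ (mul_mem hvK hvK)
      (orderOf_eq_prime (by rw [← pow_two, ← pow_mul, hK4' v hvK]) hne)
  have hvo : orderOf v = 2 ^ (1 + 1) := orderOf_eq_prime_pow
    (by rw [pow_one, pow_two, hvv]; exact hu1) (hK4' v hvK)
  have hKv : Subgroup.zpowers v = K :=
    Subgroup.eq_of_le_of_card_ge (Subgroup.zpowers_le.mpr hvK)
      (by rw [Nat.card_zpowers, hvo, hK4]; norm_num)
  -- the setwise stabiliser
  let S : Subgroup G :=
    { carrier := {g | (g • P = P ∧ g • Q = Q) ∨ (g • P = Q ∧ g • Q = P)}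
      one_mem' := Or.inl ⟨one_smul _ _, one_smul _ _⟩
      mul_mem' := by
        intro a b ha hb
        rcases ha with ⟨a1, a2⟩ | ⟨a1, a2⟩ <;> rcases hb with ⟨b1, b2⟩ | ⟨b1, b2⟩
        · exact Or.inl ⟨by rw [mul_smul, b1, a1], by rw [mul_smul, b2, a2]⟩
        · exact Or.inr ⟨by rw [mul_smul, b1, a2], by rw [mul_smul, b2, a1]⟩
        · exact Or.inr ⟨by rw [mul_smul, b1, a1], by rw [mul_smul, b2, a2]⟩
        · exact Or.inl ⟨by rw [mul_smul, b1, a2], by rw [mul_smul, b2, a1]⟩
      inv_mem' := by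
        intro a ha
        rcases ha with ⟨a1, a2⟩ | ⟨a1, a2⟩
        · exact Or.inl ⟨by rw [inv_smul_eq_iff, a1], by rw [inv_smul_eq_iff, a2]⟩
        · exact Or.inr ⟨by rw [inv_smul_eq_iff, a2], by rw [inv_smul_eq_iff, a1]⟩ }
  have hKS : K ≤ S := fun g hg => Or.inl ((hK g).mp hg)
  obtain ⟨w₀, hw₀⟩ : ∃ w, w • P = Q ∧ w • Q = P := by
    obtain ⟨g, hg⟩ := MulAction.exists_smul_eq G P Q
    obtain ⟨x, hx, hxR⟩ := hreg Q (g • Q) P (fun e => hQP (MulAction.injective g (hg.trans e)).symm) hQP
    exact ⟨x * g, by rw [mul_smul, hg, hfixA Q x hx], by rw [mul_smul, hxR]⟩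
  have hw₀S : w₀ ∈ S := Or.inr hw₀
  have hidxK : (K.subgroupOf S).index = 2 := by
    rw [Subgroup.index_eq_two_iff]
    refine ⟨⟨w₀, hw₀S⟩, fun b => ?_⟩
    rcases b.2 with ⟨b1, b2⟩ | ⟨b1, b2⟩
    · refine Or.inr ⟨Subgroup.mem_subgroupOf.mpr ((hK _).mpr ⟨b1, b2⟩), fun hm => ?_⟩
      have := ((hK _).mp (Subgroup.mem_subgroupOf.mp hm)).1
      simp only [Subgroup.coe_mul, mul_smul, hw₀.1, b2] at this
      exact hQP this
    · refine Or.inl ⟨Subgroup.mem_subgroupOf.mpr ((hK _).mpr ⟨?_, ?_⟩), fun hm => ?_⟩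
      · simp only [Subgroup.coe_mul, mul_smul, hw₀.1, b2]
      · simp only [Subgroup.coe_mul, mul_smul, hw₀.2, b1]
      · have := ((hK _).mp (Subgroup.mem_subgroupOf.mp hm)).1
        rw [b1] at this
        exact hQP this
  have hS8 : Nat.card S = 8 := by
    have := Subgroup.card_mul_index (K.subgroupOf S)
    rw [Nat.card_congr (Subgroup.subgroupOfEquivOfLe hKS).toEquiv, hK4, hidxK] at this
    omega
  have hsqK : ∀ g ∈ S, g * g ∈ K := fun g hg =>
    Subgroup.mem_subgroupOf.mp (Subgroup.mul_self_mem_of_index_two hidxK (⟨g, hg⟩ : S))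
  have hinvo : ∀ g : G, g • P = Q → g • Q = P → g * g = 1 := by
    intro g h1 h2
    have hg : g ∈ S := Or.inr ⟨h1, h2⟩
    by_cases hg4 : g ^ 4 = 1
    · by_contra hne
      have ho : orderOf (g * g) = 2 :=
        orderOf_eq_prime (by rw [← pow_two, ← pow_mul, hg4]) hne
      have hfixg := (hinvol _ (hsqK g hg) ho).2
      have hs := sign_toPermHom_eq_one hG (α := Sylow 3 G) g
      have hsq : ∀ R : Sylow 3 G, g • g • R = R → R = P ∨ R = Q := fun R hR =>
        hfixg R (by rwa [mul_smul])
      rw [sign_eq_neg_one_of_pow_four (MulAction.toPermHom G (Sylow 3 G) g)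
        (by rw [← map_pow, hg4, map_one])
        (fun R hR => by
          have hR' : g • R = R := hR
          rcases hsq R (by rw [hR', hR']) with rfl | rfl
          · exact hQP (h1.symm.trans hR')
          · exact hQP (hR'.symm.trans h2))
        P (show g • g • P = P by rw [h1, h2])
        (fun R hR => (hsq R hR).imp id fun e => e.trans h1.symm)
        (by rw [← Nat.card_eq_fintype_card, h10])] at hs
      exact absurd hs (by decide)
    · exfalso
      -- the Sylow 2-subgroups would be cyclic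
      have h8 : g ^ 8 = 1 := by
        rw [show 8 = 2 * 4 from rfl, pow_mul, pow_two]
        exact hK4' _ (hsqK g hg)
      have hgo : orderOf g = 2 ^ (2 + 1) := orderOf_eq_prime_pow hg4 h8
      have hp : IsPGroup 2 (Subgroup.zpowers g) :=
        IsPGroup.of_card (n := 3) (by rw [Nat.card_zpowers, hgo])
      obtain ⟨T, hT⟩ := hp.exists_le_sylow
      have hT8 : Nat.card (T : Subgroup G) = 8 := by
        simpa using Sylow.card_sylow_eq T (a := 3) (m := 45) (by omega) (by norm_num)
      have hTg : Subgroup.zpowers g = (T : Subgroup G) :=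
        Subgroup.eq_of_le_of_card_ge hT (by rw [hT8, Nat.card_zpowers, hgo]; norm_num)
      have hcyc : IsCyclic (T : Subgroup G) := by rw [← hTg]; infer_instance
      refine Sylow.not_normalizer_le_centralizer hG T ?_
        (hcyc.normalizer_le_centralizer (p := 2) (P := T) ?_)
      · intro hb; rw [hb, Subgroup.card_bot] at hT8; omega
      · rw [h]; norm_num
  set w := w₀ with hwdef
  have hw2 : w * w = 1 := hinvo w hw₀.1 hw₀.2
  have hwv : w * v * w⁻¹ = v⁻¹ := by
    have hvw : (w * v) * (w * v) = 1 := hinvo _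
      (by rw [mul_smul, ((hK v).mp hvK).1, hw₀.1]) (by rw [mul_smul, ((hK v).mp hvK).2, hw₀.2])
    rw [inv_eq_of_mul_eq_one_right hw2]
    exact eq_inv_of_mul_eq_one_left (by rw [← hvw]; group)
  -- coordinates
  obtain ⟨x, hxP, hx1⟩ : ∃ x ∈ (P : Subgroup G), x ≠ 1 := by
    by_contra hc
    push Not at hc
    have hb : (P : Subgroup G) = ⊥ := (Subgroup.eq_bot_iff_forall _).mpr hc
    have := hcard P
    rw [hb, Subgroup.card_bot] at this
    omega
  have hcomm : ∀ a ∈ (P : Subgroup G), ∀ b ∈ (P : Subgroup G), a * b = b * a := fun a ha b hb =>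
    congrArg Subtype.val ((IsPGroup.isMulCommutative_of_card_eq_prime_sq (p := 3)
      (by rw [hcard]; norm_num) : IsMulCommutative (P : Subgroup G)).is_comm.comm ⟨a, ha⟩ ⟨b, hb⟩)
  set y := v * x * v⁻¹ with hydef
  have hyP : y ∈ (P : Subgroup G) := (Subgroup.mem_normalizer_iff.mp hvK.1 x).mp hxP
  have hvy : v * y * v⁻¹ = x⁻¹ := by
    rw [← (hinvol u huK hu).1 x hxP, ← hvv, hydef]
    group
  -- `x` has order three
  have hexp : ∀ z ∈ (P : Subgroup G), z ^ 3 = 1 := by
    intro z hz
    by_contra hne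
    have ho : orderOf z = 3 ^ (1 + 1) :=
      orderOf_eq_prime_pow (by rwa [pow_one]) (by simpa using h9 P z hz)
    have hzP : Subgroup.zpowers z = (P : Subgroup G) :=
      Subgroup.eq_of_le_of_card_ge (Subgroup.zpowers_le.mpr hz)
        (by rw [Nat.card_zpowers, ho, hcard]; norm_num)
    have hyz : v * z * v⁻¹ ∈ Subgroup.zpowers z :=
      hzP ▸ (Subgroup.mem_normalizer_iff.mp hvK.1 z).mp hz
    obtain ⟨r, hr⟩ := Subgroup.mem_zpowers_iff.mp hyz
    have h2 : z ^ (r * r) = z⁻¹ := by
      rw [zpow_mul, hr, conj_zpow, hr, ← (hinvol u huK hu).1 z hz, ← hvv]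
      group
    have h3 : ((3 : ℤ) ^ 2) ∣ r * r + 1 := by
      have : z ^ (r * r + 1) = 1 := by rw [zpow_add, h2, zpow_one, inv_mul_cancel]
      rw [← orderOf_dvd_iff_zpow_eq_one, ho] at this
      simpa using this
    have h4 : (3 : ℤ) ∣ r * r + 1 := (dvd_pow_self 3 (by norm_num)).trans h3
    have h5 : ((r * r + 1 : ℤ) : ZMod 3) = 0 := (ZMod.intCast_zmod_eq_zero_iff_dvd _ 3).mpr h4
    push_cast at h5
    exact sq_add_one_ne _ h5
  have hx3 : orderOf x = 3 := orderOf_eq_prime (hexp x hxP) hx1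
  have hymem : y ∉ Subgroup.zpowers x := by
    intro hy
    obtain ⟨r, hr⟩ := Subgroup.mem_zpowers_iff.mp hy
    have h2 : x ^ (r * r) = x⁻¹ := by rw [zpow_mul, hr, hydef, conj_zpow, hr, hvy]
    have h3 : (3 : ℤ) ∣ r * r + 1 := by
      have : x ^ (r * r + 1) = 1 := by rw [zpow_add, h2, zpow_one, inv_mul_cancel]
      rwa [← orderOf_dvd_iff_zpow_eq_one, hx3] at this
    have h5 : ((r * r + 1 : ℤ) : ZMod 3) = 0 := (ZMod.intCast_zmod_eq_zero_iff_dvd _ 3).mpr h3
    push_cast at h5
    exact sq_add_one_ne _ h5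
  let tau : Fin 10 → G := fun c => x ^ ((c : ℕ) / 3) * y ^ ((c : ℕ) % 3)
  have htauP : ∀ c, tau c ∈ (P : Subgroup G) := fun c => mul_mem (pow_mem hxP _) (pow_mem hyP _)
  let lab : Fin 10 → Sylow 3 G := fun p => if p = 9 then P else tau p • Q
  have hlab9 : lab 9 = P := if_pos rfl
  have hlab : ∀ p : Fin 10, p ≠ 9 → lab p = tau p • Q := fun p hp => if_neg hp
  have hlabi : Function.Injective lab := by
    have hne : ∀ p : Fin 10, tau p • Q ≠ P := fun p e => hQP (MulAction.injective (tau p)
      (e.trans (hfixA P _ (htauP p)).symm))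
    intro p q hpq
    by_cases hp : p = 9 <;> by_cases hq : q = 9
    · rw [hp, hq]
    · rw [hp, hlab9, hlab q hq] at hpq; exact absurd hpq.symm (hne q)
    · rw [hq, hlab9, hlab p hp] at hpq; exact absurd hpq (hne p)
    · rw [hlab p hp, hlab q hq] at hpq
      have h1 := hsemi P Q hQP.symm ((tau q)⁻¹ * tau p) (mul_mem (inv_mem (htauP q)) (htauP p))
        (by rw [mul_smul, hpq, inv_smul_smul])
      have h2 : x ^ ((p : ℕ) / 3) * y ^ ((p : ℕ) % 3) = x ^ ((q : ℕ) / 3) * y ^ ((q : ℕ) % 3) :=
        (inv_mul_eq_one.mp h1).symm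
      have hy3 : orderOf y = 3 := orderOf_eq_prime (hexp y hyP) fun e => hymem (e ▸ one_mem _)
      have h6 : y ^ ((p : ℕ) % 3) * (y ^ ((q : ℕ) % 3))⁻¹ ∈ Subgroup.zpowers x := by
        have : y ^ ((p : ℕ) % 3) * (y ^ ((q : ℕ) % 3))⁻¹ = (x ^ ((p : ℕ) / 3))⁻¹ * x ^ ((q : ℕ) / 3) := by
          rw [eq_inv_mul_iff_mul_eq, ← mul_assoc, h2, mul_inv_cancel_right]
        rw [this]
        exact mul_mem (inv_mem (pow_mem (Subgroup.mem_zpowers x) _)) (pow_mem (Subgroup.mem_zpowers x) _)
      have h7 : y ^ ((p : ℕ) % 3) * (y ^ ((q : ℕ) % 3))⁻¹ = 1 := by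
        by_contra hne'
        have hle : Subgroup.zpowers (y ^ ((p : ℕ) % 3) * (y ^ ((q : ℕ) % 3))⁻¹) ≤ Subgroup.zpowers y :=
          Subgroup.zpowers_le.mpr (mul_mem (pow_mem (Subgroup.mem_zpowers y) _)
            (inv_mem (pow_mem (Subgroup.mem_zpowers y) _)))
        have hmem := mul_mem (pow_mem hyP ((p : ℕ) % 3)) (inv_mem (pow_mem hyP ((q : ℕ) % 3)))
        have ho := orderOf_eq_prime (hexp _ hmem) hne'
        have he := Subgroup.eq_of_le_of_card_ge hle
          (by rw [Nat.card_zpowers, Nat.card_zpowers, ho, hy3])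
        exact hymem (Subgroup.zpowers_le.mpr h6 (he.symm ▸ Subgroup.mem_zpowers y))
      have e2 : (p : ℕ) % 3 = (q : ℕ) % 3 := by
        have := pow_inj_mod.mp (mul_inv_eq_one.mp h7)
        rw [hy3] at this
        omega
      have e1 : (p : ℕ) / 3 = (q : ℕ) / 3 := by
        rw [e2] at h2
        have h8 := pow_inj_mod.mp (mul_right_cancel h2)
        rw [hx3] at h8
        have hp' : (p : ℕ) ≠ 9 := fun e => hp (Fin.ext e)
        have hq' : (q : ℕ) ≠ 9 := fun e => hq (Fin.ext e)
        have := p.2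
        have := q.2
        omega
      exact Fin.ext (by omega)
  have hlabb : Function.Bijective lab :=
    (Nat.bijective_iff_injective_and_card lab).mpr ⟨hlabi, by rw [h10, Nat.card_fin]⟩
  let e : Fin 10 ≃ Sylow 3 G := Equiv.ofBijective lab hlabb
  let code : G → List (Fin 10) := fun g => List.ofFn fun p => e.symm (g • e p)
  have hget : ∀ g p, (code g).getD p.val 0 = e.symm (g • e p) := fun g p =>
    getD_ofFn (fun p => e.symm (g • e p)) p
  have hcode_mul : ∀ a b, code (a * b) = comp (code a) (code b) := by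
    intro a b
    simp only [code, comp, List.map_ofFn]
    congr 1
    funext p
    simp only [Function.comp_apply]
    exact ((hget a _).trans (by rw [Equiv.apply_symm_apply, mul_smul])).symm
  have hcode_one : code 1 = idL := by
    simp only [code, idL, one_smul, Equiv.symm_apply_apply]
    rfl
  have hcode_inj : Function.Injective code := fun a b hab => by
    refine (inv_mul_eq_one.mp (hinj _ fun R => ?_)).symm
    obtain ⟨p, rfl⟩ := e.surjective R
    have h1 : e.symm (a • e p) = e.symm (b • e p) := by rw [← hget, ← hget, hab]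
    rw [mul_smul, e.symm.injective h1, inv_smul_smul]
  have hcode_eq : ∀ (g : G) (F : Fin 10 → Fin 10), (∀ p, g • lab p = lab (F p)) →
      code g = List.ofFn F := fun g F hF => by
    simp only [code]
    congr 1
    funext p
    rw [Equiv.symm_apply_eq]
    exact hF p
  have hpm : ∀ (z : G), z ∈ (P : Subgroup G) → ∀ m : ℕ, z ^ m = z ^ (m % 3) := fun z hz m => by
    conv_lhs => rw [← Nat.div_add_mod m 3, pow_add, pow_mul, hexp z hz, one_pow, one_mul]
  have htauadd : ∀ c p : Fin 10, p ≠ 9 → tau c * tau p = tau (add c p) := by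
    intro c p hp
    have hval : ((add c p : Fin 10) : ℕ) =
        (((p : ℕ) / 3 + (c : ℕ) / 3) % 3) * 3 + ((p : ℕ) % 3 + (c : ℕ) % 3) % 3 := by
      simp [add, hp]
    simp only [tau, hval]
    rw [show ((((p : ℕ) / 3 + (c : ℕ) / 3) % 3) * 3 + ((p : ℕ) % 3 + (c : ℕ) % 3) % 3) / 3 =
      ((p : ℕ) / 3 + (c : ℕ) / 3) % 3 by omega,
      show ((((p : ℕ) / 3 + (c : ℕ) / 3) % 3) * 3 + ((p : ℕ) % 3 + (c : ℕ) % 3) % 3) % 3 =
        ((p : ℕ) % 3 + (c : ℕ) % 3) % 3 by omega,
      ← hpm x hxP ((p : ℕ) / 3 + (c : ℕ) / 3), ← hpm y hyP ((p : ℕ) % 3 + (c : ℕ) % 3),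
      add_comm ((p : ℕ) / 3), add_comm ((p : ℕ) % 3), pow_add, pow_add]
    simp only [mul_assoc]
    congr 1
    rw [← mul_assoc, hcomm _ (pow_mem hyP _) _ (pow_mem hxP _), mul_assoc]
  have hadd9 : ∀ c p : Fin 10, p ≠ 9 → add c p ≠ 9 := by decide
  have hrot9 : ∀ p : Fin 10, p ≠ 9 → rot p ≠ 9 := by decide
  have htau : ∀ c : Fin 10, code (tau c) = tL c := fun c => hcode_eq _ _ fun p => by
    by_cases hp : p = 9
    · subst hp
      rw [show add c 9 = 9 by simp [add], hlab9]
      exact hfixA P _ (htauP c)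
    · rw [hlab p hp, hlab _ (hadd9 c p hp), smul_smul, htauadd c p hp]
  have hvP : v • P = P := ((hK v).mp hvK).1
  have hvQ : v • Q = Q := ((hK v).mp hvK).2
  have htaurot : ∀ p : Fin 10, p ≠ 9 → v * tau p * v⁻¹ = tau (rot p) := by
    intro p hp
    have hval : ((rot p : Fin 10) : ℕ) = ((2 * ((p : ℕ) % 3)) % 3) * 3 + ((p : ℕ) / 3) % 3 := by
      simp [rot, hp]
    simp only [tau, hval]
    rw [show (((2 * ((p : ℕ) % 3)) % 3) * 3 + ((p : ℕ) / 3) % 3) / 3 = (2 * ((p : ℕ) % 3)) % 3 by omega,
      show (((2 * ((p : ℕ) % 3)) % 3) * 3 + ((p : ℕ) / 3) % 3) % 3 = ((p : ℕ) / 3) % 3 by omega,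
      ← hpm x hxP (2 * ((p : ℕ) % 3)), ← hpm y hyP ((p : ℕ) / 3), ← conj_mul, ← conj_pow, ← conj_pow, ← hydef, hvy, pow_mul]
    rw [hcomm _ (pow_mem hyP _) _ (pow_mem (inv_mem hxP) _)]
    congr 2
    exact inv_eq_of_mul_eq_one_right (by rw [← pow_succ']; exact hexp x hxP)
  have hv : code v = rL := hcode_eq _ _ fun p => by
    by_cases hp : p = 9
    · subst hp
      rw [show rot 9 = 9 by simp [rot], hlab9, hvP]
    · rw [hlab p hp, hlab _ (hrot9 p hp), ← htaurot p hp, mul_smul (v * tau p) v⁻¹,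
        inv_smul_eq_iff.mpr hvQ.symm, ← mul_smul]
  have hvpow : ∀ k : ℕ, code (v ^ k) = List.ofFn (rotN k) := by
    intro k
    induction k with
    | zero => rw [pow_zero, hcode_one]; rfl
    | succ k ih =>
      rw [pow_succ', hcode_mul, ih, hv]
      simp only [rL, comp, List.map_ofFn]
      congr 1
      funext p
      simp only [Function.comp_apply]
      rw [getD_ofFn]
      rfl
  have htau0 : tau 0 = 1 := by simp [tau]
  have hlab0 : lab 0 = Q := by rw [hlab 0 (by decide), htau0, one_smul]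
  have he : ∀ p, e p = lab p := fun p => rfl
  let i := e.symm (w • e 3)
  let j := e.symm (w • e 4)
  have hwfix : ∀ p : Fin 10, p ≠ 0 → p ≠ 9 → e.symm (w • e p) ≠ 0 ∧ e.symm (w • e p) ≠ 9 := by
    intro p hp0 hp9
    constructor <;> intro hh <;> rw [Equiv.symm_apply_eq, he, he] at hh
    · rw [hlab0] at hh
      exact hp9 (hlabi ((MulAction.injective w (hh.trans hw₀.1.symm)).trans hlab9.symm))
    · rw [hlab9] at hh
      exact hp0 (hlabi ((MulAction.injective w (hh.trans hw₀.2.symm)).trans hlab0.symm))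
  have hwk : ∀ k : ℕ, k < 4 → w * v ^ k = v ^ ((4 - k) % 4) * w := by
    intro k hk
    have h1 : w * v ^ k * w⁻¹ = (v ^ k)⁻¹ := by rw [← conj_pow, hwv, inv_pow]
    have h2 : v ^ ((4 - k) % 4) = (v ^ k)⁻¹ := by
      refine (inv_eq_of_mul_eq_one_right ?_).symm
      rw [← pow_add]
      interval_cases k
      · simp
      all_goals exact hK4' v hvK
    rw [h2, ← h1, inv_mul_cancel_right]
  have hrotN : ∀ (k : ℕ) (p : Fin 10), v ^ k • e p = e (rotN k p) := fun k p => by
    have h1 := hget (v ^ k) p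
    rw [hvpow] at h1
    rw [getD_ofFn] at h1
    rw [h1, Equiv.apply_symm_apply]
  have hw : code w = wL i j := hcode_eq _ _ fun p => by
    rcases cover p with rfl | rfl | ⟨k, rfl | rfl⟩
    · rw [show wF i j 0 = 9 by simp [wF], hlab0, hlab9, hw₀.2]
    · rw [show wF i j 9 = 0 by simp [wF], hlab0, hlab9, hw₀.1]
    · rw [(wF_rot i j k).1, ← he, ← he, ← hrotN, ← hrotN, smul_smul, hwk k k.2, mul_smul,
        Equiv.apply_symm_apply]
    · rw [(wF_rot i j k).2, ← he, ← he, ← hrotN, ← hrotN, smul_smul, hwk k k.2, mul_smul,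
        Equiv.apply_symm_apply]
  have hok : okPair i j = true := by
    simp only [okPair, Bool.and_eq_true, decide_eq_true_eq, List.all_eq_true, List.mem_range]
    refine ⟨?_, fun a ha => ?_⟩
    · rw [← hw, ← hcode_mul, hw2, hcode_one]
    generalize hadef : Fin.ofNat 10 (a + 1) = a'
    have ha' : a' ≠ 0 ∧ a' ≠ 9 := by subst hadef; interval_cases a <;> decide
    set q := wF i j a' with hq
    have hwq : w • lab a' = lab q := by
      have h1 := hget w a'
      rw [hw] at h1
      rw [wL, getD_ofFn] at h1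
      rw [hq, h1, ← he, ← he, Equiv.apply_symm_apply]
    have hq09 : q ≠ 0 ∧ q ≠ 9 := by
      have h1 := hwfix a' ha'.1 ha'.2
      rwa [he, hwq, ← he, Equiv.symm_apply_apply] at h1
    set g := w * (tau (neg q) * (w * (tau a' * w))) with hg
    have hgP : g • P = P := by
      simp only [hg, mul_smul, hw₀.1]
      rw [← hlab a' ha'.2, hwq, hlab q hq09.2]
      have hne : ∀ p : Fin 10, p ≠ 9 → tau (neg p) * tau p = 1 := by
        intro p hp
        rw [htauadd _ _ hp]
        have : ∀ p : Fin 10, p ≠ 9 → add (neg p) p = 0 := by decide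
        rw [this p hp, htau0]
      rw [smul_smul (tau (neg q)), hne q hq09.2, one_smul, hw₀.2]
    obtain ⟨z, hz, hzQ⟩ := hreg P Q (g • Q) hQP.symm
      (fun e => hQP (MulAction.injective g (hgP.trans e)).symm)
    obtain ⟨c, hc⟩ : ∃ c : Fin 10, c ≠ 9 ∧ tau c = z := by
      obtain ⟨c, hc⟩ := hlabb.2 (z • Q)
      have hc9 : c ≠ 9 := fun e' => hQP (MulAction.injective z (by
        show z • Q = z • P
        rw [← hc, e', hlab9, hfixA P z hz]))
      refine ⟨c, hc9, ?_⟩
      rw [hlab c hc9] at hc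
      have h1 := hsemi P Q hQP.symm (z⁻¹ * tau c) (mul_mem (inv_mem hz) (htauP c))
        (by rw [mul_smul, hc, inv_smul_smul])
      exact (inv_mul_eq_one.mp h1).symm
    have hzk : z⁻¹ * g ∈ K := (hK _).mpr ⟨by rw [mul_smul, hgP, inv_smul_eq_iff, hfixA P z hz],
      by rw [mul_smul, ← hzQ, inv_smul_smul]⟩
    obtain ⟨k, hk4, hk⟩ : ∃ k < 4, v ^ k = z⁻¹ * g := by
      have hfo : IsOfFinOrder v := isOfFinOrder_of_finite v
      obtain ⟨m, hm⟩ := hfo.mem_powers_iff_mem_zpowers.mpr (hKv ▸ hzk)
      refine ⟨m % 4, Nat.mod_lt _ (by norm_num), ?_⟩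
      rw [← hm]
      show v ^ (m % 4) = v ^ m
      conv_rhs => rw [← Nat.div_add_mod m 4, pow_add, pow_mul, hK4' v hvK, one_pow, one_mul]
    have hcg : code g = comp (tL c) (List.ofFn (rotN k)) := by
      rw [← htau, ← hvpow, hk, ← hcode_mul, hc.2, mul_inv_cancel_left]
    have hc0 : (code g).getD 0 0 = c := by
      have h1 := hget g 0
      rw [Fin.val_zero] at h1
      rw [h1, Equiv.symm_apply_eq, he, he, hlab0, ← hzQ, hlab c hc.1, hc.2]
    simp only [affine, List.any_eq_true, List.mem_range, decide_eq_true_eq]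
    refine ⟨k, hk4, ?_⟩
    rw [← hw, ← htau a', ← htau (neg q), ← hcode_mul, ← hcode_mul, ← hcode_mul, ← hcode_mul, ← hg,
      hc0, hcg]
  obtain ⟨hi0, hi9⟩ := hwfix 3 (by decide) (by decide)
  obtain ⟨hj0, hj9⟩ := hwfix 4 (by decide) (by decide)
  obtain ⟨word, prog, hprog⟩ := exists_data i j hi0 hi9 hj0 hj9 hok
  simp only [okSubgroup, Bool.and_eq_true, decide_eq_true_eq, List.all_eq_true,
    List.contains_iff_mem] at hprog
  obtain ⟨⟨hlen, hnd⟩, hclosed⟩ := hprog
  let genG : Fin 4 → G := fun g => if g = 0 then x else if g = 1 then y else if g = 2 then v else w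
  have hgen : ∀ g, code (genG g) = genL i j g := by
    intro g
    fin_cases g
    · show code x = tL 3
      rw [← htau 3]; congr 1; simp [tau]
    · show code y = tL 1
      rw [← htau 1]; congr 1; simp [tau]
    · exact hv
    · exact hw
  set b := (word.map genG).prod with hbdef
  have hb : code b = wordL i j word := by
    rw [hbdef]
    clear hbdef b hclosed hnd hlen
    induction word with
    | nil => exact hcode_one
    | cons g l ih =>
      rw [List.map_cons, List.prod_cons, hcode_mul, hgen, ih]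
      rfl
  have hx : code x = tL 3 := hgen 0
  set H := Subgroup.closure ({x, b} : Set G) with hH
  set L := run (tL 3) (wordL i j word) prog with hL
  have hLH : ∀ l ∈ L, ∃ g ∈ H, code g = l := by
    rw [hL]
    clear hclosed hnd hlen hL L
    have key : ∀ (prog : List (ℕ × Bool)) (L₀ : List (List (Fin 10))),
        (∀ l ∈ L₀, ∃ g ∈ H, code g = l) → ∀ l ∈ prog.foldl (fun L s => L ++
          [comp (if s.2 then wordL i j word else tL 3) (L.getD s.1 idL)]) L₀,
          ∃ g ∈ H, code g = l := by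
      intro prog
      induction prog with
      | nil => intro L₀ h0; exact h0
      | cons s r ih =>
        intro L₀ h0
        refine ih _ fun l hl => ?_
        rcases List.mem_append.mp hl with hl | hl
        · exact h0 l hl
        obtain ⟨g, hgH, hg⟩ : ∃ g ∈ H, code g = L₀.getD s.1 idL := by
          rw [List.getD_eq_getElem?_getD]
          cases hsome : L₀[s.1]? with
          | none => exact ⟨1, one_mem _, hcode_one⟩
          | some l' => exact h0 l' (List.mem_of_getElem? hsome)
        rw [List.mem_singleton] at hl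
        subst hl
        by_cases hs : s.2
        · exact ⟨b * g, mul_mem (Subgroup.subset_closure (by simp)) hgH, by
            rw [hcode_mul, hb, hg, if_pos hs]⟩
        · exact ⟨x * g, mul_mem (Subgroup.subset_closure (by simp)) hgH, by
            rw [hcode_mul, hx, hg, if_neg hs]⟩
    exact key prog [idL] (fun l hl => ⟨1, one_mem _, by
      rw [List.mem_singleton] at hl; rw [hl, hcode_one]⟩)
  have hidL : idL ∈ L := by
    rw [hL]
    have key : ∀ (prog : List (ℕ × Bool)) (L₀ : List (List (Fin 10))), idL ∈ L₀ →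
        idL ∈ prog.foldl (fun L s => L ++
          [comp (if s.2 then wordL i j word else tL 3) (L.getD s.1 idL)]) L₀ := by
      intro prog
      induction prog with
      | nil => intro L₀ h0; exact h0
      | cons s r ih => intro L₀ h0; exact ih _ (List.mem_append_left _ h0)
    exact key prog [idL] (List.mem_singleton_self _)
  have hHL : ∀ g ∈ H, code g ∈ L := by
    have key : ∀ g ∈ H, ∀ g', code g' ∈ L → code (g * g') ∈ L := by
      intro g hg
      refine Subgroup.closure_induction (p := fun g _ => ∀ g', code g' ∈ L → code (g * g') ∈ L)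
        ?_ ?_ ?_ ?_ hg
      · rintro z hz g' hg'
        simp only [Set.mem_insert_iff, Set.mem_singleton_iff] at hz
        rcases hz with rfl | rfl
        · rw [hcode_mul, hx]; exact (hclosed _ hg').1
        · rw [hcode_mul, hb]; exact (hclosed _ hg').2
      · intro g' hg'; rwa [one_mul]
      · intro a c _ _ ha hc g' hg'; rw [mul_assoc]; exact ha _ (hc _ hg')
      · intro a _ ha g' hg'
        have hpow : ∀ n : ℕ, code (a ^ n * g') ∈ L := by
          intro n
          induction n with
          | zero => rwa [pow_zero, one_mul]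
          | succ n ih => rw [pow_succ', mul_assoc]; exact ha _ ih
        obtain ⟨n, hn⟩ := (isOfFinOrder_of_finite a).mem_powers_iff_mem_zpowers.mpr
          (inv_mem (Subgroup.mem_zpowers a))
        rw [← hn]
        exact hpow n
    intro g hg
    have := key g hg 1 (hcode_one ▸ hidL)
    rwa [mul_one] at this
  refine ⟨H, ?_⟩
  have h60 : Nat.card H = 60 := by
    let F : H → {l // l ∈ L.toFinset} := fun g => ⟨code g, List.mem_toFinset.mpr (hHL g g.2)⟩
    have hF : Function.Bijective F := by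
      constructor
      · exact fun a c hac => Subtype.ext (hcode_inj (congrArg Subtype.val hac))
      · rintro ⟨l, hl⟩
        obtain ⟨g, hg, hgl⟩ := hLH l (List.mem_toFinset.mp hl)
        exact ⟨⟨g, hg⟩, Subtype.ext hgl⟩
    rw [Nat.card_eq_of_bijective F hF, Nat.card_eq_fintype_card, Fintype.card_coe,
      List.toFinset_card_of_nodup hnd, hlen]
  have := H.card_mul_index
  rw [h60, h] at this
  omega

end Cfsg.Agent.Lib.Classif.Order360
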