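import Cfsg.Agent.Lib.Classif.SmallOrderTools

/-!
Counting the Sylow subgroups normalised by an element centralising one of prime order: the number
of fixed points times `|N(P)|` is `|C(t)|` times the number of conjugates of `t` in `N(P)`, and
for involutions all these conjugates centralise `P` when there are many fixed points.
-/

set_option autoImplicit false

set_option linter.style.haveILetI false
set_option linter.unusedSectionVars false

namespace Cfsg.Agent.Lib.Classif.FixedSylow

open Cfsg.Agent.Lib.Classif.SmallOrderTools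

variable {G : Type*} [Group G] [Finite G]

omit [Finite G] in
theorem conj_eq_iff {t a b : G} :
    a * t * a⁻¹ = b * t * b⁻¹ ↔ a⁻¹ * b ∈ Subgroup.centralizer ({t} : Set G) := by
  rw [Subgroup.mem_centralizer_singleton_iff]
  constructor
  · intro h
    calc a⁻¹ * b * t = a⁻¹ * (b * t * b⁻¹) * b := by group
      _ = a⁻¹ * (a * t * a⁻¹) * b := by rw [h]
      _ = t * (a⁻¹ * b) := by group
  · intro h
    calc a * t * a⁻¹ = a * (t * (a⁻¹ * b)) * b⁻¹ := by group
      _ = a * (a⁻¹ * b * t) * b⁻¹ := by rw [h]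
      _ = b * t * b⁻¹ := by group

/-- Elements carrying `t` into a set, counted along the centraliser. -/
theorem card_conj_mem (t : G) (q : G → Prop) :
    Nat.card {g : G // q (g⁻¹ * t * g)} =
      Nat.card (Subgroup.centralizer ({t} : Set G)) * Nat.card {u : G // q u ∧ IsConj t u} := by
  classical
  choose r hr using fun u : {u : G // q u ∧ IsConj t u} => isConj_iff.mp u.2.2
  rw [← Nat.card_prod]
  refine Nat.card_congr
    { toFun := fun g =>
        let u : {u : G // q u ∧ IsConj t u} :=
          ⟨g.1⁻¹ * t * g.1, g.2, isConj_iff.mpr ⟨g.1⁻¹, by group⟩⟩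
        (⟨(r u)⁻¹ * g.1⁻¹, conj_eq_iff.mp (by rw [hr u]; simp [u])⟩, u)
      invFun := fun cu => ⟨(r cu.2 * cu.1.1)⁻¹, ?_⟩
      left_inv := fun g => Subtype.ext (by simp)
      right_inv := ?_ }
  · have hc := Subgroup.mem_centralizer_singleton_iff.mp cu.1.2
    have : (r cu.2 * cu.1.1)⁻¹⁻¹ * t * (r cu.2 * cu.1.1)⁻¹ = cu.2.1 := by
      rw [← hr cu.2]
      calc (r cu.2 * cu.1.1)⁻¹⁻¹ * t * (r cu.2 * cu.1.1)⁻¹
          = r cu.2 * (cu.1.1 * t * cu.1.1⁻¹) * (r cu.2)⁻¹ := by group
        _ = _ := by rw [hc, mul_inv_cancel_right]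
    rw [this]
    exact cu.2.2.1
  · rintro ⟨⟨c, hc⟩, u⟩
    have hc' := Subgroup.mem_centralizer_singleton_iff.mp hc
    have hu : (r u * c)⁻¹⁻¹ * t * (r u * c)⁻¹ = u.1 := by
      conv_rhs => rw [← hr u]
      calc (r u * c)⁻¹⁻¹ * t * (r u * c)⁻¹ = r u * (c * t * c⁻¹) * (r u)⁻¹ := by group
        _ = _ := by rw [hc', mul_inv_cancel_right]
    dsimp only
    refine Prod.ext (Subtype.ext ?_) (Subtype.ext hu)
    have key : ∀ u', u'.1 = u.1 → r u' = r u := fun u' h => by rw [Subtype.ext h]
    exact (congrArg (fun w : G => w⁻¹ * (r u * c)⁻¹⁻¹) (key _ hu)).trans (by simp)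

/-- The Burnside fibre count for a transitive action. -/
theorem card_fixed_mul {α : Type*} [MulAction G α] [Finite α] [MulAction.IsPretransitive G α]
    (a : α) (t : G) :
    Nat.card {x : α // t • x = x} * Nat.card (MulAction.stabilizer G a) =
      Nat.card (Subgroup.centralizer ({t} : Set G)) *
        Nat.card {u : G // u ∈ MulAction.stabilizer G a ∧ IsConj t u} := by
  rw [card_subtype_mul_stabilizer a (fun x => t • x = x),
    ← card_conj_mem t (fun u => u ∈ MulAction.stabilizer G a)]
  refine Nat.card_congr (Equiv.subtypeEquivRight fun g => ?_)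
  rw [MulAction.mem_stabilizer_iff, mul_smul, mul_smul, inv_smul_eq_iff]

/-- Conjugate elements fix equally many points. -/
theorem card_fixed_conj {α : Type*} [MulAction G α] [Finite α] {t u : G} (h : IsConj t u) :
    Nat.card {x : α // t • x = x} = Nat.card {x : α // u • x = x} := by
  obtain ⟨g, rfl⟩ := isConj_iff.mp h
  refine Nat.card_congr ((MulAction.toPerm g).subtypeEquiv fun x => ?_)
  simp only [MulAction.toPerm_apply, smul_smul]
  rw [inv_mul_cancel_right, mul_smul]
  exact ⟨fun h => by rw [h], fun h => MulAction.injective g h⟩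

section Prime

variable {p : ℕ} [hp : Fact p.Prime] (P : Sylow p G) (hP : Nat.card (P : Subgroup G) = p)

include hP

omit [Finite G] in
theorem pow_eq_one {x : G} (hx : x ∈ (P : Subgroup G)) : x ^ p = 1 := by
  haveI : Finite (P : Subgroup G) := Nat.finite_of_card_ne_zero (by rw [hP]; exact hp.out.ne_zero)
  have := orderOf_dvd_natCard (⟨x, hx⟩ : (P : Subgroup G))
  rw [hP, Subgroup.orderOf_mk] at this
  exact orderOf_dvd_iff_pow_eq_one.mp this

/-- An element of order at most two normalising `P` inverts it, or centralises it. -/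
theorem inverts_or_centralizes {u : G}
    (hu : u ∈ Subgroup.normalizer ((P : Subgroup G) : Set G)) (h2 : u * u = 1) :
    u ∈ Subgroup.centralizer ((P : Subgroup G) : Set G) ∨
      ∀ x ∈ (P : Subgroup G), u * x * u⁻¹ = x⁻¹ := by
  haveI := isCyclic_of_prime_card hP
  obtain ⟨⟨y, hy⟩, hgen⟩ := IsCyclic.exists_generator (α := (P : Subgroup G))
  have hyu : u * y * u⁻¹ ∈ (P : Subgroup G) := (Subgroup.mem_normalizer_iff.mp hu y).mp hy
  obtain ⟨k, hk⟩ := Subgroup.mem_zpowers_iff.mp (hgen ⟨_, hyu⟩)
  have hk' : y ^ k = u * y * u⁻¹ := congrArg Subtype.val hk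
  have hkk : y ^ (k * k) = y := by
    rw [zpow_mul, hk', conj_zpow, hk']
    calc u * (u * y * u⁻¹) * u⁻¹ = (u * u) * y * (u * u)⁻¹ := by group
      _ = y := by rw [h2, inv_one, mul_one, one_mul]
  have hall : ∀ x ∈ (P : Subgroup G), ∃ n : ℤ, y ^ n = x := fun x hx => by
    obtain ⟨n, hn⟩ := Subgroup.mem_zpowers_iff.mp (hgen ⟨x, hx⟩)
    exact ⟨n, congrArg Subtype.val hn⟩
  have hdvd : (orderOf y : ℤ) ∣ (k - 1) * (k + 1) := by
    rw [orderOf_dvd_iff_zpow_eq_one,
      show (k - 1) * (k + 1) = k * k + (-1 : ℤ) by ring, zpow_add, hkk, zpow_neg_one, mul_inv_cancel]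
  have hord : orderOf y ∣ p := orderOf_dvd_of_pow_eq_one (pow_eq_one P hP hy)
  have hpow : y ^ (k - 1) = 1 ∨ y ^ (k + 1) = 1 := by
    rcases (Nat.dvd_prime hp.out).mp hord with h | h
    · rw [orderOf_eq_one_iff] at h; left; rw [h, one_zpow]
    · rw [h] at hdvd
      rcases (Nat.prime_iff_prime_int.mp hp.out).dvd_or_dvd hdvd with h' | h'
      · exact Or.inl (orderOf_dvd_iff_zpow_eq_one.mp (by rwa [h]))
      · exact Or.inr (orderOf_dvd_iff_zpow_eq_one.mp (by rwa [h]))
  rcases hpow with h | h
  · left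
    rw [zpow_sub_one, mul_inv_eq_one, hk'] at h
    rw [Subgroup.mem_centralizer_iff]
    intro x hx
    obtain ⟨n, rfl⟩ := hall x hx
    exact ((Commute.zpow_right (show Commute u y from mul_inv_eq_iff_eq_mul.mp h) n).eq).symm
  · right
    rw [zpow_add_one, mul_eq_one_iff_eq_inv, hk'] at h
    intro x hx
    obtain ⟨n, rfl⟩ := hall x hx
    rw [← conj_zpow, h, inv_zpow]

/-- An inverting element fixes at most one Sylow subgroup in each non-trivial orbit of `P`. -/
theorem card_fixed_inverting_le (hp2 : p ≠ 2) {u : G}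
    (hinv : ∀ x ∈ (P : Subgroup G), u * x * u⁻¹ = x⁻¹) :
    p * Nat.card {Q : Sylow p G // u • Q = Q} + 1 ≤ p + Nat.card (Sylow p G) := by
  classical
  obtain ⟨⟨y, hy⟩, hy'⟩ := exists_prime_orderOf_dvd_card' (G := (P : Subgroup G)) p (by rw [hP])
  have hyo : orderOf y = p := by simpa [Subgroup.orderOf_mk] using hy'
  have hy1 : y ≠ 1 := fun h => by rw [h, orderOf_one] at hyo; exact hp.out.ne_one hyo.symm
  have hyP : y • P = P := Sylow.smul_eq_iff_mem_normalizer.mpr (Subgroup.le_normalizer hy)
  have h := card_fixed_inverter_le (α := Sylow p G) hp2 u y hyo (hinv y hy)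
  have hfix : ∀ Q : Sylow p G, y • Q = Q → Q = P := fun Q =>
    eq_of_smul_eq_of_prime P Q hP hy hy1
  have hmov : Nat.card {Q : Sylow p G // y • Q ≠ Q} + 1 = Nat.card (Sylow p G) := by
    haveI := Fintype.ofFinite (Sylow p G)
    rw [Nat.card_eq_fintype_card, Nat.card_eq_fintype_card,
      Fintype.card_congr (Equiv.subtypeEquivRight (p := fun Q : Sylow p G => y • Q ≠ Q)
        (q := fun Q : Sylow p G => Q ≠ P) fun Q =>
        ⟨fun hne he => hne (by rw [he, hyP]), fun hne he => hne (hfix Q he)⟩),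
      Fintype.card_subtype_compl, Fintype.card_subtype_eq]
    have : 0 < Fintype.card (Sylow p G) := Fintype.card_pos
    omega
  have hle : Nat.card {Q : Sylow p G // u • Q = Q} ≤
      Nat.card {Q : Sylow p G // u • Q = Q ∧ y • Q ≠ Q} + 1 := by
    rw [← Finite.card_option]
    refine Nat.card_le_card_of_injective
      (fun Q => if hQ : y • Q.1 ≠ Q.1 then some ⟨Q.1, Q.2, hQ⟩ else none) ?_
    intro A B hAB
    simp only at hAB
    split_ifs at hAB with hA hB
    · exact Subtype.ext (congrArg Subtype.val (Option.some.inj hAB) :)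
    · push Not at hA
      rename_i hB'
      push Not at hB'
      exact Subtype.ext ((hfix _ hA).trans (hfix _ hB').symm)
  have := Nat.mul_le_mul_left p hle
  rw [mul_add, mul_one, mul_comm p (Nat.card {Q : Sylow p G // u • Q = Q ∧ y • Q ≠ Q})] at this
  omega

/-- An involution centralising `P` with more fixed points than an inverting element can have:
the count with the conjugates in `C(P)` alone. -/
theorem card_fixed_involution (hp2 : p ≠ 2) {t : G} (ht : orderOf t = 2)
    (hbig : p + Nat.card (Sylow p G) ≤ p * Nat.card {Q : Sylow p G // t • Q = Q}) :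
    Nat.card {Q : Sylow p G // t • Q = Q} *
        Nat.card (Subgroup.normalizer ((P : Subgroup G) : Set G)) =
      Nat.card (Subgroup.centralizer ({t} : Set G)) *
        Nat.card {u : G // u ∈ Subgroup.centralizer ((P : Subgroup G) : Set G) ∧ IsConj t u} := by
  have hst : MulAction.stabilizer G P = Subgroup.normalizer ((P : Subgroup G) : Set G) :=
    P.stabilizer_eq_normalizer
  rw [← hst, card_fixed_mul P t]
  congr 1
  refine Nat.card_congr (Equiv.subtypeEquivRight fun u => ?_)
  rw [hst]
  refine ⟨fun ⟨hu, hc⟩ => ⟨?_, hc⟩,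
    fun ⟨hu, hc⟩ => ⟨Cfsg.Agent.Lib.SmallGroups.Sylow.centralizer_le_normalizer _ hu, hc⟩⟩
  have hu2 : u * u = 1 := by
    obtain ⟨g, rfl⟩ := isConj_iff.mp hc
    rw [conj_mul, ← pow_two, ← ht, pow_orderOf_eq_one, mul_one, mul_inv_cancel]
  refine (inverts_or_centralizes P hP hu hu2).resolve_right fun hinv => ?_
  have := card_fixed_inverting_le P hP hp2 hinv
  rw [← card_fixed_conj hc] at this
  omega

end Prime

/-- A group of even order has an odd number of involutions, so their classes cannot all be even. -/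
theorem exists_odd_class (C : Subgroup G) (h : 2 ∣ Nat.card C) :
    ∃ t ∈ C, orderOf t = 2 ∧ Odd (Nat.card {u : G // u ∈ C ∧ IsConj t u}) := by
  classical
  haveI := Fintype.ofFinite G
  by_contra hcon
  push Not at hcon
  set I : Finset G := Finset.univ.filter fun x => x ∈ C ∧ orderOf x = 2 with hI
  have hclass : ∀ t ∈ I, Nat.card {u : G // u ∈ C ∧ IsConj t u} =
      (I.filter fun u => IsConj t u).card := by
    intro t ht
    rw [Nat.card_eq_fintype_card, Fintype.card_subtype, hI, Finset.filter_filter]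
    congr 1
    refine Finset.filter_congr fun u _ => ⟨fun hu => ⟨⟨hu.1, ?_⟩, hu.2⟩, fun hu => ⟨hu.1.1, hu.2⟩⟩
    rw [← (Finset.mem_filter.mp ht).2.2]
    obtain ⟨g, rfl⟩ := isConj_iff.mp hu.2
    exact (MulAut.conj g).orderOf_eq t
  have heven : Even I.card := by
    rw [Finset.card_eq_sum_card_image (fun u : G => ConjClasses.mk u) I]
    refine Finset.even_sum _ fun c hc => ?_
    obtain ⟨t, ht, rfl⟩ := Finset.mem_image.mp hc
    have h1 := hcon t (Finset.mem_filter.mp ht).2.1 (Finset.mem_filter.mp ht).2.2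
    rw [hclass t ht, Nat.not_odd_iff_even] at h1
    rwa [Finset.filter_congr (q := fun u : G => ConjClasses.mk u = ConjClasses.mk t) fun u _ =>
      ⟨fun e => (ConjClasses.mk_eq_mk_iff_isConj.mpr e).symm,
        fun e => (ConjClasses.mk_eq_mk_iff_isConj.mp e).symm⟩] at h1
  -- inversion pairs off the elements which are neither involutions nor the identity
  set S : Finset G := Finset.univ.filter fun x => x ∈ C with hS
  have hScard : S.card = Nat.card C := by
    rw [Nat.card_eq_fintype_card, Fintype.card_subtype]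
  have hsplit : (S.filter fun x => ¬ x * x = 1).card + (insert 1 I).card = S.card := by
    rw [add_comm, show insert 1 I = S.filter (fun x => x * x = 1) from ?_,
      Finset.card_filter_add_card_filter_not]
    ext x
    simp only [hI, hS, Finset.mem_insert, Finset.mem_filter, Finset.mem_univ, true_and, ← pow_two]
    constructor
    · rintro (rfl | ⟨h1, h2⟩)
      · exact ⟨one_mem C, one_pow 2⟩
      · exact ⟨h1, by rw [← h2, pow_orderOf_eq_one]⟩
    · rintro ⟨h1, h2⟩
      by_cases hx : x = 1
      · exact Or.inl hx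
      · exact Or.inr ⟨h1, orderOf_eq_prime h2 hx⟩
  have hev2 : Even (S.filter fun x => ¬ x * x = 1).card := by
    rw [← ZMod.natCast_eq_zero_iff_even]
    rw [Finset.card_eq_sum_ones, Nat.cast_sum]
    refine Finset.sum_involution (fun x _ => x⁻¹) (fun x _ => by decide) (fun x hx _ he => ?_)
      (fun x hx => ?_) (fun x _ => inv_inv x)
    · exact (Finset.mem_filter.mp hx).2 (by nth_rewrite 1 [← he]; exact inv_mul_cancel x)
    · simp only [hS, Finset.mem_filter, Finset.mem_univ, true_and, inv_mem_iff] at hx ⊢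
      refine ⟨hx.1, fun h => hx.2 ?_⟩
      rw [← inv_inj, mul_inv_rev, h, inv_one]
  rw [Finset.card_insert_of_notMem (by simp [hI]), hScard] at hsplit
  obtain ⟨a, ha⟩ := heven
  obtain ⟨b, hb⟩ := hev2
  omega

/-- A group `C` containing a central subgroup of odd order `m` has fewer than `|C|/m`
involutions. -/
theorem card_conj_le (C Z : Subgroup G) (hZ : Z ≤ C) (hodd : ¬ 2 ∣ Nat.card Z)
    (hcomm : ∀ z ∈ Z, ∀ c ∈ C, z * c = c * z) {t : G} (ht : orderOf t = 2) :
    (Nat.card {u : G // u ∈ C ∧ IsConj t u} + 1) * Nat.card Z ≤ Nat.card C := by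
  classical
  have hu2 : ∀ u : {u : G // u ∈ C ∧ IsConj t u}, u.1 * u.1 = 1 ∧ u.1 ≠ 1 := by
    rintro ⟨u, -, hc⟩
    obtain ⟨g, rfl⟩ := isConj_iff.mp hc
    refine ⟨show g * t * g⁻¹ * (g * t * g⁻¹) = 1 by
      rw [conj_mul, ← pow_two, ← ht, pow_orderOf_eq_one, mul_one, mul_inv_cancel],
      fun h => ?_⟩
    rw [conj_eq_one_iff.mp h, orderOf_one] at ht
    omega
  rw [← Finite.card_option, ← Nat.card_prod]
  let v : Option {u : G // u ∈ C ∧ IsConj t u} → C := fun o => o.elim 1 fun u => ⟨u.1, u.2.1⟩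
  refine Nat.card_le_card_of_injective (fun oz => v oz.1 * ⟨oz.2.1, hZ oz.2.2⟩) ?_
  have hv2 : ∀ o, v o * v o = 1 := by
    rintro (_ | u)
    · exact mul_one 1
    · exact Subtype.ext (hu2 u).1
  rintro ⟨o, z⟩ ⟨o', z'⟩ h
  simp only at h
  have h' : ((v o : C) : G) * z.1 = (v o' : G) * z'.1 := congrArg Subtype.val h
  have hsq : z.1 * z.1 = z'.1 * z'.1 := by
    have e : ∀ (o : Option {u : G // u ∈ C ∧ IsConj t u}) (w : Z),
        ((v o : G) * w.1) * ((v o : G) * w.1) = w.1 * w.1 := by
      intro o w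
      have h2 : (v o : G) * (v o : G) = 1 := congrArg Subtype.val (hv2 o)
      calc (v o : G) * w.1 * ((v o : G) * w.1) = (v o : G) * (w.1 * (v o : G)) * w.1 := by group
        _ = (v o : G) * ((v o : G) * w.1) * w.1 := by rw [hcomm _ w.2 _ (v o).2]
        _ = _ := by rw [← mul_assoc (v o : G), h2, one_mul]
    rw [← e o z, h', e o' z']
  have hz : z = z' := by
    obtain ⟨k, hk⟩ : ∃ k, Nat.card Z = 2 * k + 1 := ⟨Nat.card Z / 2, by omega⟩
    have e : ∀ w : Z, w = (w * w) ^ (k + 1) := fun w => by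
      rw [← pow_two, ← pow_mul, show 2 * (k + 1) = Nat.card Z + 1 by omega, pow_succ,
        pow_card_eq_one', one_mul]
    have : z * z = z' * z' := Subtype.ext hsq
    rw [e z, this, ← e z']
  subst hz
  have ho : (v o : G) = v o' := mul_right_cancel h'
  rcases o with _ | u <;> rcases o' with _ | u'
  · rfl
  · exact absurd ho.symm (hu2 u').2
  · exact absurd ho (hu2 u).2
  · exact Prod.ext (congrArg some (Subtype.ext ho)) rfl

end Cfsg.Agent.Lib.Classif.FixedSylow
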