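import Cfsg.Agent.Lib.Classif.FirstPowerData
import Cfsg.Agent.Lib.Classif.FixedSylow

/-!
# The class multiplication relation for an inverting involution

With a self-centralising Sylow subgroup `P` of prime order and an involution `u` of `N(P)`, the
family of `P` satisfies `|G| (1 + ∑ a χ(u)² / χ(1) - δ θ(u)² / θ(1)) = p |C(u)|²`.
-/

set_option autoImplicit false
set_option linter.style.haveILetI false
set_option linter.unusedSectionVars false

namespace Cfsg.Agent.Lib.Classif.ClassSum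

open Cfsg.Agent.Lib.Induced.Basic
open Cfsg.Agent.Lib.Classif.PrimeExceptional (deg apply_one_eq)

universe u

variable {G : Type u} [Group G] [Fintype G] {p : ℕ} [hp : Fact p.Prime]

/-- The class sum of a function induced from `P` over products of two conjugates of an inverting
involution. -/
theorem sum_indFun_involution (P : Sylow p G) [Fintype ↥(P : Subgroup G)] (hP : Nat.card (P : Subgroup G) = p) (hp2 : p ≠ 2)
    (hC : Subgroup.centralizer ((P : Subgroup G) : Set G) = P) (φ : ↥(P : Subgroup G) → ℂ)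
    (hφ : φ 1 = 0) {u : G} (hu : u ∈ Subgroup.normalizer ((P : Subgroup G) : Set G))
    (hu2 : orderOf u = 2) :
    ∑ a : G, Cfsg.indFun (P : Subgroup G) φ (u * (a * u * a⁻¹)) =
      (Nat.card (Subgroup.centralizer ({u} : Set G)) : ℂ) ^ 2 * ∑ x, φ x := by
  classical
  have hne : ∀ v : G, v ∈ (P : Subgroup G) → v * v = 1 → v = 1 := by
    intro v hv h
    have := FixedSylow.pow_eq_one P hP hv
    obtain ⟨k, rfl⟩ := hp.out.odd_of_ne_two hp2
    rwa [pow_succ, pow_mul, pow_two, h, one_pow, one_mul] at this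
  have huu : u * u = 1 := by rw [← pow_two, ← hu2, pow_orderOf_eq_one]
  have huP : u ∉ (P : Subgroup G) := fun h => by
    rw [hne u h huu, orderOf_one] at hu2; omega
  set E : G → ℂ := Cfsg.extendByZero (P : Subgroup G) (φ) with hE
  set C0 := Nat.card (Subgroup.centralizer ({u} : Set G)) with hC0
  set K : Finset G := Finset.univ.image fun g => g * u * g⁻¹ with hK
  have hfibre : ∀ v ∈ K, (Finset.univ.filter fun g : G => g * u * g⁻¹ = v).card = C0 := by
    intro v hv
    obtain ⟨b, -, rfl⟩ := Finset.mem_image.mp hv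
    rw [← Fintype.card_subtype, ← Nat.card_eq_fintype_card, hC0]
    refine Nat.card_congr ((Equiv.mulLeft b⁻¹).subtypeEquiv fun g => ?_)
    rw [eq_comm]
    exact FixedSylow.conj_eq_iff
  have hclass : ∀ f : G → ℂ, ∑ g : G, f (g * u * g⁻¹) = (C0 : ℂ) * ∑ v ∈ K, f v := by
    intro f
    rw [← Finset.sum_fiberwise_of_maps_to (g := fun g : G => g * u * g⁻¹)
      (fun g _ => Finset.mem_image_of_mem (fun g => g * u * g⁻¹) (Finset.mem_univ g)),
      Finset.mul_sum]
    refine Finset.sum_congr rfl fun v hv => ?_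
    rw [Finset.sum_congr rfl (g := fun _ => f v) fun g hg => by rw [(Finset.mem_filter.mp hg).2],
      Finset.sum_const, hfibre v hv, nsmul_eq_mul]
  have hswap : ∀ g : G, ∑ a : G, E (g⁻¹ * (u * (a * u * a⁻¹)) * g) =
      ∑ b : G, E ((g⁻¹ * u * g⁻¹⁻¹) * (b * u * b⁻¹)) := by
    intro g
    refine Fintype.sum_equiv (Equiv.mulLeft g⁻¹) _ _ fun a => ?_
    simp only [Equiv.coe_mulLeft]
    congr 1
    group
  have hsum : ∑ a : G, Cfsg.indFun (P : Subgroup G) φ (u * (a * u * a⁻¹)) =
      (p : ℂ)⁻¹ * ((C0 : ℂ) * ((C0 : ℂ) * ∑ v ∈ K, ∑ w ∈ K, E (v * w))) := by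
    simp only [Cfsg.indFun, ← Finset.mul_sum, hP]
    congr 1
    rw [Finset.sum_comm, Finset.sum_congr rfl fun g _ => hswap g, ← Equiv.sum_comp (Equiv.inv G)]
    simp only [Equiv.inv_apply, inv_inv]
    rw [hclass fun v => ∑ b : G, E (v * (b * u * b⁻¹))]
    rw [Finset.mul_sum, Finset.mul_sum, Finset.mul_sum]
    exact Finset.sum_congr rfl fun v _ => by rw [hclass fun w => E (v * w)]
  -- the elements of `K`
  have hsq : ∀ v ∈ K, v * v = 1 ∧ v ≠ 1 := by
    intro v hv
    obtain ⟨b, -, rfl⟩ := Finset.mem_image.mp hv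
    refine ⟨by rw [conj_mul, huu, mul_one, mul_inv_cancel], fun h => ?_⟩
    rw [conj_eq_one_iff.mp h, orderOf_one] at hu2
    omega
  have hinv : ∀ x ∈ (P : Subgroup G), u * x * u⁻¹ = x⁻¹ :=
    (FixedSylow.inverts_or_centralizes P hP hu huu).resolve_left fun h => huP (hC ▸ h)
  have hcoset : ∀ x ∈ (P : Subgroup G), u * x ∈ K := by
    intro x hx
    obtain ⟨k, hk⟩ := hp.out.odd_of_ne_two hp2
    have hy : (x ^ (k + 1)) ∈ (P : Subgroup G) := pow_mem hx _
    refine Finset.mem_image.mpr ⟨(x ^ (k + 1))⁻¹, Finset.mem_univ _, ?_⟩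
    have h := hinv _ hy
    rw [mul_inv_eq_iff_eq_mul] at h
    rw [inv_inv, ← h, mul_assoc, ← pow_add,
      show k + 1 + (k + 1) = p + 1 by omega, pow_succ, FixedSylow.pow_eq_one P hP hx, one_mul]
  have hmemN : ∀ v ∈ K, v ∈ Subgroup.normalizer ((P : Subgroup G) : Set G) →
      ∃ x ∈ (P : Subgroup G), v = u * x := by
    intro v hv hvN
    have hvinv : ∀ x ∈ (P : Subgroup G), v * x * v⁻¹ = x⁻¹ := by
      refine (FixedSylow.inverts_or_centralizes P hP hvN (hsq v hv).1).resolve_left fun h => ?_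
      exact (hsq v hv).2 (hne v (hC ▸ h) (hsq v hv).1)
    refine ⟨u⁻¹ * v, ?_, by group⟩
    rw [← hC, Subgroup.mem_centralizer_iff]
    intro x hx
    have h1 := mul_inv_eq_iff_eq_mul.mp (hvinv x hx)
    have h2 := hinv x⁻¹ (inv_mem hx)
    rw [inv_inv, mul_inv_eq_iff_eq_mul] at h2
    rw [inv_eq_of_mul_eq_one_right huu, mul_assoc u v x, h1, ← mul_assoc u, h2, mul_assoc]
  have hinner : ∀ v ∈ K, ∑ w ∈ K, E (v * w) =
      if v ∈ Subgroup.normalizer ((P : Subgroup G) : Set G) then ∑ x, φ x else 0 := by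
    intro v hv
    have h1 : ∑ w ∈ K, E (v * w) =
        ∑ x : (P : Subgroup G), if v * (x : G) ∈ K then φ x else 0 := by
      rw [← Finset.sum_filter]
      symm
      refine Finset.sum_of_injOn (fun x : (P : Subgroup G) => v * (x : G))
        (fun x _ y _ h => Subtype.ext (mul_left_cancel h))
        (fun x hx => (Finset.mem_filter.mp hx).2) (fun w hw hw' => ?_) (fun x hx => ?_)
      · refine extendByZero_of_not_mem _ _ fun hmem => hw' ⟨⟨v * w, hmem⟩, ?_, ?_⟩
        · simp only [Finset.coe_filter, Finset.mem_univ, true_and, Set.mem_ofPred_eq]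
          rwa [← mul_assoc, (hsq v hv).1, one_mul]
        · simp only
          rw [← mul_assoc, (hsq v hv).1, one_mul]
      · rw [← mul_assoc, (hsq v hv).1, one_mul, hE, extendByZero_coe]
    rw [h1]
    split_ifs with hN
    · obtain ⟨x₀, hx₀, rfl⟩ := hmemN v hv hN
      rw [Finset.sum_congr rfl (g := fun x => φ x) fun x _ =>
        if_pos (by rw [mul_assoc]; exact hcoset _ (mul_mem hx₀ x.2))]
    · refine Finset.sum_eq_zero fun x _ => ?_
      split_ifs with hx
      · by_cases hx1 : x = 1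
        · rw [hx1, hφ]
        · exfalso
          apply hN
          have hmem : v * (x : G) * v⁻¹ ∈ (P : Subgroup G) := by
            have : v * (x : G) * v⁻¹ = (x : G)⁻¹ := by
              rw [inv_eq_of_mul_eq_one_right (hsq v hv).1]
              have h' := (hsq _ hx).1
              exact eq_inv_of_mul_eq_one_left (by rw [mul_assoc _ v]; simpa [mul_assoc] using h')
            rw [this]
            exact inv_mem x.2
          by_contra hvN
          exact hx1 (Subtype.ext (PrimeExceptional.hTI P hP v hvN _ x.2 hmem))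
      · rfl
  rw [hsum, Finset.sum_congr rfl hinner, ← Finset.sum_filter, Finset.sum_const, nsmul_eq_mul]
  have hcard : (K.filter fun v => v ∈ Subgroup.normalizer ((P : Subgroup G) : Set G)).card = p := by
    conv_rhs => rw [← hP, Nat.card_eq_fintype_card, ← Finset.card_univ]
    refine (Finset.card_bij (fun (x : (P : Subgroup G)) (_ : x ∈ Finset.univ) => u * (x : G))
      (fun x _ => ?_)
      (fun x _ y _ h => by simpa using h) (fun v hv => ?_)).symm
    · exact Finset.mem_filter.mpr ⟨hcoset _ x.2, mul_mem hu (Subgroup.le_normalizer x.2)⟩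
    · obtain ⟨x, hx, rfl⟩ := hmemN v (Finset.mem_filter.mp hv).1 (Finset.mem_filter.mp hv).2
      exact ⟨⟨x, hx⟩, Finset.mem_univ _, rfl⟩
  have hp0 : (p : ℂ) ≠ 0 := Nat.cast_ne_zero.mpr hp.out.ne_zero
  rw [hcard]
  field_simp

theorem card_conj_mem_indicator (P : Sylow p G) (hP : Nat.card (P : Subgroup G) = p)
    (hC : Subgroup.centralizer ((P : Subgroup G) : Set G) = P) {z : G} (hz : p ∣ orderOf z) :
    Nat.card {g : G // g⁻¹ * z * g ∈ (P : Subgroup G) ∧ g⁻¹ * z * g ≠ 1} =
      Nat.card (Subgroup.normalizer ((P : Subgroup G) : Set G)) := by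
  obtain ⟨b, hb, hb1⟩ := FirstPowerData.exists_conj_mem P hP hC hz
  refine Nat.card_congr
    { toFun := fun g => ⟨b * g.1, ?_⟩
      invFun := fun n => ⟨b⁻¹ * n.1, ?_⟩
      left_inv := fun g => Subtype.ext (inv_mul_cancel_left b g.1)
      right_inv := fun n => Subtype.ext (mul_inv_cancel_left b n.1) }
  · have h1 : (b * g.1)⁻¹ * (b * z * b⁻¹) * (b * g.1)⁻¹⁻¹ ∈ (P : Subgroup G) := by
      rw [show (b * g.1)⁻¹ * (b * z * b⁻¹) * (b * g.1)⁻¹⁻¹ = g.1⁻¹ * z * g.1 by group]
      exact g.2.1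
    by_contra hn
    exact hb1 (PrimeExceptional.hTI P hP (b * g.1)⁻¹
      (fun h => hn (by have h2 := inv_mem h; rwa [inv_inv] at h2)) _ hb h1)
  · have h1 : (b⁻¹ * n.1)⁻¹ * z * (b⁻¹ * n.1) = n.1⁻¹ * (b * z * b⁻¹) * n.1⁻¹⁻¹ := by group
    rw [h1]
    exact ⟨(Subgroup.mem_normalizer_iff.mp (inv_mem n.2) _).mp hb,
      fun h => hb1 (conj_eq_one_iff.mp h)⟩

/-- The function equal to `1` on the non-trivial elements of `P`. -/
noncomputable def phiP (P : Sylow p G) : ↥(P : Subgroup G) → ℂ :=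
  open Classical in fun x => if x = 1 then 0 else 1

/-- The relation between the values of the family at `u` and the induced class sum. -/
theorem class_sum_eq (P : Sylow p G) [Fintype ↥(P : Subgroup G)]
    (hP : Nat.card (P : Subgroup G) = p)
    (hC : Subgroup.centralizer ((P : Subgroup G) : Set G) = P) {e : ℕ}
    (D : FirstPowerData.Data P e)
    (hN : Nat.card (Subgroup.normalizer ((P : Subgroup G) : Set G)) = e * p) {u : G}
    (hu' : ¬ p ∣ orderOf u) {S : ℂ}
    (hS : ∑ a : G, Cfsg.indFun (P : Subgroup G) (phiP P) (u * (a * u * a⁻¹)) = S) :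
    (Nat.card G : ℂ) * (1 + ∑ χ ∈ D.K, (D.a χ : ℂ) *
        ((χ : G → ℂ) u * (χ : G → ℂ) u / (deg χ : ℂ)) -
      (D.δ : ℂ) * ((D.θ : G → ℂ) u * (D.θ : G → ℂ) u / (deg D.θ : ℂ))) * (D.fam.card : ℂ) =
      (p : ℂ) / (e : ℂ) * S := by
  classical
  set t := D.fam.card with ht
  set N := Subgroup.normalizer ((P : Subgroup G) : Set G) with hNdef
  set φ := phiP P with hφdef
  have hpe : e * t + 1 = p := D.fam_card
  have he0 : (e : ℂ) ≠ 0 := by
    have := D.card_K
    exact Nat.cast_ne_zero.mpr (by omega)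
  have hpoint : ∀ z : G, (t : ℂ) * (1 + ∑ χ ∈ D.K, (D.a χ : ℂ) * (χ : G → ℂ) z) -
      (D.δ : ℂ) * ∑ θ' ∈ D.fam, (θ' : G → ℂ) z =
      (p : ℂ) / (e : ℂ) * Cfsg.indFun (P : Subgroup G) φ z := by
    intro z
    have hext : ∀ w : G, Cfsg.extendByZero (P : Subgroup G) φ w =
        if w ∈ (P : Subgroup G) ∧ w ≠ 1 then 1 else 0 := by
      intro w
      by_cases hw : w ∈ (P : Subgroup G)
      · rw [extendByZero_of_mem _ _ hw]
        by_cases hw1 : w = 1
        · rw [if_neg (by simp [hw1])]; simp [hφdef, phiP, hw1]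
        · rw [if_pos ⟨hw, hw1⟩]
          simp only [hφdef, phiP]
          rw [if_neg fun h => hw1 (congrArg Subtype.val h)]
      · rw [extendByZero_of_not_mem _ _ hw, if_neg fun h => hw h.1]
    have hind : Cfsg.indFun (P : Subgroup G) φ z = (p : ℂ)⁻¹ *
        (Nat.card {g : G // g⁻¹ * z * g ∈ (P : Subgroup G) ∧ g⁻¹ * z * g ≠ 1} : ℂ) := by
      rw [Cfsg.indFun, hP]
      congr 1
      simp only [hext]
      rw [Finset.sum_boole, Nat.card_eq_fintype_card, Fintype.card_subtype]
    by_cases hz : p ∣ orderOf z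
    · rw [hind, card_conj_mem_indicator P hP hC hz, ← hNdef, hN, D.fam_singular hC z hz,
        Finset.sum_congr rfl (g := fun _ => (1 : ℂ)) fun χ hχ => ?_, Finset.sum_const, nsmul_one]
      · have hδ2 : (D.δ : ℂ) * D.δ = 1 := by rcases D.δ_unit with h | h <;> rw [h] <;> norm_num
        have hp0 : (p : ℂ) ≠ 0 := Nat.cast_ne_zero.mpr hp.out.ne_zero
        have h1 : (D.K.card : ℂ) + 1 = e := by exact_mod_cast D.card_K
        have h2 : (e : ℂ) * t + 1 = p := by exact_mod_cast hpe
        push_cast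
        rw [mul_neg, sub_neg_eq_add, hδ2, ← h2]
        rw [← h2] at hp0
        field_simp
        rw [← h1]
        ring
      · obtain ⟨b, hb, hb1⟩ := FirstPowerData.exists_conj_mem P hP hC hz
        have h := D.value χ hχ _ hb hb1 1 (one_mem _)
          (by rw [orderOf_one]; simpa using hp.out.ne_one)
        rw [mul_one, Characters.Basic.isClassFunction_irr χ z b] at h
        rw [h]
        rcases D.a_unit χ hχ with e' | e' <;> rw [e'] <;> norm_num
    · rw [hind, Finset.sum_congr rfl fun θ' h' => D.fam_regular θ' h' z hz, Finset.sum_const,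
        nsmul_eq_mul, D.rel z hz]
      haveI : IsEmpty {g : G // g⁻¹ * z * g ∈ (P : Subgroup G) ∧ g⁻¹ * z * g ≠ 1} := by
        refine ⟨fun g => hz ?_⟩
        haveI := isCyclic_of_prime_card hP
        have h1 := orderOf_eq_prime (p := p) (FixedSylow.pow_eq_one P hP g.2.1) g.2.2
        have h2 : orderOf z = orderOf (g.1⁻¹ * z * g.1⁻¹⁻¹) :=
          ((MulAut.conj g.1⁻¹).orderOf_eq z).symm
        rw [h2, inv_inv, h1]
      rw [Nat.card_of_isEmpty, Nat.cast_zero, mul_zero, mul_zero]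
      ring
  have hsum := congrArg (fun f : G → ℂ => ∑ a : G, f (u * (a * u * a⁻¹))) (funext hpoint)
  simp only [Finset.sum_sub_distrib, ← Finset.mul_sum, Finset.sum_add_distrib] at hsum
  rw [hS, Finset.sum_comm (t := D.K), Finset.sum_comm (t := D.fam)] at hsum
  simp only [← Finset.mul_sum, H80.ClassMult.sum_apply_mul_conj, Finset.sum_const,
    Finset.card_univ, ← Nat.card_eq_fintype_card, nsmul_eq_mul, mul_one, apply_one_eq] at hsum
  rw [Finset.sum_congr rfl (s₁ := D.fam) fun θ' h' => by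
      rw [D.fam_regular θ' h' u hu', D.fam_deg θ' h'],
    Finset.sum_const, nsmul_eq_mul, ← ht] at hsum
  have ht0 : (t : ℂ) ≠ 0 := Nat.cast_ne_zero.mpr D.fam_pos.ne'
  have hK : ∑ χ ∈ D.K, (D.a χ : ℂ) * ((Nat.card G : ℂ) * (χ : G → ℂ) u * (χ : G → ℂ) u /
      (deg χ : ℂ)) = (Nat.card G : ℂ) * ∑ χ ∈ D.K, (D.a χ : ℂ) *
        ((χ : G → ℂ) u * (χ : G → ℂ) u / (deg χ : ℂ)) := by
    rw [Finset.mul_sum]
    exact Finset.sum_congr rfl fun χ _ => by ring
  rw [hK] at hsum
  field_simp at hsum ⊢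
  linear_combination hsum

/-- The relation between the values of the family at an involution of `N(P)`. -/
theorem class_sum (P : Sylow p G) (hP : Nat.card (P : Subgroup G) = p) (hp2 : p ≠ 2)
    (hC : Subgroup.centralizer ((P : Subgroup G) : Set G) = P) {e : ℕ}
    (D : FirstPowerData.Data P e)
    (hN : Nat.card (Subgroup.normalizer ((P : Subgroup G) : Set G)) = e * p) {u : G}
    (hu : u ∈ Subgroup.normalizer ((P : Subgroup G) : Set G)) (hu2 : orderOf u = 2) :
    (Nat.card G : ℂ) * (1 + ∑ χ ∈ D.K, (D.a χ : ℂ) *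
        ((χ : G → ℂ) u * (χ : G → ℂ) u / (deg χ : ℂ)) -
      (D.δ : ℂ) * ((D.θ : G → ℂ) u * (D.θ : G → ℂ) u / (deg D.θ : ℂ))) =
      (p : ℂ) * (Nat.card (Subgroup.centralizer ({u} : Set G)) : ℂ) ^ 2 := by
  classical
  haveI : Fintype ↥(P : Subgroup G) := Fintype.ofFinite _
  have hu' : ¬ p ∣ orderOf u := by
    rw [hu2]
    exact fun hd => hp2 ((Nat.prime_dvd_prime_iff_eq hp.out Nat.prime_two).mp hd)
  set t := D.fam.card with ht
  have hpe : e * t + 1 = p := D.fam_card
  have he0 : (e : ℂ) ≠ 0 := by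
    have := D.card_K
    exact Nat.cast_ne_zero.mpr (by omega)
  have hφsum : ∑ x, phiP P x = (e : ℂ) * t := by
    simp only [phiP]
    rw [Finset.sum_ite, Finset.sum_const_zero, zero_add, Finset.sum_const, nsmul_one,
      Finset.filter_ne', Finset.card_erase_of_mem (Finset.mem_univ _), Finset.card_univ,
      ← Nat.card_eq_fintype_card, hP, Nat.cast_sub hp.out.one_le, Nat.cast_one,
      sub_eq_iff_eq_add]
    exact_mod_cast hpe.symm
  have h := class_sum_eq P hP hC D hN hu'
    (sum_indFun_involution P hP hp2 hC (phiP P) (by simp [phiP]) hu hu2)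
  rw [hφsum] at h
  have ht0 : (t : ℂ) ≠ 0 := Nat.cast_ne_zero.mpr D.fam_pos.ne'
  apply mul_right_cancel₀ ht0
  rw [h]
  field_simp

/-- An element none of whose conjugates normalises `P`: the relation is homogeneous. -/
theorem class_sum_zero (P : Sylow p G) (hP : Nat.card (P : Subgroup G) = p)
    (hC : Subgroup.centralizer ((P : Subgroup G) : Set G) = P) {e : ℕ}
    (D : FirstPowerData.Data P e)
    (hN : Nat.card (Subgroup.normalizer ((P : Subgroup G) : Set G)) = e * p) {z : G}
    (hz : ¬ p ∣ orderOf z) (hz2 : z * z = 1)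
    (hout : ∀ b : G, b * z * b⁻¹ ∉ Subgroup.normalizer ((P : Subgroup G) : Set G)) :
    (Nat.card G : ℂ) * (1 + ∑ χ ∈ D.K, (D.a χ : ℂ) *
        ((χ : G → ℂ) z * (χ : G → ℂ) z / (deg χ : ℂ)) -
      (D.δ : ℂ) * ((D.θ : G → ℂ) z * (D.θ : G → ℂ) z / (deg D.θ : ℂ))) = 0 := by
  classical
  haveI : Fintype ↥(P : Subgroup G) := Fintype.ofFinite _
  have h0 : ∑ a : G, Cfsg.indFun (P : Subgroup G) (phiP P) (z * (a * z * a⁻¹)) = 0 := by
    refine Finset.sum_eq_zero fun a _ => ?_
    simp only [Cfsg.indFun]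
    rw [Finset.sum_eq_zero fun g _ => ?_, mul_zero]
    by_cases hm : g⁻¹ * (z * (a * z * a⁻¹)) * g ∈ (P : Subgroup G)
    · rw [extendByZero_of_mem _ _ hm]
      by_cases h1 : (⟨_, hm⟩ : (P : Subgroup G)) = 1
      · rw [h1]; simp [phiP]
      · exfalso
        set v := g⁻¹ * z * g⁻¹⁻¹ with hv
        set w := g⁻¹ * a * z * (g⁻¹ * a)⁻¹ with hw
        set x := g⁻¹ * (z * (a * z * a⁻¹)) * g with hx
        have hxvw : x = v * w := by rw [hx, hv, hw]; group
        have hvv : v * v = 1 := by rw [hv, conj_mul, hz2, mul_one, mul_inv_cancel]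
        have hww : w * w = 1 := by rw [hw, conj_mul, hz2, mul_one, mul_inv_cancel]
        have hinv : v * x * v⁻¹ = x⁻¹ := by
          rw [inv_eq_of_mul_eq_one_right hvv, hxvw, ← mul_assoc v v w, hvv, one_mul, mul_inv_rev,
            inv_eq_of_mul_eq_one_right hvv, inv_eq_of_mul_eq_one_right hww]
        refine hout g⁻¹ ?_
        by_contra hn
        have h2 := PrimeExceptional.hTI P hP v (by
          intro h; exact hn (hv ▸ h)) x hm (by rw [hinv]; exact inv_mem hm)
        exact h1 (Subtype.ext h2)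
    · exact extendByZero_of_not_mem _ _ hm
  have h := class_sum_eq P hP hC D hN hz h0
  rw [mul_zero] at h
  exact (mul_eq_zero.mp h).resolve_right (Nat.cast_ne_zero.mpr D.fam_pos.ne')

end Cfsg.Agent.Lib.Classif.ClassSum
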