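import Cfsg.Agent.Lib.Classif.SunflowerSupports
import Cfsg.Agent.Lib.Induced.CNFamily
import Cfsg.Agent.Lib.Fg6.NormThree
import Cfsg.Agent.Lib.H80.ClassMult

/-!
Exceptional characters for a self-centralising Sylow subgroup of prime order `p` whose normaliser
has index two or three over it: signed degrees, congruences, and the expansion of `(1 - λ)^G`.
-/

set_option autoImplicit false

set_option linter.style.haveILetI false
set_option linter.unusedSectionVars false

namespace Cfsg.Agent.Lib.Classif.PrimeExceptional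

open Cfsg.Agent.Lib.Characters.Basic Cfsg.Agent.Lib.Characters.Linear
  Cfsg.Agent.Lib.Characters.Complete Cfsg.Agent.Lib.Induced Cfsg.Agent.Lib.Induced.Basic
  Cfsg.Agent.Lib.Induced.CNFamily
open scoped ComplexConjugate

universe u

variable {G : Type u} [Group G]

/-- The degree as an integer. -/
noncomputable def deg (χ : Cfsg.IrrCharacter G) : ℤ := (Cfsg.charDegree (χ : G → ℂ) : ℤ)

theorem apply_one_eq (χ : Cfsg.IrrCharacter G) : (χ : G → ℂ) 1 = (deg χ : ℂ) := by
  rw [deg, Int.cast_natCast]; exact (H80.ClassMult.deg_spec χ).2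

theorem deg_oneChar : deg (oneChar G) = 1 := by
  have h := apply_one_eq (oneChar G)
  rw [oneChar_apply] at h
  exact_mod_cast h.symm

theorem natAbs_deg (χ : Cfsg.IrrCharacter G) :
    (deg χ).natAbs = Cfsg.charDegree (χ : G → ℂ) := Int.natAbs_natCast _

variable [Fintype G]

theorem sum_deg_sq [Fintype (Cfsg.IrrCharacter G)] :
    ∑ χ : Cfsg.IrrCharacter G, deg χ ^ 2 = (Nat.card G : ℤ) := by
  have h := finsum_degree_sq (G := G)
  rw [finsum_eq_sum_of_fintype] at h
  simp only [apply_one_eq] at h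
  exact_mod_cast h

/-- In a perfect group only the trivial character is linear. -/
theorem two_le_deg (hperf : commutator G = ⊤) (χ : Cfsg.IrrCharacter G) (hne : χ ≠ oneChar G) :
    2 ≤ deg χ := by
  by_contra hc
  have hpos : (0 : ℤ) < deg χ := by
    rw [deg]; exact_mod_cast (H80.ClassMult.deg_spec χ).1
  have h1 : (χ : G → ℂ) 1 = 1 := by
    rw [apply_one_eq, show deg χ = 1 by omega, Int.cast_one]
  have hc1 := card_linear (G := G)
  rw [hperf, Subgroup.index_top, Nat.card_eq_one_iff_unique] at hc1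
  haveI := hc1.1
  exact hne (congrArg Subtype.val
    (Subsingleton.elim (⟨χ, h1⟩ : {χ : Cfsg.IrrCharacter G // (χ : G → ℂ) 1 = 1})
      ⟨oneChar G, oneChar_apply 1⟩))

variable {p : ℕ} [hp : Fact p.Prime] (P : Sylow p G) (hP : Nat.card (P : Subgroup G) = p)
  (hC : Subgroup.centralizer ((P : Subgroup G) : Set G) = P)

omit [Fintype G] in
include hP in
theorem zpowers_eq {x : G} (hx : x ∈ (P : Subgroup G)) (h1 : x ≠ 1) :
    Subgroup.zpowers x = (P : Subgroup G) := by
  haveI : Finite (P : Subgroup G) := Nat.finite_of_card_ne_zero (by rw [hP]; exact hp.out.ne_zero)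
  have hle : Subgroup.zpowers x ≤ (P : Subgroup G) := Subgroup.zpowers_le.mpr hx
  refine Subgroup.eq_of_le_of_card_ge hle ?_
  have hd := Subgroup.card_dvd_of_le hle
  rw [hP] at hd
  rcases (Nat.dvd_prime hp.out).mp hd with h | h
  · exact absurd (Subgroup.zpowers_eq_bot.mp (Subgroup.eq_bot_of_card_eq _ h)) h1
  · rw [h, hP]

omit [Fintype G] in
include hP hC in
theorem hcent : ∀ x ∈ (P : Subgroup G), x ≠ 1 →
    Subgroup.centralizer ({x} : Set G) ≤ (P : Subgroup G) := by
  intro x hx h1 c hc
  have h : c ∈ Subgroup.centralizer (Subgroup.zpowers x : Set G) := by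
    rw [Subgroup.mem_centralizer_iff]
    intro y hy
    obtain ⟨n, rfl⟩ := Subgroup.mem_zpowers_iff.mp hy
    exact ((Commute.symm (Subgroup.mem_centralizer_singleton_iff.mp hc)).zpow_left n).eq
  rw [zpowers_eq P hP hx h1, hC] at h
  exact h

include hP in
theorem hTI : ∀ g : G, g ∉ nml (P : Subgroup G) → ∀ x ∈ (P : Subgroup G),
    g * x * g⁻¹ ∈ (P : Subgroup G) → x = 1 := by
  intro g hg x hx hgx
  by_contra h1
  apply hg
  refine Subgroup.mem_normalizer_iff_map_conj_eq.mpr ?_
  conv_lhs => rw [← zpowers_eq P hP hx h1]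
  rw [MonoidHom.map_zpowers]
  exact zpowers_eq P hP hgx fun h => h1 (conj_eq_one_iff.mp h)

include hP in
theorem index_eq {e : ℕ}
    (hN : Nat.card (Subgroup.normalizer ((P : Subgroup G) : Set G)) = e * p) :
    ((P : Subgroup G).subgroupOf (nml (P : Subgroup G))).index = e := by
  have h := Subgroup.index_mul_card ((P : Subgroup G).subgroupOf (nml (P : Subgroup G)))
  rw [card_subgroupOf, hP, hN] at h
  exact Nat.eq_of_mul_eq_mul_right hp.out.pos h

include hP hC in
theorem card_rep {e : ℕ}
    (hN : Nat.card (Subgroup.normalizer ((P : Subgroup G) : Set G)) = e * p) :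
    p = e * Nat.card (Rep (P : Subgroup G)) + 1 := by
  have h := card_linHom (P : Subgroup G) (hcent P hP hC)
  rw [index_eq P hP hN] at h
  haveI := isCyclic_of_prime_card hP
  rw [show commutator (P : Subgroup G) = ⊥ from
    (commutator_eq_bot_iff_center_eq_top (G := (P : Subgroup G))).mpr (by
      letI := IsCyclic.commGroup (α := (P : Subgroup G))
      exact CommGroup.center_eq_top), Subgroup.index_bot, hP] at h
  exact h

/-- The exceptional family. -/
structure Family (e : ℕ) where
  K : Finset (Cfsg.IrrCharacter G)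
  σ : Cfsg.IrrCharacter G → ℤ
  θ : Rep (P : Subgroup G) → Cfsg.IrrCharacter G
  ε : Rep (P : Subgroup G) → ℤ
  card_K : K.card + 1 = e
  one_not_mem : oneChar G ∉ K
  σ_unit : ∀ χ ∈ K, σ χ = 1 ∨ σ χ = -1
  ε_unit : ∀ r, ε r = 1 ∨ ε r = -1
  θ_inj : Function.Injective θ
  θ_not_mem : ∀ r, θ r ∉ K ∧ θ r ≠ oneChar G
  expansion : ∀ r g, bigD (P : Subgroup G) (rep r) g =
    1 + ∑ χ ∈ K, (σ χ : ℂ) * (χ : G → ℂ) g + (ε r : ℂ) * (θ r : G → ℂ) g
  cong_K : ∀ χ ∈ K, (p : ℤ) ∣ σ χ * deg χ - 1
  cong_θ : ∀ r, (p : ℤ) ∣ ε r * deg (θ r) + (e : ℤ)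
  degree_sum : ∀ r, ∑ χ ∈ K, σ χ * deg χ + ε r * deg (θ r) = -1
  square_sum : 1 + ∑ χ ∈ K, deg χ ^ 2 + ∑ᶠ r, deg (θ r) ^ 2 ≤ (Nat.card G : ℤ)

include hP hC in
theorem exists_family {e : ℕ}
    (hN : Nat.card (Subgroup.normalizer ((P : Subgroup G) : Set G)) = e * p)
    (he : e = 2 ∨ e = 3) (h2 : 2 * e < p) (ht : e = 2 ∨ e * (e + 2) < p) :
    Nonempty (Family P e) := by
  classical
  haveI := Fintype.ofFinite (Cfsg.IrrCharacter G)
  set H : Subgroup G := (P : Subgroup G) with hH
  haveI := Fintype.ofFinite H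
  haveI := Fintype.ofFinite (Rep H)
  have htp : p = e * Fintype.card (Rep H) + 1 := by
    rw [← Nat.card_eq_fintype_card]; exact card_rep P hP hC hN
  -- coefficients
  have hexp : ∀ r : Rep H, ∃ a : Cfsg.IrrCharacter G → ℤ,
      bigD H (rep r) = ∑ ψ, (a ψ : ℂ) • (ψ : G → ℂ) ∧
        ∀ ψ : Cfsg.IrrCharacter G, (a ψ : ℂ) = Cfsg.classInner (bigD H (rep r)) ψ :=
    fun r => Fg6.NormThree.exists_int_expansion (isGen_bigD H _)
  choose a hfe ha using hexp
  have hgram : ∀ r s, ∑ χ, a r χ * a s χ = (e : ℤ) + if r = s then 1 else 0 := by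
    intro r s
    have h := classInner_bigD H (hTI P hP) (hcent P hP hC) r s
    rw [index_eq P hP hN] at h
    conv_lhs at h => arg 1; rw [hfe r]
    rw [classInner_sum_left] at h
    have h' : ∀ χ : Cfsg.IrrCharacter G,
        Cfsg.classInner ((a r χ : ℂ) • (χ : G → ℂ)) (bigD H (rep s)) = ((a r χ * a s χ : ℤ) : ℂ) := by
      intro χ
      rw [classInner_smul_left, ← classInner_conj_symm (bigD H (rep s)) (χ : G → ℂ), ← ha]
      simp
    simp only [h'] at h
    rw [← Int.cast_sum] at h
    split_ifs at h ⊢ <;> exact_mod_cast h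
  have hone : ∀ r, a r (oneChar G) = 1 := fun r => by
    have h := ha r (oneChar G)
    rw [classInner_bigD_one H _ (rep_ne_one r)] at h
    exact_mod_cast h
  have hdeg : ∀ r, ∑ χ, a r χ * deg χ = 0 := by
    intro r
    have h := congrFun (hfe r) 1
    rw [bigD_apply_one, Finset.sum_apply] at h
    simp only [Pi.smul_apply, smul_eq_mul, apply_one_eq] at h
    exact_mod_cast h.symm
  obtain ⟨K, σ, θ, ε, hKc, h1K, hσ, hε, hθi, hθn, haeq⟩ :=
    SunflowerSupports.exists_core a (oneChar G) e hgram hone (by omega) deg deg_oneChar hdeg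
      (by rcases ht with h | h
          · exact Or.inl h
          · refine Or.inr ?_
            by_contra hc
            push Not at hc
            have : e * Fintype.card (Rep H) ≤ e * (e + 1) := Nat.mul_le_mul_left e (by omega)
            rcases he with rfl | rfl <;> omega)
      (by by_contra hc
          push Not at hc
          have : e * Fintype.card (Rep H) ≤ e * 1 := Nat.mul_le_mul_left e hc
          omega)
  -- sums against an expansion
  have hsplit : ∀ (r : Rep H) (w : Cfsg.IrrCharacter G → ℂ), ∑ χ, (a r χ : ℂ) * w χ =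
      w (oneChar G) + ∑ χ ∈ K, (σ χ : ℂ) * w χ + (ε r : ℂ) * w (θ r) := by
    intro r w
    rw [← Finset.sum_subset (Finset.subset_univ (insert (oneChar G) (insert (θ r) K))) (fun χ _ hχ => by
      simp only [Finset.mem_insert, not_or] at hχ
      rw [haeq r χ, if_neg hχ.1, if_neg hχ.2.2, if_neg hχ.2.1, Int.cast_zero, zero_mul]),
      Finset.sum_insert (by simp [h1K, (hθn r).2.symm]), Finset.sum_insert (hθn r).1]
    rw [haeq r (θ r), if_neg (hθn r).2, if_neg (hθn r).1, if_pos rfl, hone, Int.cast_one, one_mul,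
      Finset.sum_congr rfl fun χ hχ => by
        rw [haeq r χ, if_neg (fun h : χ = oneChar G => h1K (h ▸ hχ)), if_pos hχ]]
    ring
  -- congruence
  have hcong : ∀ χ : Cfsg.IrrCharacter G, (p : ℤ) ∣ deg χ + (e : ℤ) * ∑ r, a r χ := by
    intro χ
    have hcomm : ∀ x y : H, x * y = y * x := by
      haveI := isCyclic_of_prime_card hP
      exact (IsCyclic.commGroup (α := H)).mul_comm
    haveI : Finite (H →* ℂˣ) := Finite.of_injective (fun lam => linChar lam) linChar_injective
    haveI := Fintype.ofFinite (H →* ℂˣ)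
    haveI := Fintype.ofFinite (Cfsg.IrrCharacter H)
    have hreg : ∀ x : H, ∑ lam : H →* ℂˣ, phi lam x = if x = 1 then 0 else (p : ℂ) := by
      intro x
      let E : (H →* ℂˣ) ≃ Cfsg.IrrCharacter H :=
        (linEquiv H).trans (Equiv.subtypeUnivEquiv fun ψ => degree_eq_one_of_comm hcomm ψ)
      have hE : ∀ lam : H →* ℂˣ, (E lam : H → ℂ) x = (lam x : ℂ) := fun lam => rfl
      have hs : ∑ lam : H →* ℂˣ, (lam x : ℂ) = if x = 1 then (p : ℂ) else 0 := by
        rw [← Finset.sum_congr rfl fun lam _ => hE lam,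
          Equiv.sum_comp E (fun ψ => (ψ : H → ℂ) x)]
        have h := sum_degree_mul_apply (G := H) x
        simp only [degree_eq_one_of_comm hcomm, one_mul] at h
        rw [h, hP]
      have hc : (Fintype.card (H →* ℂˣ) : ℂ) = p := by
        have h := hs
        by_cases hx : x = 1
        · subst hx; simpa using h
        · have h1 := sum_degree_mul_apply (G := H) (1 : H)
          simp only [degree_eq_one_of_comm hcomm, if_pos, Finset.sum_const,
            nsmul_eq_mul, mul_one, Finset.card_univ] at h1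
          rw [Fintype.card_congr E, h1, hP]
      simp only [phi, Finset.sum_sub_distrib, hs, Finset.sum_const, Finset.card_univ, nsmul_eq_mul,
        mul_one, hc]
      split_ifs <;> ring
    obtain ⟨m, hm⟩ := exists_classInner_nat (isCharacter_one (G := H))
      (isCharacter_comp H.subtype (isCharacter_irr χ))
    let F : (H →* ℂˣ) → ℂ := fun lam => Cfsg.classInner (phi lam) (fun x : H => (χ : G → ℂ) x)
    have hFsum : ∑ lam, F lam = (p : ℂ) * m - deg χ := by
      simp only [F]
      rw [← classInner_sum_left, ← hm]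
      simp only [Cfsg.classInner, Finset.sum_apply, hreg, hP, Function.comp_def, Pi.one_apply,
        one_mul]
      rw [← mul_assoc, mul_inv_cancel₀ (Nat.cast_ne_zero.mpr hp.out.ne_zero), one_mul,
        ← Finset.add_sum_erase _ _ (Finset.mem_univ (1 : H)),
        ← Finset.add_sum_erase (Finset.univ : Finset H) (fun x => conj ((χ : G → ℂ) (H.subtype x)))
          (Finset.mem_univ (1 : H))]
      simp only [if_pos, zero_mul, zero_add, map_one]
      rw [conj_apply_one (isCharacter_irr χ), apply_one_eq, add_sub_cancel_left, Finset.mul_sum]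
      refine Finset.sum_congr rfl fun x hx => ?_
      rw [if_neg (Finset.ne_of_mem_erase hx), ← mul_assoc,
        inv_mul_cancel₀ (Nat.cast_ne_zero.mpr hp.out.ne_zero), one_mul]
      rfl
    have hFr : ∀ lam, F lam = Cfsg.classInner (bigD H lam) (χ : G → ℂ) := fun lam =>
      (frobenius_reciprocity H _ (isClassFunction_irr χ)).symm
    letI := linAct H
    have hF1 : F 1 = 0 := by
      simp [F, Cfsg.classInner, phi]
    have hFtot : ∑ lam, F lam = ((e : ℤ) * ∑ r, a r χ : ℤ) := by
      haveI : Finite (MulAction.orbitRel.Quotient (nml H) (H →* ℂˣ)) := Quotient.finite _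
      haveI := Fintype.ofFinite (MulAction.orbitRel.Quotient (nml H) (H →* ℂˣ))
      rw [← Finset.sum_fiberwise Finset.univ
        (fun lam : H →* ℂˣ => Quotient.mk (MulAction.orbitRel (nml H) (H →* ℂˣ)) lam) F]
      rw [← Finset.add_sum_erase _ _
        (Finset.mem_univ (Quotient.mk (MulAction.orbitRel (nml H) (H →* ℂˣ)) 1))]
      have hfirst : ∀ lam ∈ Finset.univ.filter (fun lam : H →* ℂˣ =>
          Quotient.mk (MulAction.orbitRel (nml H) (H →* ℂˣ)) lam = Quotient.mk _ 1), F lam = 0 := by
        intro lam hlam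
        obtain ⟨n, hn⟩ := Quotient.exact (Finset.mem_filter.mp hlam).2
        have : lam = 1 := hn.symm.trans (smul_one_hom H n)
        rw [this, hF1]
      rw [Finset.sum_eq_zero hfirst, zero_add]
      push_cast
      rw [Finset.mul_sum]
      refine Finset.sum_bij' (fun ω hω => (⟨ω, (Finset.mem_erase.mp hω).1⟩ : Rep H))
        (fun r _ => r.1) (fun _ _ => Finset.mem_univ _)
        (fun r _ => Finset.mem_erase.mpr ⟨r.2, Finset.mem_univ _⟩) (fun _ _ => rfl)
        (fun _ _ => rfl) ?_
      intro ω hω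
      set r : Rep H := ⟨ω, (Finset.mem_erase.mp hω).1⟩ with hr
      rw [Finset.sum_congr rfl (g := fun _ => (a r χ : ℂ)) fun lam hlam => ?_, Finset.sum_const,
        nsmul_eq_mul]
      · congr 1
        have hfib : Nat.card {lam : H →* ℂˣ //
            Quotient.mk (MulAction.orbitRel (nml H) (H →* ℂˣ)) lam = ω} = e := by
          have hset : {lam : H →* ℂˣ |
              Quotient.mk (MulAction.orbitRel (nml H) (H →* ℂˣ)) lam = ω} =
              MulAction.orbit (nml H) (rep r) := by
            ext lam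
            exact ⟨fun h => Quotient.exact (h.trans (Quotient.out_eq ω).symm),
              fun h => (Quotient.sound h).trans (Quotient.out_eq ω)⟩
          rw [← Set.coe_ofPred, hset, Nat.card_coe_set_eq, ← MulAction.index_stabilizer,
            stabilizer_eq H (hcent P hP hC) (rep_ne_one r), index_eq P hP hN]
        rw [Nat.card_eq_fintype_card, Fintype.card_subtype] at hfib
        rw [hfib]
      · obtain ⟨n, hn⟩ := Quotient.exact
          ((Finset.mem_filter.mp hlam).2.trans (Quotient.out_eq ω).symm)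
        rw [hFr, ← hn]
        exact (congrArg (fun f => Cfsg.classInner f (χ : G → ℂ)) (bigD_smul H n _)).trans (ha r χ).symm
    rw [hFsum] at hFtot
    refine ⟨(m : ℤ), ?_⟩
    have : (((p : ℤ) * m - deg χ : ℤ) : ℂ) = (((e : ℤ) * ∑ r, a r χ : ℤ) : ℂ) := by
      rw [← hFtot]; push_cast; rfl
    have := Int.cast_inj.mp this
    omega
  have hsumK : ∀ χ ∈ K, ∑ r, a r χ = (Fintype.card (Rep H) : ℤ) * σ χ := by
    intro χ hχ
    rw [Finset.sum_congr rfl (g := fun _ => σ χ) fun r _ => by
      rw [haeq r χ, if_neg (fun h : χ = oneChar G => h1K (h ▸ hχ)), if_pos hχ],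
      Finset.sum_const, Finset.card_univ, nsmul_eq_mul]
  have hsumθ : ∀ r, ∑ s, a s (θ r) = ε r := by
    intro r
    rw [Finset.sum_eq_single r]
    · rw [haeq r (θ r), if_neg (hθn r).2, if_neg (hθn r).1, if_pos rfl]
    · intro s _ hs
      rw [haeq s (θ r), if_neg (hθn r).2, if_neg (hθn r).1, if_neg fun h => hs (hθi h).symm]
    · simp
  refine ⟨⟨K, σ, θ, ε, hKc, h1K, hσ, hε, hθi, hθn, ?_, ?_, ?_, ?_, ?_⟩⟩
  · intro r g
    rw [congrFun (hfe r) g, Finset.sum_apply]
    simp only [Pi.smul_apply, smul_eq_mul]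
    rw [hsplit r (fun χ => (χ : G → ℂ) g), oneChar_apply]
  · intro χ hχ
    have h := hcong χ
    rw [hsumK χ hχ] at h
    have ht' : (e : ℤ) * (Fintype.card (Rep H) : ℤ) = (p : ℤ) - 1 := by
      have := congrArg (fun n : ℕ => (n : ℤ)) htp
      push_cast at this
      omega
    rw [← mul_assoc, ht'] at h
    rcases hσ χ hχ with hs | hs <;> rw [hs] at h ⊢
    · obtain ⟨k, hk⟩ := h
      exact ⟨k - 1, by linear_combination hk⟩
    · obtain ⟨k, hk⟩ := h
      exact ⟨-k - 1, by linear_combination -hk⟩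
  · intro r
    have h := hcong (θ r)
    rw [hsumθ r] at h
    obtain ⟨k, hk⟩ := h
    refine ⟨ε r * k, ?_⟩
    rcases hε r with hs | hs <;> rw [hs] at hk ⊢
    · linear_combination hk
    · linear_combination -hk
  · intro r
    have h := hsplit r (fun χ => (deg χ : ℂ))
    have h0 : ∑ χ, (a r χ : ℂ) * (deg χ : ℂ) = 0 := by exact_mod_cast hdeg r
    rw [h0, deg_oneChar] at h
    push_cast at h
    have : (0 : ℤ) = 1 + ∑ χ ∈ K, σ χ * deg χ + ε r * deg (θ r) := by exact_mod_cast h
    linarith
  · rw [finsum_eq_sum_of_fintype, ← sum_deg_sq (G := G),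
      show ∑ r, deg (θ r) ^ 2 = ∑ χ ∈ Finset.univ.image θ, deg χ ^ 2 from
        (Finset.sum_image (f := fun χ => deg χ ^ 2) hθi.injOn).symm]
    have hd1 : Disjoint K (Finset.univ.image θ) := by
      rw [Finset.disjoint_right]
      intro χ hχ
      obtain ⟨r, -, rfl⟩ := Finset.mem_image.mp hχ
      exact (hθn r).1
    rw [add_assoc, ← Finset.sum_union hd1]
    calc 1 + ∑ χ ∈ K ∪ Finset.univ.image θ, deg χ ^ 2
        = ∑ χ ∈ insert (oneChar G) (K ∪ Finset.univ.image θ), deg χ ^ 2 := by
          rw [Finset.sum_insert, deg_oneChar, one_pow]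
          rw [Finset.mem_union]
          rintro (h | h)
          · exact h1K h
          · obtain ⟨r, -, hr⟩ := Finset.mem_image.mp h
            exact (hθn r).2 hr
      _ ≤ _ := Finset.sum_le_sum_of_subset_of_nonneg (Finset.subset_univ _) fun χ _ _ => sq_nonneg _

end Cfsg.Agent.Lib.Classif.PrimeExceptional
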