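import Cfsg.Agent.Lib.PrimePrincipal.Setup
import Cfsg.Agent.Lib.Classif.PrimeExceptional

/-!
# The degree relations of a Sylow subgroup of prime order

`Data P e` packages the family of `FirstPower.Family.exists_family` for a Sylow subgroup `P` of
order `p` with `|N(P) : C(P)| = e`: `e - 1` non-trivial characters with values `a = ± 1` on the
`p`-singular elements of `C(P)` and one representative `θ` of the exceptional ones.
-/

set_option autoImplicit false
set_option linter.style.haveILetI false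
set_option linter.unusedSectionVars false

namespace Cfsg.Agent.Lib.Classif.FirstPowerData

open Cfsg.Agent.Lib.FirstPower Average Family Periods Cfsg.Agent.Lib.PrimePrincipal.Setup
open Cfsg.Agent.Lib.Characters Cfsg.Agent.Lib.Characters.Basic
open Cfsg.Agent.Lib.Classif.PrimeExceptional (deg apply_one_eq two_le_deg deg_oneChar)
open scoped ComplexConjugate

universe u

variable {G : Type u} [Group G]

section Rep

/-- Divisibility in the ring of algebraic integers inside `ℂ`, for integers. -/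
theorem int_dvd_of_isIntegral {a : ℤ} {n : ℕ} (hn : n ≠ 0)
    (h : IsIntegral ℤ ((a : ℂ) / (n : ℂ))) : (n : ℤ) ∣ a := by
  have hq : IsIntegral ℤ ((a : ℚ) / (n : ℚ)) := by
    refine (isIntegral_algebraMap_iff (FaithfulSMul.algebraMap_injective ℚ ℂ)).mp ?_
    simpa using h
  obtain ⟨z, hz⟩ := (IsIntegrallyClosed.isIntegral_iff (R := ℤ) (K := ℚ)).mp hq
  rw [eq_div_iff (Nat.cast_ne_zero.mpr hn)] at hz
  have hz' : z * (n : ℤ) = a := by
    simp only [algebraMap_int_eq, eq_intCast] at hz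
    exact_mod_cast hz
  exact ⟨z, by rw [← hz', mul_comm]⟩

/-- The average over a cyclic group of order `p` of the values at `x ^ i * v`, `v` commuting
with `x`, is an algebraic integer. -/
theorem isIntegral_avg [Finite G] {p : ℕ} (hp : p.Prime) (χ : Cfsg.IrrCharacter G) {x v : G}
    (hx : x ^ p = 1) (hv : ¬ p ∣ orderOf v) (hcomm : Commute x v) :
    IsIntegral ℤ ((∑ i ∈ Finset.range p, (χ : G → ℂ) (x ^ i * v)) / (p : ℂ)) := by
  classical
  haveI : Fact p.Prime := ⟨hp⟩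
  by_cases hx1 : x = 1
  · subst hx1
    rw [Finset.sum_congr rfl (g := fun _ => (χ : G → ℂ) v) fun i _ => by rw [one_pow, one_mul],
      Finset.sum_const, Finset.card_range, nsmul_eq_mul,
      mul_div_cancel_left₀ _ (Nat.cast_ne_zero.mpr hp.ne_zero)]
    exact isIntegral_apply (isCharacter_irr χ) v
  have hxo : orderOf x = p := orderOf_eq_prime hx hx1
  have hcop : Nat.Coprime (orderOf x) (orderOf v) := by
    rw [hxo]; exact hp.coprime_iff_not_dvd.mpr hv
  have hg : (x * v) ^ (p * orderOf v) = 1 := by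
    rw [hcomm.mul_pow, pow_mul, hx, one_pow, one_mul, mul_comm, pow_mul, pow_orderOf_eq_one,
      one_pow]
  have hne : p * orderOf v ≠ 0 := Nat.mul_ne_zero hp.ne_zero (orderOf_pos v).ne'
  obtain ⟨n, ρ, -, hχ⟩ := exists_rep χ
  obtain ⟨ι, hι, b, ζ, hζ, -, -⟩ := Diag.exists_eigenbasis ρ (x * v) hne hg
  obtain ⟨α, hα1, hα0⟩ := Nat.chineseRemainder hcop 1 0
  obtain ⟨β, hβ0, hβ1⟩ := Nat.chineseRemainder hcop 0 1
  have hxα : (x * v) ^ α = x := by
    rw [hcomm.mul_pow, pow_eq_pow_iff_modEq.mpr hα1, pow_one,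
      pow_eq_pow_iff_modEq.mpr hα0, pow_zero, mul_one]
  have hvβ : (x * v) ^ β = v := by
    rw [hcomm.mul_pow, pow_eq_pow_iff_modEq.mpr hβ0, pow_zero,
      pow_eq_pow_iff_modEq.mpr hβ1, pow_one, one_mul]
  have hval : ∀ m : ℕ, (χ : G → ℂ) ((x * v) ^ m) = ∑ j, ζ j ^ m := by
    intro m
    rw [← hχ, Representation.character, LinearMap.trace_eq_matrix_trace ℂ b, Matrix.trace]
    refine Finset.sum_congr rfl fun j _ => ?_
    rw [Matrix.diag_apply, LinearMap.toMatrix_apply]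
    have hj : ∀ k : ℕ, ρ ((x * v) ^ k) (b j) = ζ j ^ k • b j := by
      intro k
      induction k with
      | zero => simp
      | succ k ih =>
        rw [pow_succ, map_mul, Module.End.mul_apply, (hζ j).1, map_smul, ih, smul_smul, pow_succ']
    rw [hj m, map_smul, Module.Basis.repr_self]
    simp
  have hxi : ∀ i : ℕ, x ^ i * v = (x * v) ^ (α * i + β) := fun i => by
    rw [pow_add, pow_mul, hxα, hvβ]
  rw [Finset.sum_congr rfl fun i _ => by rw [hxi i, hval], Finset.sum_comm, Finset.sum_div]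
  refine IsIntegral.sum _ fun j _ => ?_
  have hint : IsIntegral ℤ (ζ j) := by
    refine IsIntegral.of_pow (Nat.pos_of_ne_zero hne) ?_
    rw [(hζ j).2]
    exact isIntegral_one
  have hw : (ζ j ^ α) ^ p = 1 := by
    have hdvd : p * orderOf v ∣ α * p := by
      rw [mul_comm α p]
      exact Nat.mul_dvd_mul_left p (Nat.modEq_zero_iff_dvd.mp hα0)
    obtain ⟨k, hk⟩ := hdvd
    rw [← pow_mul, hk, pow_mul, (hζ j).2, one_pow]
  simp only [pow_add, pow_mul, ← Finset.sum_mul]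
  by_cases h1 : ζ j ^ α = 1
  · simp only [h1, one_pow, Finset.sum_const, Finset.card_range, nsmul_eq_mul, mul_one]
    rw [mul_div_cancel_left₀ _ (Nat.cast_ne_zero.mpr hp.ne_zero)]
    exact hint.pow β
  · rw [geom_sum_eq h1, hw, sub_self, zero_div, zero_mul, zero_div]
    exact isIntegral_zero

/-- In a perfect group the eigenvalue `-1` of an involution has even multiplicity, twice. -/
theorem exists_int_mod_four [Finite G] (hperf : commutator G = ⊤) (χ : Cfsg.IrrCharacter G)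
    {u : G} (hu : u * u = 1) : ∃ c : ℤ, (χ : G → ℂ) u = c ∧ (4 : ℤ) ∣ deg χ - c ∧
      |c| ≤ deg χ := by
  classical
  obtain ⟨n, ρ, -, hχ⟩ := exists_rep χ
  obtain ⟨ι, hι, b, ζ, hζ, hcard, htr⟩ := Diag.exists_eigenbasis ρ u two_ne_zero (by rw [pow_two, hu])
  have hpm : ∀ i, ζ i = 1 ∨ ζ i = -1 := fun i => sq_eq_one_iff.1 (hζ i).2
  set S : Finset ι := Finset.univ.filter fun i => ζ i = -1 with hS
  have hdeg : deg χ = (Fintype.card ι : ℤ) := by
    have h1 := apply_one_eq χ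
    rw [← hχ, Representation.char_one, ← hcard] at h1
    exact_mod_cast h1.symm
  have hdet : LinearMap.det (ρ u) = 1 := by
    let D : G →* ℂˣ := ((LinearMap.det).comp ρ).toHomUnits
    have hker : commutator G ≤ D.ker := Abelianization.commutator_subset_ker D
    exact congrArg Units.val (hker (hperf ▸ Subgroup.mem_top u))
  have hdiag : LinearMap.toMatrix b b (ρ u) = Matrix.diagonal ζ := by
    ext i j
    rw [LinearMap.toMatrix_apply, (hζ j).1, map_smul, Module.Basis.repr_self, Matrix.diagonal]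
    by_cases h : i = j
    · subst h; simp
    · simp [h, Finsupp.single_apply, Ne.symm h]
  rw [← LinearMap.det_toMatrix b, hdiag, Matrix.det_diagonal,
    ← Finset.prod_filter_mul_prod_filter_not Finset.univ (fun i => ζ i = -1),
    Finset.prod_congr rfl (g := fun _ => (-1 : ℂ)) fun i hi => (Finset.mem_filter.mp hi).2,
    Finset.prod_eq_one (fun i hi => (hpm i).resolve_right (Finset.mem_filter.mp hi).2),
    mul_one, Finset.prod_const, ← hS] at hdet
  obtain ⟨k, hk⟩ : Even S.card := neg_one_pow_eq_one_iff_even (by norm_num) |>.mp hdet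
  refine ⟨(Fintype.card ι : ℤ) - 2 * S.card, ?_, ⟨k, by rw [hdeg, hk]; push_cast; ring⟩, ?_⟩
  · rw [← hχ, htr, Finset.sum_congr rfl (g := fun i => 1 - 2 * if ζ i = -1 then (1 : ℂ) else 0)
      fun i _ => by rcases hpm i with h | h <;> rw [h] <;> norm_num,
      Finset.sum_sub_distrib, ← Finset.mul_sum, Finset.sum_boole]
    simp [hS]
  · have := S.card_le_univ
    rw [hdeg, abs_le]
    omega

end Rep

variable [Finite G] {p : ℕ} [hp : Fact p.Prime] (P : Sylow p G)

/-- The family of a Sylow subgroup of prime order with `|N(P) : C(P)| = e`. -/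
structure Data (e : ℕ) where
  K : Finset (Cfsg.IrrCharacter G)
  a : Cfsg.IrrCharacter G → ℤ
  θ : Cfsg.IrrCharacter G
  δ : ℤ
  card_K : K.card + 1 = e
  one_not_mem : oneChar G ∉ K
  θ_not_mem : θ ∉ K
  θ_ne_one : θ ≠ oneChar G
  a_unit : ∀ χ ∈ K, a χ = 1 ∨ a χ = -1
  δ_unit : δ = 1 ∨ δ = -1
  rel : ∀ g : G, ¬ p ∣ orderOf g →
    1 + ∑ χ ∈ K, (a χ : ℂ) * (χ : G → ℂ) g = (δ : ℂ) * (θ : G → ℂ) g
  value : ∀ χ ∈ K, ∀ y ∈ (P : Subgroup G), y ≠ 1 →
    ∀ v ∈ Subgroup.centralizer ((P : Subgroup G) : Set G), ¬ p ∣ orderOf v →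
      (χ : G → ℂ) (y * v) = (a χ : ℂ)
  /-- The whole exceptional family. -/
  fam : Finset (Cfsg.IrrCharacter G)
  θ_mem : θ ∈ fam
  fam_disj : Disjoint K fam
  fam_one : oneChar G ∉ fam
  fam_card : e * fam.card + 1 = p
  fam_regular : ∀ θ' ∈ fam, ∀ g : G, ¬ p ∣ orderOf g → (θ' : G → ℂ) g = (θ : G → ℂ) g
  fam_singular : Subgroup.centralizer ((P : Subgroup G) : Set G) = P → ∀ g : G, p ∣ orderOf g →
    ∑ θ' ∈ fam, (θ' : G → ℂ) g = -(δ : ℂ)

/-- With a self-centralising `P`, every `p`-singular element is conjugate into `P`. -/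
theorem exists_conj_mem (hP : Nat.card (P : Subgroup G) = p)
    (hC : Subgroup.centralizer ((P : Subgroup G) : Set G) = P) {g : G} (hg : p ∣ orderOf g) :
    ∃ b : G, b * g * b⁻¹ ∈ (P : Subgroup G) ∧ b * g * b⁻¹ ≠ 1 := by
  obtain ⟨k, hk⟩ := hg
  have hk0 : k ≠ 0 := fun h => (orderOf_pos g).ne' (by rw [hk, h, mul_zero])
  have hgk : orderOf (g ^ k) = p := by
    rw [orderOf_pow, hk, Nat.gcd_mul_left_left, Nat.mul_div_cancel _ (Nat.pos_of_ne_zero hk0)]
  have hQ : Nat.card (Subgroup.zpowers (g ^ k)) = p ^ 1 := by rw [Nat.card_zpowers, hgk, pow_one]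
  obtain ⟨Q, hQle⟩ := (IsPGroup.of_card hQ).exists_le_sylow
  obtain ⟨b, hb⟩ := MulAction.exists_smul_eq G Q P
  set g' := b * g * b⁻¹ with hg'
  have hy : g' ^ k ∈ (P : Subgroup G) := by
    rw [hg', conj_pow, ← hb, Sylow.coe_subgroup_smul, Subgroup.mem_pointwise_smul_iff_inv_smul_mem]
    convert hQle (Subgroup.mem_zpowers (g ^ k)) using 1
    rw [MulAut.smul_def, ← map_inv, MulAut.conj_apply]
    group
  have hy1 : g' ^ k ≠ 1 := fun h => by
    rw [hg', conj_pow, conj_eq_one_iff] at h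
    rw [h, orderOf_one] at hgk
    exact hp.out.ne_one hgk.symm
  have hg'P : g' ∈ (P : Subgroup G) := by
    rw [← hC, Subgroup.mem_centralizer_iff]
    intro y hy'
    rw [SetLike.mem_coe, ← PrimeExceptional.zpowers_eq P hP hy hy1] at hy'
    obtain ⟨j, rfl⟩ := Subgroup.mem_zpowers_iff.mp hy'
    exact (((Commute.refl g').pow_left k).zpow_left j).eq
  have hg'1 : g' ≠ 1 := fun h => hy1 (by rw [h, one_pow])
  exact ⟨b, hg'P, hg'1⟩

theorem exists_data (hP : Nat.card (P : Subgroup G) = p) {e : ℕ}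
    (he : (Subgroup.centralizer ((P : Subgroup G) : Set G)).relIndex
      (Subgroup.normalizer ((P : Subgroup G) : Set G)) = e) :
    Nonempty (Data P e) := by
  classical
  obtain ⟨x, hx, hxP⟩ := exists_gen P hP
  have h2 := PrimePrincipal.Setup.not_sq_dvd P hP
  have hxp := pow_eq_one_of_order hx
  obtain ⟨V, hV⟩ := exists_vpart hx h2
  obtain ⟨n, -, hidx⟩ := exists_fpf hx hxP
  obtain rfl : e = Nat.card (autE hxp) := he ▸ hidx
  haveI := Fintype.ofFinite ((ZMod p)ˣ ⧸ autE hxp)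
  haveI := Fintype.ofFinite (autE hxp)
  obtain ⟨R, Y, a, δ, hYinj, hYR, hδ, h1R, ha1, hRc, hRv, hYv, -, hYreg, hrel⟩ :=
    exists_family hx h2 hV
  have hVmem : ∀ v ∈ Subgroup.centralizer ((P : Subgroup G) : Set G), ¬ p ∣ orderOf v → v ∈ V :=
    fun v hv hv' => (hV v).2 ⟨Subgroup.mem_centralizer_singleton_iff.2
      ((mem_centralizer_iff' hxP).1 hv).eq, hv'⟩
  refine ⟨⟨R.erase (oneChar G), a, Y 1, δ, ?_, Finset.notMem_erase _ _,
    fun h => hYR 1 (Finset.mem_of_mem_erase h), fun h => hYR 1 (h ▸ h1R),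
    fun χ hχ => (hRv χ (Finset.mem_of_mem_erase hχ)).1, hδ, ?_, ?_,
    Finset.univ.image Y, Finset.mem_image_of_mem Y (Finset.mem_univ 1), ?_, ?_, ?_, ?_, ?_⟩⟩
  · rw [Finset.card_erase_add_one h1R, hRc]
  · intro g hg
    rw [← hrel g hg, ← Finset.add_sum_erase _ _ h1R, ha1, oneChar_apply, Int.cast_one, one_mul]
  · intro χ hχ y hy hy1 v hv hv'
    obtain ⟨u, rfl⟩ := exists_unit hx hxP hy hy1
    exact (hRv χ (Finset.mem_of_mem_erase hχ)).2 u v (hVmem v hv hv')
  · rw [Finset.disjoint_left]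
    intro χ hχ hχY
    obtain ⟨q, -, rfl⟩ := Finset.mem_image.1 hχY
    exact hYR q (Finset.mem_of_mem_erase hχ)
  · intro h
    obtain ⟨q, -, hq⟩ := Finset.mem_image.1 h
    exact hYR q (hq ▸ h1R)
  · rw [Finset.card_image_of_injective _ hYinj, Finset.card_univ, Nat.card_eq_fintype_card,
      mul_comm, card_mul_card]
    have := hp.out.one_le
    omega
  · intro θ' hθ' g hg
    obtain ⟨q, -, rfl⟩ := Finset.mem_image.1 hθ'
    exact hYreg q g hg
  · intro hC g hg
    obtain ⟨b, hg'P, hg'1⟩ := exists_conj_mem P hP hC hg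
    set g' := b * g * b⁻¹ with hg'
    obtain ⟨u, hu⟩ := exists_unit hx hxP hg'P hg'1
    have hcl : ∀ θ' : Cfsg.IrrCharacter G, (θ' : G → ℂ) g = (θ' : G → ℂ) g' := fun θ' =>
      (isClassFunction_irr θ' g b).symm
    have hv : ∀ q, (Y q : G → ℂ) g = δ * eta (autE hxp) (q * QuotientGroup.mk u) := by
      intro q
      have h := hYv q u 1 (one_mem V)
      rw [mul_one, ← hu, ← hcl] at h
      exact h
    rw [Finset.sum_image hYinj.injOn, Finset.sum_congr rfl fun q _ => hv q, ← Finset.mul_sum,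
      sum_eta_shift, mul_neg, mul_one]

namespace Data

variable {P} {e : ℕ} (D : Data P e)

theorem fam_pos : 0 < D.fam.card := Finset.card_pos.mpr ⟨_, D.θ_mem⟩

theorem fam_deg (θ' : Cfsg.IrrCharacter G) (h : θ' ∈ D.fam) : deg θ' = deg D.θ := by
  have h1 := D.fam_regular θ' h 1 (by rw [orderOf_one]; simpa using hp.out.ne_one)
  rw [apply_one_eq, apply_one_eq] at h1
  exact_mod_cast h1

theorem degree_eq : 1 + ∑ χ ∈ D.K, D.a χ * deg χ = D.δ * deg D.θ := by
  have h := D.rel 1 (by rw [orderOf_one]; simpa using hp.out.ne_one)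
  simp only [apply_one_eq] at h
  exact_mod_cast h

/-- A value on the centraliser of `P` is congruent to `a` modulo `p`. -/
theorem value_cong (hP : Nat.card (P : Subgroup G) = p) {χ : Cfsg.IrrCharacter G} (hχ : χ ∈ D.K)
    {v : G} (hv : v ∈ Subgroup.centralizer ((P : Subgroup G) : Set G)) (hv' : ¬ p ∣ orderOf v) :
    IsIntegral ℤ (((χ : G → ℂ) v - (D.a χ : ℂ)) / (p : ℂ)) := by
  obtain ⟨x, hx, hxP⟩ := exists_gen P hP
  have hxm : x ∈ (P : Subgroup G) := hxP ▸ Subgroup.mem_zpowers x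
  have hint := isIntegral_avg hp.out χ (pow_eq_one_of_order hx) hv'
    (Subgroup.mem_centralizer_iff.mp hv x hxm)
  obtain ⟨m, hm⟩ : ∃ m, p = m + 1 := ⟨p - 1, by have := hp.out.one_le; omega⟩
  have hsum : ∑ i ∈ Finset.range p, (χ : G → ℂ) (x ^ i * v) =
      (χ : G → ℂ) v + (m : ℂ) * (D.a χ : ℂ) := by
    rw [congrArg Finset.range hm, Finset.sum_range_succ', pow_zero, one_mul, add_comm,
      Finset.sum_congr rfl (g := fun _ => (D.a χ : ℂ)) fun i hi => ?_, Finset.sum_const,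
      Finset.card_range, nsmul_eq_mul]
    refine D.value χ hχ _ (pow_mem hxm _) ?_ v hv hv'
    exact pow_ne_one_of_lt_orderOf (Nat.succ_ne_zero i) (by
      rw [hx]; have := Finset.mem_range.mp hi; omega)
  rw [hsum] at hint
  have hp0 : (p : ℂ) ≠ 0 := Nat.cast_ne_zero.mpr hp.out.ne_zero
  have key : ((χ : G → ℂ) v - (D.a χ : ℂ)) / (p : ℂ) =
      ((χ : G → ℂ) v + (m : ℂ) * (D.a χ : ℂ)) / (p : ℂ) - (D.a χ : ℂ) := by
    field_simp
    have : (p : ℂ) = (m : ℂ) + 1 := by exact_mod_cast hm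
    rw [this]
    ring
  rw [key]
  exact hint.sub (by simpa using isIntegral_algebraMap (R := ℤ) (A := ℂ) (x := D.a χ))

theorem deg_cong (hP : Nat.card (P : Subgroup G) = p) {χ : Cfsg.IrrCharacter G} (hχ : χ ∈ D.K) :
    (p : ℤ) ∣ deg χ - D.a χ := by
  have h := D.value_cong hP hχ (one_mem _) (by rw [orderOf_one]; simpa using hp.out.ne_one)
  rw [apply_one_eq, ← Int.cast_sub] at h
  exact int_dvd_of_isIntegral hp.out.ne_zero h

theorem θ_cong (hP : Nat.card (P : Subgroup G) = p) : (p : ℤ) ∣ D.δ * deg D.θ - (e : ℤ) := by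
  have h1 : D.δ * deg D.θ - (e : ℤ) = ∑ χ ∈ D.K, D.a χ * (deg χ - D.a χ) := by
    have h2 : ∑ χ ∈ D.K, D.a χ * (deg χ - D.a χ) = ∑ χ ∈ D.K, (D.a χ * deg χ - 1) :=
      Finset.sum_congr rfl fun χ hχ => by
        rcases D.a_unit χ hχ with h | h <;> rw [h] <;> ring
    rw [← D.degree_eq, h2, Finset.sum_sub_distrib,
      Finset.sum_const, nsmul_one, show (e : ℤ) = D.K.card + 1 by exact_mod_cast D.card_K.symm]
    ring
  rw [h1]
  exact Finset.dvd_sum fun χ hχ => Dvd.dvd.mul_left (D.deg_cong hP hχ) _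

theorem square_sum : 1 + ∑ χ ∈ D.K, deg χ ^ 2 + D.fam.card * deg D.θ ^ 2 ≤ (Nat.card G : ℤ) := by
  classical
  haveI := Fintype.ofFinite G
  haveI := Fintype.ofFinite (Cfsg.IrrCharacter G)
  rw [← PrimeExceptional.sum_deg_sq (G := G),
    show (D.fam.card : ℤ) * deg D.θ ^ 2 = ∑ θ' ∈ D.fam, deg θ' ^ 2 by
      rw [Finset.sum_congr rfl fun θ' h => by rw [D.fam_deg θ' h], Finset.sum_const, nsmul_eq_mul],
    add_assoc, ← Finset.sum_union D.fam_disj]
  calc 1 + ∑ χ ∈ D.K ∪ D.fam, deg χ ^ 2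
      = ∑ χ ∈ insert (oneChar G) (D.K ∪ D.fam), deg χ ^ 2 := by
        rw [Finset.sum_insert (by simp [D.one_not_mem, D.fam_one]), deg_oneChar, one_pow]
    _ ≤ _ := Finset.sum_le_sum_of_subset_of_nonneg (Finset.subset_univ _) fun χ _ _ => sq_nonneg _

theorem two_le (hperf : commutator G = ⊤) : (∀ χ ∈ D.K, 2 ≤ deg χ) ∧ 2 ≤ deg D.θ := by
  haveI := Fintype.ofFinite G
  exact ⟨fun χ hχ => two_le_deg hperf χ fun h => D.one_not_mem (h ▸ hχ),
    two_le_deg hperf D.θ D.θ_ne_one⟩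

theorem centralizer_le {g : G} (hg : ¬ p ∣ orderOf g) (α : Cfsg.IrrCharacter G → ℤ) (β : ℤ)
    (hα : ∀ χ ∈ D.K, (χ : G → ℂ) g = α χ) (hβ : (D.θ : G → ℂ) g = β) :
    1 + ∑ χ ∈ D.K, α χ ^ 2 + D.fam.card * β ^ 2 ≤
      (Nat.card (Subgroup.centralizer ({g} : Set G)) : ℤ) := by
  classical
  haveI := Fintype.ofFinite (Cfsg.IrrCharacter G)
  have h := Complete.sum_irr_mul_conj g g
  rw [if_pos (IsConj.refl g)] at h
  have hre : ∑ χ : Cfsg.IrrCharacter G, Complex.normSq ((χ : G → ℂ) g) =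
      (Nat.card (Subgroup.centralizer ({g} : Set G)) : ℝ) := by
    apply Complex.ofReal_injective
    push_cast
    rw [← h]
    exact Finset.sum_congr rfl fun χ _ => (Complex.mul_conj _).symm
  have hle : ∑ χ ∈ insert (oneChar G) (D.K ∪ D.fam), Complex.normSq ((χ : G → ℂ) g) ≤
      (Nat.card (Subgroup.centralizer ({g} : Set G)) : ℝ) := by
    rw [← hre]
    exact Finset.sum_le_sum_of_subset_of_nonneg (Finset.subset_univ _)
      fun χ _ _ => Complex.normSq_nonneg _
  have hsq : ∀ z : ℤ, Complex.normSq ((z : ℤ) : ℂ) = ((z ^ 2 : ℤ) : ℝ) := fun z => by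
    rw [show ((z : ℤ) : ℂ) = ((z : ℝ) : ℂ) by simp, Complex.normSq_ofReal]
    push_cast; ring
  rw [Finset.sum_insert (by simp [D.one_not_mem, D.fam_one]), oneChar_apply, map_one,
    Finset.sum_union D.fam_disj,
    Finset.sum_congr (s₁ := D.K) rfl (g := fun χ => ((α χ ^ 2 : ℤ) : ℝ)) fun χ hχ => by
      rw [hα χ hχ, hsq],
    Finset.sum_congr (s₁ := D.fam) rfl (g := fun _ => ((β ^ 2 : ℤ) : ℝ)) fun θ' hθ' => by
      rw [D.fam_regular θ' hθ' g hg, hβ, hsq],
    Finset.sum_const, nsmul_eq_mul] at hle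
  rw [add_assoc]
  exact_mod_cast hle

end Data

end Cfsg.Agent.Lib.Classif.FirstPowerData
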