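import Cfsg.Agent.Lib.Classif.SmallOrderKills
import Cfsg.Agent.Lib.Classif.FixedSylow
import Cfsg.Agent.Lib.Classif.PrimeExceptional

/-!
Tools to exclude orders between 1440 and 5760: Sylow numbers, the fixed-point parity criterion for
involutions centralising a Sylow subgroup of prime order, semiregular centralisers, signed degrees.
-/

set_option autoImplicit false
set_option linter.style.haveILetI false
set_option linter.unusedSectionVars false

namespace Cfsg.Agent.Lib.Classif.SmallOrderKills3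

open Cfsg.Agent.Lib.SmallGroups Cfsg.Agent.Lib.Classif.SmallOrderTools
  Cfsg.Agent.Lib.Classif.SmallOrderKills Cfsg.Agent.Lib.Classif.PrimeExceptional

variable {G : Type*} [Group G] [Finite G]

theorem not_comm [IsSimpleGroup G] {g : ℕ} (h : Nat.card G = g) (hg : ¬ g.Prime) :
    ¬ IsMulCommutative G := Sylow.not_comm_of_card (h ▸ hg)

section Prime

variable [IsSimpleGroup G] (hG : ¬ IsMulCommutative G) {p : ℕ} [hp : Fact p.Prime]

include hG

/-- Orders attached to a Sylow subgroup of prime order. -/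
theorem prime_data {g m : ℕ} (h : Nat.card G = g) (hgm : g = p * m) (hm : m % p ≠ 0) (hm1 : m ≠ 1) :
    Nat.card (Sylow p G) ∈ OrderSieve.adm g p 1 m ∧ ∀ P : Sylow p G,
      Nat.card (P : Subgroup G) = p ∧ ∃ e c : ℕ, e ∣ p - 1 ∧ 1 < e ∧ p ∣ c ∧
        Nat.card (Subgroup.centralizer ((P : Subgroup G) : Set G)) = c ∧
        Nat.card (Subgroup.normalizer ((P : Subgroup G) : Set G)) = c * e ∧
        c * e * Nat.card (Sylow p G) = g := by
  have h1 : Nat.card G = p ^ 1 * m := by rw [h, hgm, pow_one]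
  have hm' : ¬ p ∣ m := fun hd => hm (Nat.dvd_iff_mod_eq_zero.mp hd)
  refine ⟨h ▸ OrderSieve.mem_adm hG h1 hm' one_ne_zero hm1, fun P => ?_⟩
  have hP : Nat.card (P : Subgroup G) = p := by rw [Sylow.card_sylow_eq P h1 hm', pow_one]
  obtain ⟨e, c, he, he1, hc, hC, hce⟩ := Sylow.exists_normalizer_factor hG P hP
  exact ⟨hP, e, c, he, he1, hc, hC, hce.symm, by
    rw [hce, Sylow.card_normalizer_mul, h]⟩

/-- Fixed points of an element centralising `P`. -/
theorem fixed_facts (P : Sylow p G) (hP : Nat.card (P : Subgroup G) = p) {y : G}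
    (hy : y ∈ Subgroup.centralizer ((P : Subgroup G) : Set G)) (hy1 : y ≠ 1)
    (hn : Nat.card (Sylow p G) ≠ 1) :
    Nat.card {Q : Sylow p G // y • Q = Q} % p = 1 ∧
      Nat.card {Q : Sylow p G // y • Q = Q} < Nat.card (Sylow p G) := by
  refine ⟨card_fixed_sylow_mod P hP y hy, ?_⟩
  obtain ⟨Q, hQ⟩ := not_fix_all hn hy1
  exact Finite.card_subtype_lt hQ

/-- The parity criterion: for every admissible fixed-point number, the classes of involutions of
`C(P)` would all meet `C(P)` in an even number of elements. -/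
def oddBad (g n p c : ℕ) : Bool :=
  (List.range n).all fun f => decide (f % p ≠ 1) || decide ((n - f) % 4 ≠ 0) ||
    (decide (p + n ≤ p * f) && (List.range (c / p)).all fun a => decide (a % 2 = 0) ||
      decide (f * (g / n) % a ≠ 0) || decide (g % (f * (g / n) / a) ≠ 0))

theorem false_of_even_centralizer (hp2 : p ≠ 2) (P : Sylow p G)
    (hP : Nat.card (P : Subgroup G) = p) {g n c : ℕ} (h : Nat.card G = g)
    (hn : Nat.card (Sylow p G) = n) (hn1 : n ≠ 1)
    (hC : Nat.card (Subgroup.centralizer ((P : Subgroup G) : Set G)) = c) (h2 : 2 ∣ c)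
    (hbad : oddBad g n p c = true) : False := by
  set C := Subgroup.centralizer ((P : Subgroup G) : Set G) with hCdef
  obtain ⟨t, htC, ht, hodd⟩ := FixedSylow.exists_odd_class C (hC ▸ h2)
  have ht1 : t ≠ 1 := fun e => by rw [e, orderOf_one] at ht; omega
  obtain ⟨hf1, hf2⟩ := fixed_facts hG P hP htC ht1 (hn ▸ hn1)
  have hf4 := four_dvd_moved (α := Sylow p G) hG t (by rw [← ht, pow_orderOf_eq_one])
  set f := Nat.card {Q : Sylow p G // t • Q = Q} with hf
  set a := Nat.card {u : G // u ∈ C ∧ IsConj t u} with ha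
  have hP2 : ¬ 2 ∣ Nat.card (P : Subgroup G) := by
    rw [hP]
    exact fun hd => hp2 ((Nat.prime_dvd_prime_iff_eq Nat.prime_two hp.out).mp hd).symm
  have hPC : (P : Subgroup G) ≤ C := by
    intro x hx
    rw [hCdef, Subgroup.mem_centralizer_iff]
    intro y hy
    haveI := isCyclic_of_prime_card hP
    exact congrArg Subtype.val
      ((IsCyclic.commGroup (α := (P : Subgroup G))).mul_comm ⟨y, hy⟩ ⟨x, hx⟩)
  have hale : a + 1 ≤ c / p := by
    rw [Nat.le_div_iff_mul_le hp.out.pos, ← hC, ← hP]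
    exact FixedSylow.card_conj_le C P hPC hP2
      (fun z hz x hx => (Subgroup.mem_centralizer_iff.mp hx z hz)) ht
  simp only [oddBad, List.all_eq_true, List.mem_range, Bool.or_eq_true, Bool.and_eq_true,
    decide_eq_true_eq] at hbad
  rcases hbad f (hn ▸ hf2) with (h' | h') | ⟨hbig, hall⟩
  · exact h' hf1
  · rw [hn] at hf4
    exact h' (Nat.dvd_iff_mod_eq_zero.mp hf4)
  · rw [← hn] at hbig
    have hkey := FixedSylow.card_fixed_involution P hP hp2 ht hbig
    rw [← hf, ← hCdef, ← ha] at hkey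
    have hN : Nat.card (Subgroup.normalizer ((P : Subgroup G) : Set G)) = g / n := by
      rw [← h, ← Sylow.card_normalizer_mul P, hn, Nat.mul_div_cancel _ (Nat.pos_of_ne_zero (by
        rw [← hn]; exact Nat.card_pos.ne'))]
    rw [hN] at hkey
    have hapos : 0 < a := by
      haveI : Nonempty {u : G // u ∈ C ∧ IsConj t u} := ⟨⟨t, htC, IsConj.refl t⟩⟩
      exact Nat.card_pos
    have hd1 : f * (g / n) % a = 0 := by rw [hkey]; exact Nat.mul_mod_left _ _
    have hd2 : g % (f * (g / n) / a) = 0 := by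
      rw [hkey, Nat.mul_div_cancel _ hapos, ← h]
      exact Nat.dvd_iff_mod_eq_zero.mp (Subgroup.card_subgroup_dvd_card _)
    rcases hall a (by omega) with (h' | h') | h'
    · exact Nat.not_odd_iff_even.mpr (Nat.even_iff.mpr h') hodd
    · exact h' hd1
    · exact h' hd2

/-- A `q`-subgroup of `C(P)` whose non-trivial elements can only fix `P` acts semiregularly on
the other Sylow subgroups. -/
theorem false_of_semiregular (P : Sylow p G) (hP : Nat.card (P : Subgroup G) = p) {q k c n : ℕ}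
    [hq : Fact q.Prime] (hn : Nat.card (Sylow p G) = n) (hn1 : n ≠ 1)
    (hC : Nat.card (Subgroup.centralizer ((P : Subgroup G) : Set G)) = c) (hk : q ^ k ∣ c)
    (hfix : ∀ f < n, f % p = 1 → f % q = n % q → f = 1) (hnd : ¬ q ^ k ∣ n - 1) : False := by
  classical
  set C := Subgroup.centralizer ((P : Subgroup G) : Set G) with hCdef
  obtain ⟨T, hT⟩ := Sylow.exists_subgroup_card_pow_prime q (G := C) (hC ▸ hk)
  set T' : Subgroup G := T.map C.subtype with hT'
  have hT'c : Nat.card T' = q ^ k := by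
    rw [hT', Nat.card_congr (T.equivMapOfInjective _ C.subtype_injective).symm.toEquiv, hT]
  have hT'C : T' ≤ C := Subgroup.map_subtype_le T
  have hPfix : ∀ x ∈ C, x • P = P := fun x hx => Sylow.smul_eq_iff_mem_normalizer.mpr
    (Sylow.centralizer_le_normalizer _ hx)
  have honly : ∀ y ∈ T', y ≠ 1 → ∀ Q : Sylow p G, y • Q = Q → Q = P := by
    intro y hy hy1 Q hQ
    obtain ⟨h1, h2⟩ := fixed_facts hG P hP (hT'C hy) hy1 (hn ▸ hn1)
    have hyk : y ^ q ^ k = 1 := orderOf_dvd_iff_pow_eq_one.mp (by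
      rw [← Subgroup.orderOf_mk y hy, ← hT'c]; exact orderOf_dvd_natCard _)
    have h3 := card_fixed_commute_modEq (α := Sylow p G) (p := q) 1 y hyk (Commute.one_left y)
    simp only [one_smul, true_and] at h3
    rw [Nat.card_congr (Equiv.subtypeUnivEquiv (p := fun _ : Sylow p G => True) fun _ => trivial),
      hn] at h3
    have h4 := hfix _ (hn ▸ h2) h1 h3.symm
    haveI := (Nat.card_eq_one_iff_unique.mp h4).1
    exact congrArg Subtype.val (Subsingleton.elim
      (⟨Q, hQ⟩ : {Q : Sylow p G // y • Q = Q}) ⟨P, hPfix y (hT'C hy)⟩)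
  apply hnd
  haveI := Fintype.ofFinite (Sylow p G)
  let β := {Q : Sylow p G // Q ≠ P}
  letI : MulAction T' β :=
    { smul := fun y Q => ⟨(y : G) • Q.1, fun he =>
        Q.2 (MulAction.injective (y : G) (he.trans (hPfix y (hT'C y.2)).symm))⟩
      one_smul := fun Q => Subtype.ext (one_smul G Q.1)
      mul_smul := fun a b Q => Subtype.ext (mul_smul (a : G) (b : G) Q.1) }
  have hfree : ∀ Q : β, MulAction.stabilizer T' Q = ⊥ := by
    intro Q
    rw [Subgroup.eq_bot_iff_forall]
    intro y hy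
    by_contra hne
    exact Q.2 (honly y y.2 (fun he => hne (Subtype.ext he)) Q.1
      (congrArg Subtype.val (MulAction.mem_stabilizer_iff.mp hy)))
  haveI : Fintype (MulAction.orbitRel.Quotient T' β) :=
    @Fintype.ofFinite _ (Quotient.finite _)
  have hcard : n - 1 = Nat.card β := by
    rw [← hn, Nat.card_eq_fintype_card, Nat.card_eq_fintype_card, Fintype.card_subtype_compl,
      Fintype.card_subtype_eq]
  rw [hcard, Nat.card_congr (MulAction.selfEquivSigmaOrbits' T' β), Nat.card_sigma]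
  refine Finset.dvd_sum fun ω _ => ?_
  rw [MulAction.orbitRel.Quotient.orbit_eq_orbit_out ω Quotient.out_eq, Nat.card_coe_set_eq,
    ← MulAction.index_stabilizer, hfree, Subgroup.index_bot, hT'c]

/-- Signed degrees when `|N : P| = 2`. -/
theorem exists_signed_two [Fintype G] (P : Sylow p G) (hP : Nat.card (P : Subgroup G) = p)
    (hC : Subgroup.centralizer ((P : Subgroup G) : Set G) = P)
    (hN : Nat.card (Subgroup.normalizer ((P : Subgroup G) : Set G)) = 2 * p) (hp5 : 4 < p) :
    ∃ c : ℤ, (p : ℤ) ∣ c - 1 ∧ 2 ≤ c.natAbs ∧ c.natAbs ∣ Nat.card G ∧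
      2 ≤ (1 + c).natAbs ∧ (1 + c).natAbs ∣ Nat.card G ∧
      1 + c ^ 2 + (((p - 1) / 2 : ℕ) : ℤ) * (1 + c) ^ 2 ≤ (Nat.card G : ℤ) := by
  classical
  obtain ⟨F⟩ := exists_family P hP hC hN (Or.inl rfl) (by omega) (Or.inl rfl)
  haveI := Fintype.ofFinite (Induced.CNFamily.Rep (P : Subgroup G))
  have hperf := Sylow.commutator_eq_top hG
  obtain ⟨χ, hχ⟩ := Finset.card_eq_one.mp (show F.K.card = 1 by have := F.card_K; omega)
  have hχK : χ ∈ F.K := by rw [hχ]; exact Finset.mem_singleton_self _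
  have hd : ∀ ψ : Cfsg.IrrCharacter G, ψ ≠ Cfsg.Agent.Lib.Characters.Basic.oneChar G →
      ∀ s : ℤ, s = 1 ∨ s = -1 → 2 ≤ (s * deg ψ).natAbs ∧ (s * deg ψ).natAbs ∣ Nat.card G := by
    intro ψ hψ s hs
    have h2 := two_le_deg hperf ψ hψ
    have hn : (s * deg ψ).natAbs = (deg ψ).natAbs := by
      rcases hs with rfl | rfl <;> simp
    rw [hn]
    refine ⟨by omega, ?_⟩
    rw [natAbs_deg]
    exact H80.ClassMult.charDegree_dvd_card ψ
  have ht := card_rep P hP hC hN
  haveI : Nonempty (Induced.CNFamily.Rep (P : Subgroup G)) :=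
    (Nat.card_pos_iff.mp (by omega)).1
  let r := Classical.arbitrary (Induced.CNFamily.Rep (P : Subgroup G))
  set c := F.σ χ * deg χ with hc
  have hsum : ∀ r, F.ε r * deg (F.θ r) = -1 - c := fun r => by
    have h := F.degree_sum r
    rw [hχ, Finset.sum_singleton] at h
    linarith
  have h1 := hd χ (fun e => F.one_not_mem (e ▸ hχK)) _ (F.σ_unit χ hχK)
  have h2 := hd (F.θ r) (F.θ_not_mem r).2 _ (F.ε_unit r)
  rw [hsum r, show -1 - c = -(1 + c) by ring, Int.natAbs_neg] at h2
  refine ⟨c, F.cong_K χ hχK, h1.1, h1.2, h2.1, h2.2, ?_⟩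
  have hsq := F.square_sum
  rw [hχ, Finset.sum_singleton, finsum_eq_sum_of_fintype] at hsq
  have e1 : deg χ ^ 2 = c ^ 2 := by
    rcases F.σ_unit χ hχK with hs | hs <;> rw [hc, hs] <;> ring
  have e2 : ∀ r, deg (F.θ r) ^ 2 = (1 + c) ^ 2 := fun r => by
    rw [show (1 + c) ^ 2 = (-1 - c) ^ 2 by ring, ← hsum r]
    rcases F.ε_unit r with hs | hs <;> rw [hs] <;> ring
  rw [e1, Finset.sum_congr rfl fun r _ => e2 r, Finset.sum_const, Finset.card_univ,
    nsmul_eq_mul, ← Nat.card_eq_fintype_card] at hsq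
  rw [show (p - 1) / 2 = Nat.card (Induced.CNFamily.Rep (P : Subgroup G)) by omega]
  exact hsq

end Prime

end Cfsg.Agent.Lib.Classif.SmallOrderKills3
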