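import Cfsg.Agent.Lib.Classif.FirstPowerData
import Cfsg.Agent.Lib.Classif.SmallOrderKills3
import Cfsg.Agent.Lib.Characters.Kernel

/-!
Consequences of `FirstPowerData.Data` in a simple group: faithful characters, values at involutions
and at elements of order three centralising the Sylow subgroup of prime order.
-/

set_option autoImplicit false
set_option linter.style.haveILetI false
set_option linter.unusedSectionVars false

namespace Cfsg.Agent.Lib.Classif.FirstPowerKills

open Cfsg.Agent.Lib.Characters Cfsg.Agent.Lib.Characters.Basic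
open Cfsg.Agent.Lib.Classif.PrimeExceptional (deg apply_one_eq two_le_deg deg_oneChar natAbs_deg)

universe u

variable {G : Type u} [Group G] [Finite G]

/-- A non-trivial irreducible character of a simple group is faithful. -/
theorem apply_ne_deg [IsSimpleGroup G] (hG : ¬ IsMulCommutative G) (χ : Cfsg.IrrCharacter G)
    (hχ : χ ≠ oneChar G) {g : G} (hg : g ≠ 1) : (χ : G → ℂ) g ≠ (deg χ : ℂ) := by
  classical
  haveI := Fintype.ofFinite G
  intro h
  rw [← apply_one_eq] at h
  have hperf := SmallGroups.Sylow.commutator_eq_top hG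
  by_cases hall : ∀ x, (χ : G → ℂ) x = (χ : G → ℂ) 1
  · have h2 := two_le_deg hperf χ hχ
    have hn := classInner_self_irr χ
    rw [Cfsg.classInner, Finset.sum_congr rfl fun x _ => by rw [hall x], Finset.sum_const,
      Finset.card_univ, nsmul_eq_mul, ← Nat.card_eq_fintype_card, ← mul_assoc,
      inv_mul_cancel₀ (Nat.cast_ne_zero.mpr Nat.card_pos.ne'), one_mul,
      conj_apply_one (isCharacter_irr χ), apply_one_eq] at hn
    have : deg χ * deg χ = 1 := by exact_mod_cast hn
    nlinarith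
  · push Not at hall
    obtain ⟨x, hx⟩ := hall
    have hb := Kernel.charKer_eq_bot_of_simple (isCharacter_irr χ) hx
    exact hg (by
      have hm : g ∈ Kernel.charKer (isCharacter_irr χ) := h
      rwa [hb, Subgroup.mem_bot] at hm)

variable {p : ℕ} [hp : Fact p.Prime] {P : Sylow p G} {e : ℕ}

/-- The signed degree of a member of the family. -/
theorem signed_facts (hperf : commutator G = ⊤) (hP : Nat.card (P : Subgroup G) = p)
    (D : FirstPowerData.Data P e) {χ : Cfsg.IrrCharacter G} (hχ : χ ∈ D.K) :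
    (p : ℤ) ∣ D.a χ * deg χ - 1 ∧ 2 ≤ (D.a χ * deg χ).natAbs ∧
      (D.a χ * deg χ).natAbs ∣ Nat.card G ∧ (D.a χ * deg χ) ^ 2 = deg χ ^ 2 := by
  haveI := Fintype.ofFinite G
  have h2 := (D.two_le hperf).1 χ hχ
  have hd : (deg χ).natAbs ∣ Nat.card G := by
    rw [natAbs_deg]; exact H80.ClassMult.charDegree_dvd_card χ
  have hc := D.deg_cong hP hχ
  rcases D.a_unit χ hχ with h | h <;> rw [h] at hc ⊢
  · exact ⟨by simpa using hc, by simp; omega, by simpa using hd, by ring⟩
  · refine ⟨?_, by simp; omega, by simpa using hd, by ring⟩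
    have := hc.neg_right
    simpa [sub_eq_add_neg, add_comm] using this

/-- The degree of the exceptional representative. -/
theorem theta_facts (hperf : commutator G = ⊤) (D : FirstPowerData.Data P e) {S : ℤ}
    (hS : ∑ χ ∈ D.K, D.a χ * deg χ = S) :
    deg D.θ = ((1 + S).natAbs : ℤ) ∧ 2 ≤ (1 + S).natAbs ∧ (1 + S).natAbs ∣ Nat.card G ∧
      deg D.θ ^ 2 = (1 + S) ^ 2 := by
  haveI := Fintype.ofFinite G
  have h := D.degree_eq
  rw [hS] at h
  have h2 := (D.two_le hperf).2
  have hd : (deg D.θ).natAbs ∣ Nat.card G := by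
    rw [natAbs_deg]; exact H80.ClassMult.charDegree_dvd_card _
  have hn : (1 + S).natAbs = (deg D.θ).natAbs := by
    rcases D.δ_unit with h' | h' <;> rw [h, h'] <;> simp
  rw [hn]
  refine ⟨by omega, by omega, hd, ?_⟩
  rcases D.δ_unit with h' | h' <;> rw [h, h'] <;> ring

/-- The value at an involution centralising `P`. -/
theorem involution_value [IsSimpleGroup G] (hG : ¬ IsMulCommutative G) (hp2 : p ≠ 2)
    (hP : Nat.card (P : Subgroup G) = p) (D : FirstPowerData.Data P e) {χ : Cfsg.IrrCharacter G}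
    (hχ : χ ∈ D.K) {v : G} (hv : v ∈ Subgroup.centralizer ((P : Subgroup G) : Set G))
    (hv2 : orderOf v = 2) :
    ∃ x : ℤ, (χ : G → ℂ) v = x ∧ (p : ℤ) ∣ x - D.a χ ∧ (4 : ℤ) ∣ deg χ - x ∧
      -deg χ ≤ x ∧ x < deg χ := by
  obtain ⟨x, hx, h4, habs⟩ := FirstPowerData.exists_int_mod_four
    (SmallGroups.Sylow.commutator_eq_top hG) χ
    (show v * v = 1 by rw [← pow_two, ← hv2, pow_orderOf_eq_one])
  have hv' : ¬ p ∣ orderOf v := by
    rw [hv2]
    exact fun hd => hp2 ((Nat.prime_dvd_prime_iff_eq hp.out Nat.prime_two).mp hd)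
  have h := D.value_cong hP hχ hv hv'
  rw [hx, ← Int.cast_sub] at h
  have hne : x ≠ deg χ := fun he => apply_ne_deg hG χ (fun h1 => D.one_not_mem (h1 ▸ hχ))
    (g := v) (fun h1 => by rw [h1, orderOf_one] at hv2; omega) (by rw [hx, he])
  rw [abs_le] at habs
  exact ⟨x, hx, FirstPowerData.int_dvd_of_isIntegral hp.out.ne_zero h, h4, habs.1,
    lt_of_le_of_ne habs.2 hne⟩

/-- The value at an element of order three centralising `P`, by multiplicities of eigenvalues. -/
theorem order_three_value [IsSimpleGroup G] (hG : ¬ IsMulCommutative G) (hp3 : p ≠ 3)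
    (hP : Nat.card (P : Subgroup G) = p) (D : FirstPowerData.Data P e) {χ : Cfsg.IrrCharacter G}
    (hχ : χ ∈ D.K) {v : G} (hv : v ∈ Subgroup.centralizer ((P : Subgroup G) : Set G))
    (hv3 : orderOf v = 3) :
    ∃ m₀ m₁ m₂ : ℕ, (deg χ = (m₀ : ℤ) + m₁ + m₂) ∧ 0 < m₁ + m₂ ∧
      (3 : ℤ) ∣ (m₁ : ℤ) - m₂ ∧ (p : ℤ) ∣ ((m₁ : ℤ) - m₂) ^ 2 * 3 ∧
      (p : ℤ) ∣ 2 * (m₀ : ℤ) - m₁ - m₂ - 2 * D.a χ := by
  classical
  obtain ⟨n, ρ, -, hχρ⟩ := exists_rep χ
  obtain ⟨ι, hι, b, ζ, hζ, hcard, htr⟩ :=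
    Diag.exists_eigenbasis ρ v three_ne_zero (by rw [← hv3, pow_orderOf_eq_one])
  set ω : ℂ := Complex.exp (2 * Real.pi * Complex.I / (3 : ℕ)) with hω
  have hprim : IsPrimitiveRoot ω 3 := Complex.isPrimitiveRoot_exp 3 three_ne_zero
  have hω3 : ω ^ 3 = 1 := hprim.pow_eq_one
  have hω1 : ω ≠ 1 := hprim.ne_one (by norm_num)
  have hsum : ω ^ 2 + ω + 1 = 0 := by
    have h : (ω - 1) * (ω ^ 2 + ω + 1) = 0 := by linear_combination hω3
    exact (mul_eq_zero.mp h).resolve_left (sub_ne_zero.mpr hω1)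
  have hcases : ∀ i, ζ i = 1 ∨ ζ i = ω ∨ ζ i = ω ^ 2 := by
    intro i
    obtain ⟨k, hk, hki⟩ := hprim.eq_pow_of_pow_eq_one (hζ i).2
    interval_cases k
    · left; rw [← hki, pow_zero]
    · right; left; rw [← hki, pow_one]
    · right; right; rw [← hki]
  have hω2 : ω ^ 2 ≠ 1 := fun h => hω1 (by rw [pow_succ, h, one_mul] at hω3; exact hω3)
  have hωω : ω ≠ ω ^ 2 := fun h => hω2 (by
    calc ω ^ 2 = ω * ω := pow_two ω
      _ = ω * ω ^ 2 := by rw [← h]
      _ = ω ^ 3 := by ring
      _ = 1 := hω3)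
  set A := Finset.univ.filter fun i => ζ i = ω with hA
  set B := Finset.univ.filter fun i => ζ i = ω ^ 2 with hB
  set O := Finset.univ.filter fun i => ζ i = 1 with hO
  have hunion : (O ∪ A) ∪ B = Finset.univ := by
    ext i
    simp only [hO, hA, hB, Finset.mem_union, Finset.mem_filter, Finset.mem_univ, true_and,
      iff_true]
    rcases hcases i with h | h | h <;> tauto
  have hd1 : Disjoint O A := Finset.disjoint_filter.mpr fun i _ h h' => hω1 (h'.symm.trans h)
  have hd2 : Disjoint (O ∪ A) B := by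
    rw [Finset.disjoint_union_left]
    exact ⟨Finset.disjoint_filter.mpr fun i _ h h' => hω2 (h'.symm.trans h),
      Finset.disjoint_filter.mpr fun i _ h h' => hωω (h.symm.trans h')⟩
  have hsplit : ∀ f : ι → ℂ, ∀ (x y z : ℂ), (∀ i ∈ O, f i = x) → (∀ i ∈ A, f i = y) →
      (∀ i ∈ B, f i = z) → ∑ i, f i = O.card * x + A.card * y + B.card * z := by
    intro f x y z hx hy hz
    rw [← hunion, Finset.sum_union hd2, Finset.sum_union hd1, Finset.sum_congr rfl hx,
      Finset.sum_congr rfl hy, Finset.sum_congr rfl hz]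
    simp
  have hdeg : deg χ = (O.card : ℤ) + A.card + B.card := by
    have h1 := hsplit (fun _ => (1 : ℂ)) 1 1 1 (fun _ _ => rfl) (fun _ _ => rfl) (fun _ _ => rfl)
    have h2 := apply_one_eq χ
    rw [← hχρ, Representation.char_one, ← hcard] at h2
    simp only [Finset.sum_const, Finset.card_univ, nsmul_one, mul_one] at h1
    rw [h1] at h2
    exact_mod_cast h2.symm
  have hval : (χ : G → ℂ) v = (O.card : ℂ) + A.card * ω + B.card * ω ^ 2 := by
    rw [← hχρ, htr, hsplit ζ 1 ω (ω ^ 2) (fun i hi => (Finset.mem_filter.mp hi).2)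
      (fun i hi => (Finset.mem_filter.mp hi).2) (fun i hi => (Finset.mem_filter.mp hi).2), mul_one]
  have hdet : LinearMap.det (ρ v) = 1 := by
    let M : G →* ℂˣ := ((LinearMap.det).comp ρ).toHomUnits
    have hker : commutator G ≤ M.ker := Abelianization.commutator_subset_ker M
    exact congrArg Units.val (hker (SmallGroups.Sylow.commutator_eq_top hG ▸ Subgroup.mem_top v))
  have hdiag : LinearMap.toMatrix b b (ρ v) = Matrix.diagonal ζ := by
    ext i j
    rw [LinearMap.toMatrix_apply, (hζ j).1, map_smul, Module.Basis.repr_self, Matrix.diagonal]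
    by_cases h : i = j
    · subst h; simp
    · simp [h, Finsupp.single_apply, Ne.symm h]
  rw [← LinearMap.det_toMatrix b, hdiag, Matrix.det_diagonal, ← hunion, Finset.prod_union hd2,
    Finset.prod_union hd1,
    Finset.prod_congr (s₁ := O) rfl (g := fun _ => (1 : ℂ)) (fun i hi => (Finset.mem_filter.mp hi).2),
    Finset.prod_congr (s₁ := A) rfl (g := fun _ => ω) (fun i hi => (Finset.mem_filter.mp hi).2),
    Finset.prod_congr (s₁ := B) rfl (g := fun _ => ω ^ 2) (fun i hi => (Finset.mem_filter.mp hi).2),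
    Finset.prod_const, Finset.prod_const, Finset.prod_const, one_pow, one_mul, ← pow_mul,
    ← pow_add, hprim.pow_eq_one_iff_dvd] at hdet
  have h3 : ¬ p ∣ orderOf v := by
    rw [hv3]
    exact fun hd => hp3 ((Nat.prime_dvd_prime_iff_eq hp.out Nat.prime_three).mp hd)
  have hint := D.value_cong hP hχ hv h3
  rw [hval] at hint
  set α : ℂ := ((O.card : ℂ) + A.card * ω + B.card * ω ^ 2 - (D.a χ : ℂ)) / (p : ℂ) with hα
  have hint2 : IsIntegral ℤ ((starRingEnd ℂ) α) := hint.map (starRingEnd ℂ).toIntAlgHom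
  have hcω : (starRingEnd ℂ) ω = ω ^ 2 := by
    rw [Diag.conj_eq_inv_of_pow three_ne_zero hω3]
    exact inv_eq_of_mul_eq_one_right (by rw [← pow_succ', hω3])
  have hcω2 : (starRingEnd ℂ) (ω ^ 2) = ω := by
    rw [map_pow, hcω, ← pow_mul, show 2 * 2 = 3 + 1 by norm_num, pow_add, hω3, one_mul, pow_one]
  have hconj : (starRingEnd ℂ) α =
      ((O.card : ℂ) + A.card * ω ^ 2 + B.card * ω - (D.a χ : ℂ)) / (p : ℂ) := by
    simp only [hα, map_div₀, map_sub, map_add, map_mul, map_natCast, map_intCast, hcω, hcω2]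
  have hp0 : (p : ℂ) ≠ 0 := Nat.cast_ne_zero.mpr hp.out.ne_zero
  refine ⟨O.card, A.card, B.card, hdeg, ?_, ?_, ?_, ?_⟩
  · by_contra hc
    push Not at hc
    refine apply_ne_deg hG χ (fun h1 => D.one_not_mem (h1 ▸ hχ)) (g := v)
      (fun h1 => by rw [h1, orderOf_one] at hv3; omega) ?_
    rw [hval, show A.card = 0 by omega, show B.card = 0 by omega, hdeg,
      show A.card = 0 by omega, show B.card = 0 by omega]
    simp
  · obtain ⟨k, hk⟩ := hdet
    exact ⟨(k : ℤ) - B.card, by omega⟩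
  · refine FirstPowerData.int_dvd_of_isIntegral hp.out.ne_zero ?_
    have h := ((hint.sub hint2).mul (hint.sub hint2)).mul
      (isIntegral_algebraMap (R := ℤ) (A := ℂ) (x := -(p : ℤ)))
    rw [show algebraMap ℤ ℂ (-(p : ℤ)) = -(p : ℂ) by simp, hconj] at h
    have e : (((((A.card : ℤ) - B.card) ^ 2 * 3 : ℤ)) : ℂ) / (p : ℂ) =
        (α - ((O.card : ℂ) + A.card * ω ^ 2 + B.card * ω - (D.a χ : ℂ)) / (p : ℂ)) *
        (α - ((O.card : ℂ) + A.card * ω ^ 2 + B.card * ω - (D.a χ : ℂ)) / (p : ℂ)) *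
          -(p : ℂ) := by
      rw [hα]
      push_cast
      field_simp
      linear_combination ((A.card : ℂ) - B.card) ^ 2 * (ω ^ 2 - 3 * ω + 3) * hsum
    rw [e]
    exact h
  · refine FirstPowerData.int_dvd_of_isIntegral hp.out.ne_zero ?_
    have h := hint.add hint2
    rw [hconj] at h
    have e : ((2 * (O.card : ℤ) - A.card - B.card - 2 * D.a χ : ℤ) : ℂ) / (p : ℂ) =
        α + ((O.card : ℂ) + A.card * ω ^ 2 + B.card * ω - (D.a χ : ℂ)) / (p : ℂ) := by
      rw [hα]
      push_cast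
      field_simp
      linear_combination -((A.card : ℂ) + B.card) * hsum
    rw [e]
    exact h

/-- The characters of the family have no degree `4`, `6` or `9` when an element of order three
centralises a Sylow `5`-subgroup. -/
theorem deg_big_of_order_three [IsSimpleGroup G] (hG : ¬ IsMulCommutative G) (h5 : p = 5)
    (hP : Nat.card (P : Subgroup G) = p) (D : FirstPowerData.Data P e) {χ : Cfsg.IrrCharacter G}
    (hχ : χ ∈ D.K) {v : G} (hv : v ∈ Subgroup.centralizer ((P : Subgroup G) : Set G))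
    (hv3 : orderOf v = 3) : deg χ ≠ 4 ∧ deg χ ≠ 6 ∧ deg χ ≠ 9 := by
  obtain ⟨m₀, m₁, m₂, hd, hpos, h3, hsq, hre⟩ := order_three_value hG (by omega) hP D hχ hv hv3
  have hc := D.deg_cong hP hχ
  subst h5
  have hd5 : (5 : ℤ) ∣ (m₁ : ℤ) - m₂ := by
    rcases (Nat.prime_iff_prime_int.mp (by norm_num : Nat.Prime 5)).dvd_or_dvd hsq with h | h
    · exact (Nat.prime_iff_prime_int.mp (by norm_num : Nat.Prime 5)).dvd_of_dvd_pow h
    · norm_num at h
  push_cast at hc hre
  rcases D.a_unit χ hχ with h | h <;> rw [h] at hc hre <;> refine ⟨?_, ?_, ?_⟩ <;> intro hf <;>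
    rw [hf] at hd hc <;> omega

end Cfsg.Agent.Lib.Classif.FirstPowerKills
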