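import Cfsg.Prelude.Def_Transfer
import Cfsg.Agent.Lib.Classif.PrimeExceptional
import Cfsg.Agent.Lib.BlocksChars5.Basic
import Cfsg.Agent.Lib.Cores.Basic
import Cfsg.Agent.Lib.Transfer.PResidual
import Cfsg.Agent.Lib.Fusion.Thompson
import Cfsg.Agent.Lib.Involutions.IndexTwo
import Cfsg.Agent.Lib.Involutions.KleinSylow
import Cfsg.Agent.Lib.PGroups.MaximalClass
import Cfsg.Agent.Lib.DihedralCentralizer.FourGroup
import Cfsg.Agent.Lib.H80.LinearChar
import Cfsg.Agent.Lib.Spectrum.SL25Recognition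
import Cfsg.Agent.Lib.ClassSizes.NonAdjacent

/-!
# An involution with centraliser a four group

A finite group with an involution whose centraliser is a four group either has a normal
`2`-complement, or a normal elementary abelian subgroup of order `2` or `4`, or is `A₅`.
The counting step: an involutory automorphism of a perfect group fixes more than two elements.
-/

set_option autoImplicit false
set_option linter.unusedSectionVars false
set_option linter.style.haveILetI false

namespace Cfsg.Agent.Lib.Classif.SelfCentralKlein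

open Cfsg.Agent.Lib.Classif.PrimeExceptional (deg)

universe u

variable {G : Type u} [Group G] [Finite G]

/-- A perfect non-trivial group has fewer than a quarter as many classes as elements. -/
theorem four_mul_classes_lt {M : Type u} [Group M] [Finite M] [Nontrivial M]
    (hperf : commutator M = ⊤) : 4 * Nat.card (ConjClasses M) < Nat.card M := by
  classical
  letI := Fintype.ofFinite M
  letI := Fintype.ofFinite (Cfsg.IrrCharacter M)
  by_contra hle
  rw [not_lt, ← Characters.Complete.card_irr_eq_card_conjClasses,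
    Nat.card_eq_fintype_card (α := Cfsg.IrrCharacter M)] at hle
  have hsum := PrimeExceptional.sum_deg_sq (G := M)
  rw [← Finset.add_sum_erase _ _ (Finset.mem_univ (Characters.Basic.oneChar M)),
    PrimeExceptional.deg_oneChar] at hsum
  set E := Finset.univ.erase (Characters.Basic.oneChar M) with hE
  have hcard : E.card + 1 = Fintype.card (Cfsg.IrrCharacter M) :=
    Finset.card_erase_add_one (Finset.mem_univ _)
  have hle' : (Nat.card M : ℤ) ≤ 4 * ((E.card : ℤ) + 1) := by
    rw [← hcard] at hle; exact_mod_cast hle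
  have h2 : ∀ χ ∈ E, 2 ≤ deg χ := fun χ hχ =>
    PrimeExceptional.two_le_deg hperf χ (Finset.ne_of_mem_erase hχ)
  have hall : ∀ χ ∈ E, deg χ = 2 := by
    intro χ hχ
    by_contra hne
    have h3 : 3 ≤ deg χ := by have := h2 χ hχ; omega
    have hrest : 4 * ((E.card : ℤ) - 1) ≤ ∑ ψ ∈ E.erase χ, deg ψ ^ 2 := by
      have h := Finset.card_nsmul_le_sum (E.erase χ) (fun ψ => deg ψ ^ 2) 4
        (fun ψ hψ => by nlinarith [h2 ψ (Finset.mem_of_mem_erase hψ)])
      have hc : ((E.erase χ).card : ℤ) + 1 = E.card := by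
        exact_mod_cast Finset.card_erase_add_one hχ
      rw [nsmul_eq_mul] at h
      push_cast at h
      linarith
    rw [← Finset.add_sum_erase _ _ hχ] at hsum
    nlinarith
  rw [Finset.sum_congr rfl (g := fun _ => (4 : ℤ)) fun χ hχ => by rw [hall χ hχ]; norm_num,
    Finset.sum_const, nsmul_eq_mul] at hsum
  obtain ⟨χ, hχ⟩ : E.Nonempty := by
    rw [← Finset.card_pos]
    by_contra h0
    have : Nat.card M = 1 := by
      have e : (E.card : ℤ) = 0 := by exact_mod_cast (show E.card = 0 by omega)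
      rw [e] at hsum
      omega
    exact absurd Finite.one_lt_card (by omega : ¬ 1 < Nat.card M)
  have hd := BlocksChars5.Basic.degree_dvd_card χ
  have hχ2 : Cfsg.charDegree (χ : M → ℂ) = 2 := by
    rw [← PrimeExceptional.natAbs_deg, hall χ hχ]; rfl
  rw [hχ2] at hd
  obtain ⟨r, hr⟩ := hd
  rw [hr] at hsum
  push_cast at hsum
  omega

/-- An involutory automorphism of a perfect group fixes at least three elements. -/
theorem three_le_fixed {x : G} (hx : x * x = 1) (R : Subgroup G) [R.Normal]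
    (hperf : commutator R = ⊤) (hne : R ≠ ⊥) :
    3 ≤ Nat.card ↥(R ⊓ Subgroup.centralizer ({x} : Set G)) := by
  classical
  by_contra hlt
  haveI : Nontrivial ↥R := (Subgroup.nontrivial_iff_ne_bot R).2 hne
  letI := Fintype.ofFinite ↥R
  have hxi : x⁻¹ = x := inv_eq_of_mul_eq_one_right hx
  let σ : ↥R → ↥R := fun a => ⟨x * a * x, by
    have h := ‹R.Normal›.conj_mem _ a.2 x
    rwa [hxi] at h⟩
  have hσ : ∀ a : ↥R, (σ a : G) = x * a * x := fun a => rfl
  set S : Finset ↥R := Finset.univ.filter fun a => σ a = a⁻¹ with hS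
  have hmap : ∀ a : ↥R, a * σ a⁻¹ ∈ S := by
    intro a
    refine Finset.mem_filter.2 ⟨Finset.mem_univ _, Subtype.ext ?_⟩
    rw [hσ, Subgroup.coe_mul, hσ, Subgroup.coe_inv, Subgroup.coe_inv, Subgroup.coe_mul, hσ,
      Subgroup.coe_inv]
    simp only [mul_assoc, mul_inv_rev, inv_inv, hxi, hx, mul_one]
  have hfib : ∀ b ∈ S, (Finset.univ.filter fun a : ↥R => a * σ a⁻¹ = b).card ≤ 2 := by
    intro b _
    rcases (Finset.univ.filter fun a : ↥R => a * σ a⁻¹ = b).eq_empty_or_nonempty with h0 | ⟨a₀, ha₀⟩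
    · rw [h0]; simp
    have hmem : ∀ a : {a : ↥R // a * σ a⁻¹ = b},
        ((a₀⁻¹ * a.1 : ↥R) : G) ∈ R ⊓ Subgroup.centralizer ({x} : Set G) := by
      intro a
      refine Subgroup.mem_inf.2 ⟨(a₀⁻¹ * a.1).2, Subgroup.mem_centralizer_singleton_iff.2 ?_⟩
      have h := congrArg Subtype.val (a.2.trans (Finset.mem_filter.1 ha₀).2.symm)
      simp only [Subgroup.coe_mul, hσ, Subgroup.coe_inv] at h ⊢
      calc (a₀ : G)⁻¹ * a.1 * x
          = (a₀ : G)⁻¹ * ((a.1 : G) * (x * (a.1 : G)⁻¹ * x)) * (x⁻¹ * a.1) := by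
            group
        _ = (a₀ : G)⁻¹ * ((a₀ : G) * (x * (a₀ : G)⁻¹ * x)) * (x⁻¹ * a.1) := by rw [h]
        _ = x * ((a₀ : G)⁻¹ * a.1) := by group
    have hle : Nat.card {a : ↥R // a * σ a⁻¹ = b} ≤
        Nat.card ↥(R ⊓ Subgroup.centralizer ({x} : Set G)) :=
      Nat.card_le_card_of_injective (fun a => ⟨_, hmem a⟩) fun a c h => by
        have h' := congrArg Subtype.val h
        simp only [Subgroup.coe_mul, mul_right_inj, SetLike.coe_eq_coe] at h'
        exact Subtype.ext h'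
    rw [← Fintype.card_subtype, ← Nat.card_eq_fintype_card]
    omega
  have hhalf : Nat.card ↥R ≤ 2 * S.card := by
    rw [Nat.card_eq_fintype_card, ← Finset.card_univ]
    exact Finset.card_le_mul_card_image_of_maps_to (fun a _ => hmap a) 2 hfib
  -- pairs of inverted elements against commuting pairs
  haveI : Nonempty ({a : ↥R // a ∈ S} × {a : ↥R // a ∈ S}) :=
    ⟨(⟨_, hmap 1⟩, ⟨_, hmap 1⟩)⟩
  let prod : {a : ↥R // a ∈ S} × {a : ↥R // a ∈ S} → ↥R := fun q => q.1.1 * q.2.1⁻¹
  have hconj : ∀ q, (q.1.1 : G) * (x * (prod q : G) * x) * (q.1.1 : G)⁻¹ = (prod q : G)⁻¹ := by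
    intro q
    have h1 := congrArg Subtype.val (Finset.mem_filter.1 q.1.2).2
    have h2 := congrArg Subtype.val (Finset.mem_filter.1 q.2.2).2
    rw [hσ, Subgroup.coe_inv] at h1 h2
    have h2' : x * (q.2.1 : G)⁻¹ * x = q.2.1 := by
      have := congrArg (fun g : G => g⁻¹) h2
      simpa [mul_assoc, hxi] using this
    simp only [prod, Subgroup.coe_mul, Subgroup.coe_inv, mul_inv_rev, inv_inv]
    calc (q.1.1 : G) * (x * ((q.1.1 : G) * (q.2.1 : G)⁻¹) * x) * (q.1.1 : G)⁻¹
        = (q.1.1 : G) * (x * (q.1.1 : G) * x) * (x * (q.2.1 : G)⁻¹ * x) * (q.1.1 : G)⁻¹ := by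
          simp only [mul_assoc]; rw [← mul_assoc x x, hx, one_mul]
      _ = (q.2.1 : G) * (q.1.1 : G)⁻¹ := by rw [h1, h2', mul_inv_cancel, one_mul]
  have hcomm : ∀ q, Commute (q.1.1 * (Function.invFun prod (prod q)).1.1⁻¹) (prod q) := by
    intro q
    have he : prod (Function.invFun prod (prod q)) = prod q := Function.invFun_eq ⟨q, rfl⟩
    have h1 := hconj q
    have h2 := hconj (Function.invFun prod (prod q))
    rw [he] at h2
    set a : G := (q.1.1 : G)
    set a₀ : G := ((Function.invFun prod (prod q)).1.1 : G)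
    set m : G := (prod q : G)
    apply Subtype.ext
    show a * a₀⁻¹ * m = m * (a * a₀⁻¹)
    have e1 : a⁻¹ * m⁻¹ * a = x * m * x := by rw [← h1]; group
    have e2 : a₀⁻¹ * m⁻¹ * a₀ = x * m * x := by rw [← h2]; group
    have e3 : a₀⁻¹ * m * a₀ = a⁻¹ * m * a := by
      have := congrArg (fun g : G => g⁻¹) (e2.trans e1.symm)
      simpa [mul_assoc] using this
    calc a * a₀⁻¹ * m = a * (a₀⁻¹ * m * a₀) * a₀⁻¹ := by group
      _ = m * (a * a₀⁻¹) := by rw [e3]; group
  have hpairs : S.card * S.card ≤ Nat.card {p : ↥R × ↥R // Commute p.1 p.2} := by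
    calc S.card * S.card = Nat.card ({a : ↥R // a ∈ S} × {a : ↥R // a ∈ S}) := by
          rw [Nat.card_prod, Nat.card_eq_fintype_card, Fintype.card_coe]
      _ ≤ _ := Nat.card_le_card_of_injective (fun q => ⟨(_, prod q), hcomm q⟩) ?_
    intro q q' h
    have h' := congrArg Subtype.val h
    simp only [Prod.mk.injEq] at h'
    rw [h'.2] at h'
    have hfst : q.1.1 = q'.1.1 := mul_right_cancel h'.1
    have hsnd : q.1.1 * q.2.1⁻¹ = q'.1.1 * q'.2.1⁻¹ := by
      have := congrArg (fun p : ↥R × ↥R => p.2) (congrArg Subtype.val h)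
      exact this
    rw [hfst, mul_right_inj, inv_inj] at hsnd
    exact Prod.ext (Subtype.ext hfst) (Subtype.ext hsnd)
  rw [card_comm_eq_card_conjClasses_mul_card] at hpairs
  have h4 := four_mul_classes_lt (M := ↥R) hperf
  have hpos : 0 < Nat.card ↥R := Nat.card_pos
  nlinarith

/-- The normal subgroup of central involutions of a normal subgroup. -/
theorem exists_normal_elementary (O : Subgroup G) [O.Normal] (hp : IsPGroup 2 O) (hne : O ≠ ⊥) :
    ∃ A : Subgroup G, A.Normal ∧ A ≠ ⊥ ∧ Cfsg.IsElementaryAbelian 2 A := by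
  haveI : Fact (Nat.Prime 2) := ⟨Nat.prime_two⟩
  let A : Subgroup G :=
    { carrier := {a | a ∈ O ∧ (∀ o ∈ O, a * o = o * a) ∧ a * a = 1}
      one_mem' := ⟨one_mem _, fun o _ => by simp, one_mul 1⟩
      mul_mem' := by
        rintro a b ⟨ha, hac, ha2⟩ ⟨hb, hbc, hb2⟩
        refine ⟨mul_mem ha hb, fun o ho => by rw [mul_assoc, hbc o ho, ← mul_assoc, hac o ho, mul_assoc], ?_⟩
        rw [mul_assoc, ← mul_assoc b a b, hbc a ha, mul_assoc, hb2, mul_one, ha2]
      inv_mem' := by
        rintro a ⟨ha, hac, ha2⟩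
        rw [inv_eq_of_mul_eq_one_right ha2]; exact ⟨ha, hac, ha2⟩ }
  refine ⟨A, ⟨fun a ha g => ?_⟩, ?_, ?_, ?_⟩
  · obtain ⟨ha, hac, ha2⟩ := ha
    refine ⟨‹O.Normal›.conj_mem _ ha g, fun o ho => ?_, by rw [conj_mul, ha2, mul_one, mul_inv_cancel]⟩
    have h := hac _ (‹O.Normal›.conj_mem _ ho g⁻¹)
    calc g * a * g⁻¹ * o = g * (a * (g⁻¹ * o * g⁻¹⁻¹)) * g⁻¹ := by group
      _ = g * (g⁻¹ * o * g⁻¹⁻¹ * a) * g⁻¹ := by rw [h]
      _ = o * (g * a * g⁻¹) := by group
  · haveI : Nontrivial ↥O := (Subgroup.nontrivial_iff_ne_bot O).2 hne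
    haveI := hp.center_nontrivial
    obtain ⟨n, hn0, hn⟩ := ((hp.to_subgroup (Subgroup.center ↥O)).nontrivial_iff_card).1 inferInstance
    obtain ⟨z, hz⟩ := exists_prime_orderOf_dvd_card' (G := Subgroup.center ↥O) 2
      (by rw [hn]; exact dvd_pow_self 2 hn0.ne')
    intro hA
    have hzA : ((z : ↥O) : G) ∈ A := by
      refine ⟨(z : ↥O).2, fun o ho => ?_, ?_⟩
      · exact (congrArg Subtype.val (Subgroup.mem_center_iff.1 z.2 ⟨o, ho⟩)).symm
      · rw [← Subgroup.coe_mul, ← Subgroup.coe_mul, ← pow_two z, ← hz, pow_orderOf_eq_one]; rfl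
    rw [hA, Subgroup.mem_bot] at hzA
    have : z = 1 := Subtype.ext (Subtype.ext hzA)
    rw [this, orderOf_one] at hz
    omega
  · exact ⟨⟨fun a b => Subtype.ext (a.2.2.1 _ b.2.1)⟩⟩
  · exact fun a ha => by rw [pow_two]; exact ha.2.2

variable {x : G} (hx : orderOf x = 2)
  (hC4 : Nat.card ↥(Subgroup.centralizer ({x} : Set G)) = 4)
  (hCe : ∀ c ∈ Subgroup.centralizer ({x} : Set G), c ^ 2 = 1)

include hx hC4 in
/-- A normal elementary abelian `2`-subgroup has order at most four. -/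
theorem card_elementary_le (A : Subgroup G) [A.Normal] (hA : Cfsg.IsElementaryAbelian 2 A) :
    Nat.card A ≤ 4 := by
  classical
  set C := Subgroup.centralizer ({x} : Set G) with hC
  have hxx : x * x = 1 := by rw [← pow_two, ← hx, pow_orderOf_eq_one]
  have hxi : x⁻¹ = x := inv_eq_of_mul_eq_one_right hxx
  have hcomm : ∀ a ∈ A, ∀ b ∈ A, a * b = b * a := fun a ha b hb =>
    congrArg Subtype.val (hA.1.is_comm.comm ⟨a, ha⟩ ⟨b, hb⟩)
  have hsq : ∀ a ∈ A, a * a = 1 := fun a ha => by rw [← pow_two]; exact hA.2 a ha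
  have hxC : x ∈ C := Subgroup.mem_centralizer_singleton_iff.2 rfl
  by_cases hxA : x ∈ A
  · have hle : A ≤ C := fun a ha => Subgroup.mem_centralizer_singleton_iff.2 (hcomm a ha x hxA)
    calc Nat.card A ≤ Nat.card C := Nat.card_le_card_of_injective _ (Subgroup.inclusion_injective hle)
      _ = 4 := hC4
  have hconjA : ∀ a ∈ A, x * a * x ∈ A := fun a ha => by
    have h := ‹A.Normal›.conj_mem a ha x; rwa [hxi] at h
  let φ : ↥A →* ↥A :=
    { toFun := fun a => ⟨a * (x * a * x), mul_mem a.2 (hconjA a a.2)⟩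
      map_one' := Subtype.ext (by simp [hxx])
      map_mul' := fun a b => Subtype.ext (by
        show (a : G) * b * (x * ((a : G) * b) * x) = a * (x * a * x) * (b * (x * b * x))
        calc (a : G) * b * (x * ((a : G) * b) * x)
            = (a : G) * (b * (x * a * x)) * (x * b * x) := by
              simp only [mul_assoc]; rw [← mul_assoc x x ((b : G) * x), hxx, one_mul]
          _ = _ := by rw [hcomm b b.2 _ (hconjA a a.2)]; simp only [mul_assoc]) }
  set F := (A ⊓ C).subgroupOf A with hF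
  have hrange : φ.range ≤ F := by
    rintro _ ⟨a, rfl⟩
    refine Subgroup.mem_subgroupOf.2 (Subgroup.mem_inf.2 ⟨(φ a).2, ?_⟩)
    rw [Subgroup.mem_centralizer_singleton_iff]
    show (a : G) * (x * a * x) * x = x * (a * (x * a * x))
    have h1 : (a : G) * (x * a * x) * x = a * x * a := by
      simp only [mul_assoc, hxx, mul_one]
    have h2 : x * ((x * (a : G) * x) * a) = a * x * a := by
      simp only [← mul_assoc, hxx, one_mul]
    rw [h1, hcomm a a.2 _ (hconjA a a.2), h2]
  have hker : φ.ker ≤ F := by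
    intro a ha
    refine Subgroup.mem_subgroupOf.2 (Subgroup.mem_inf.2 ⟨a.2, ?_⟩)
    rw [Subgroup.mem_centralizer_singleton_iff]
    have h : (a : G) * (x * a * x) = 1 := congrArg Subtype.val (MonoidHom.mem_ker.1 ha)
    have h' : x * (a : G) * x = a := by
      rw [← inv_eq_of_mul_eq_one_right h, inv_eq_of_mul_eq_one_right (hsq a a.2)]
    calc (a : G) * x = x * a * x * x := by rw [h']
      _ = x * a := by rw [mul_assoc, hxx, mul_one]
  have hFcard : Nat.card F ≤ 2 := by
    rw [hF, Nat.card_congr (Subgroup.subgroupOfEquivOfLe inf_le_left).toEquiv]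
    have hdvd : Nat.card ↥(A ⊓ C) ∣ 4 := hC4 ▸ Subgroup.card_dvd_of_le inf_le_right
    have hne : Nat.card ↥(A ⊓ C) ≠ 4 := fun h4 => hxA (by
      have := Subgroup.eq_of_le_of_card_ge (inf_le_right : A ⊓ C ≤ C) (by rw [h4, hC4])
      exact (Subgroup.mem_inf.1 (this.symm ▸ hxC : x ∈ A ⊓ C)).1)
    have hle := Nat.le_of_dvd (by norm_num) hdvd
    rcases (show Nat.card ↥(A ⊓ C) ≤ 2 ∨ Nat.card ↥(A ⊓ C) = 3 by omega) with h | h
    · exact h
    · rw [h] at hdvd; norm_num at hdvd
  have h1 := Subgroup.card_mul_index φ.ker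
  rw [Subgroup.index_ker] at h1
  have h2 : Nat.card φ.ker ≤ 2 :=
    (Nat.card_le_card_of_injective _ (Subgroup.inclusion_injective hker)).trans hFcard
  have h3 : Nat.card φ.range ≤ 2 :=
    (Nat.card_le_card_of_injective _ (Subgroup.inclusion_injective hrange)).trans hFcard
  calc Nat.card A = Nat.card φ.ker * Nat.card φ.range := h1.symm
    _ ≤ 2 * 2 := Nat.mul_le_mul h2 h3

include hx hC4 in
/-- A solvable group with such an involution and no normal four group or central involution has a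
normal `2`-complement. -/
theorem hasNormalPComplement_of_solvable [Group.IsSolvable G]
    (hne : ∀ E : Subgroup G, E.Normal → Cfsg.IsElementaryAbelian 2 E →
      Nat.card ↥E ≠ 2 ∧ Nat.card ↥E ≠ 4) :
    Cfsg.HasNormalPComplement 2 G := by
  classical
  haveI : Fact (Nat.Prime 2) := ⟨Nat.prime_two⟩
  set C := Subgroup.centralizer ({x} : Set G) with hC
  have hxx : x * x = 1 := by rw [← pow_two, ← hx, pow_orderOf_eq_one]
  have hxi : x⁻¹ = x := inv_eq_of_mul_eq_one_right hxx
  have hcore : Cfsg.pCore 2 G = ⊥ := by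
    by_contra hb
    obtain ⟨A, hAn, hA1, hA⟩ := exists_normal_elementary (Cfsg.pCore 2 G) (Cores.pCore_isPGroup 2) hb
    haveI := hAn
    have hp : IsPGroup 2 A := fun a => ⟨1, Subtype.ext (by rw [pow_one]; exact hA.2 a a.2)⟩
    obtain ⟨k, hk⟩ := IsPGroup.iff_card.1 hp
    have hle := card_elementary_le hx hC4 A hA
    have h1 : 1 < Nat.card A := (Subgroup.one_lt_card_iff_ne_bot A).2 hA1
    obtain ⟨n2, n4⟩ := hne A hAn hA
    rw [hk] at hle h1 n2 n4
    rcases k with _ | _ | _ | k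
    · omega
    · exact n2 rfl
    · exact n4 rfl
    · have : 2 ^ 3 ≤ 2 ^ (k + 3) := Nat.pow_le_pow_right two_pos (by omega)
      omega
  set F := Cfsg.fittingSubgroup G with hF
  have hodd : ¬ 2 ∣ Nat.card F := by
    intro hd
    haveI : Group.IsNilpotent ↥F := Cores.fittingSubgroup_isNilpotent
    let P : Sylow 2 ↥F := default
    haveI hPn : (P : Subgroup ↥F).Normal := inferInstance
    haveI : (P : Subgroup ↥F).Characteristic := P.characteristic_of_normal hPn
    haveI : F.Normal := inferInstance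
    have hle : (P : Subgroup ↥F).map F.subtype ≤ Cfsg.pCore 2 G := Cores.le_pCore (P.2.map _)
    rw [hcore, le_bot_iff, Subgroup.map_eq_bot_iff_of_injective _ F.subtype_injective] at hle
    exact P.ne_bot_of_dvd_card hd hle
  have hinj : ∀ f ∈ F, f * x = x * f → f = 1 := by
    intro f hf hc
    have h1 : orderOf f ∣ Nat.card F := Subgroup.orderOf_dvd_natCard F hf
    have h2 : orderOf f ∣ 4 := hC4 ▸ Subgroup.orderOf_dvd_natCard C
      (Subgroup.mem_centralizer_singleton_iff.2 hc)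
    have hco : Nat.Coprime (Nat.card F) 4 := by
      rw [show (4 : ℕ) = 2 ^ 2 by norm_num]
      exact ((Nat.prime_two.coprime_iff_not_dvd.2 hodd).symm.pow_right 2)
    exact orderOf_eq_one_iff.1 (Nat.eq_one_of_dvd_coprimes hco h1 h2)
  have hinv : ∀ f ∈ F, x * f * x = f⁻¹ := by
    let τ : ↥F → ↥F := fun f => f * ⟨x * (f : G)⁻¹ * x, by
      have h := (inferInstance : F.Normal).conj_mem _ (inv_mem f.2) x; rwa [hxi] at h⟩
    have hτ : Function.Injective τ := by
      intro a b h
      have h' : (a : G) * (x * (a : G)⁻¹ * x) = b * (x * (b : G)⁻¹ * x) := congrArg Subtype.val h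
      have h1 : (b : G)⁻¹ * a * x = x * ((b : G)⁻¹ * a) := by
        calc (b : G)⁻¹ * a * x = (b : G)⁻¹ * ((a : G) * (x * (a : G)⁻¹ * x)) * (x⁻¹ * a) := by
              group
          _ = (b : G)⁻¹ * ((b : G) * (x * (b : G)⁻¹ * x)) * (x⁻¹ * a) := by rw [h']
          _ = x * ((b : G)⁻¹ * a) := by group
      have := hinj _ (mul_mem (inv_mem b.2) a.2) h1
      exact Subtype.ext (inv_mul_eq_one.1 this).symm
    intro f hf
    obtain ⟨a, ha⟩ := (Finite.injective_iff_surjective.1 hτ) ⟨f, hf⟩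
    have ha' : (a : G) * (x * (a : G)⁻¹ * x) = f := congrArg Subtype.val ha
    rw [← ha']
    simp only [mul_assoc, mul_inv_rev, inv_inv, hxi, hxx, mul_one]
  have hFC : ∀ g : G, ∃ f ∈ F, f⁻¹ * g ∈ C := by
    intro g
    set y := g * x * g⁻¹ with hy
    have hyF : ∀ f ∈ F, y * f * y⁻¹ = f⁻¹ := by
      intro f hf
      have h := hinv _ ((inferInstance : F.Normal).conj_mem f hf g⁻¹)
      calc y * f * y⁻¹ = g * (x * (g⁻¹ * f * g⁻¹⁻¹) * x) * g⁻¹ := by rw [hy]; simp [mul_assoc, hxi]
        _ = f⁻¹ := by rw [h]; group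
    have hyx : y * x ∈ F := by
      refine Cores.centralizer_fittingSubgroup_le (Subgroup.mem_centralizer_iff.2 fun f hf => ?_)
      have h1 : x * f * x⁻¹ = f⁻¹ := by rw [hxi]; exact hinv f hf
      have h2 := hyF _ (inv_mem hf)
      rw [inv_inv] at h2
      have h3 : (y * x) * f * (y * x)⁻¹ = f := by
        calc (y * x) * f * (y * x)⁻¹ = y * (x * f * x⁻¹) * y⁻¹ := by group
          _ = f := by rw [h1, h2]
      exact (mul_inv_eq_iff_eq_mul.1 h3).symm
    obtain ⟨t, ht⟩ : Odd (Nat.card F) := Nat.odd_iff.2 (Nat.two_dvd_ne_zero.1 hodd)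
    set c := y * x with hc
    refine ⟨c ^ (t + 1), pow_mem hyx _, ?_⟩
    have hpc : c ^ (t + 1) * c ^ (t + 1) = c := by
      rw [← pow_add, show t + 1 + (t + 1) = Nat.card F + 1 by omega, pow_succ,
        show c ^ Nat.card F = 1 from congrArg Subtype.val (pow_card_eq_one' (x := (⟨c, hyx⟩ : ↥F))),
        one_mul]
    set h := c ^ (t + 1) with hh
    have hhF : h ∈ F := pow_mem hyx _
    have hxh : x * h⁻¹ = h * x := by
      have := hinv h hhF
      calc x * h⁻¹ = x * (x * h * x) := by rw [this]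
        _ = h * x := by rw [← mul_assoc, ← mul_assoc, hxx, one_mul]
    have hyh : y = h * x * h⁻¹ := by
      calc y = c * x := by rw [hc, mul_assoc, hxx, mul_one]
        _ = h * (h * x) := by rw [← mul_assoc, hpc]
        _ = h * x * h⁻¹ := by rw [mul_assoc h x h⁻¹, hxh]
    rw [hC, Subgroup.mem_centralizer_singleton_iff]
    calc h⁻¹ * g * x = h⁻¹ * y * g := by rw [hy]; group
      _ = x * (h⁻¹ * g) := by rw [hyh]; group
  refine Transfer.PResidual.hasNormalPComplement_of_normal (N := F) hodd ?_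
  refine IsPGroup.of_surjective (IsPGroup.of_card (p := 2) (n := 2) (show Nat.card ↥C = 2 ^ 2 by rw [hC4]; norm_num))
    ((QuotientGroup.mk' F).comp C.subtype) fun q => ?_
  obtain ⟨g, rfl⟩ := QuotientGroup.mk'_surjective F q
  obtain ⟨f, hf, hfg⟩ := hFC g
  refine ⟨⟨_, hfg⟩, ?_⟩
  show QuotientGroup.mk' F (f⁻¹ * g) = _
  rw [map_mul, show QuotientGroup.mk' F f⁻¹ = 1 from (QuotientGroup.eq_one_iff _).2 (inv_mem hf),
    one_mul]

include hx hC4 hCe in
/-- In a perfect group the centraliser is a Sylow subgroup. -/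
theorem exists_sylow_eq (hperf : commutator G = ⊤) :
    ∃ Q : Sylow 2 G, (Q : Subgroup G) = Subgroup.centralizer ({x} : Set G) := by
  classical
  haveI : Fact (Nat.Prime 2) := ⟨Nat.prime_two⟩
  set C := Subgroup.centralizer ({x} : Set G) with hC
  have hxC : x ∈ C := Subgroup.mem_centralizer_singleton_iff.2 rfl
  have hCp : IsPGroup 2 C := IsPGroup.of_card (n := 2) (by rw [hC4]; norm_num)
  obtain ⟨Q, hQ⟩ := hCp.exists_le_sylow
  refine ⟨Q, ?_⟩
  by_contra hne
  obtain ⟨n, hn⟩ := IsPGroup.iff_card.1 Q.2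
  have hn3 : 3 ≤ n := by
    by_contra hlt
    exact hne (Subgroup.eq_of_le_of_card_ge hQ (by
      rw [hn, hC4]; calc 2 ^ n ≤ 2 ^ 2 := Nat.pow_le_pow_right two_pos (by omega)
        _ = 4 := by norm_num)).symm
  set A := C.subgroupOf (Q : Subgroup G) with hA
  have hAc : Nat.card A = 2 ^ 2 := by
    rw [hA, Nat.card_congr (Subgroup.subgroupOfEquivOfLe hQ).toEquiv, hC4]; norm_num
  have hAcomm : ∀ a ∈ C, ∀ b ∈ C, a * b = b * a := by
    intro a ha b hb
    have inv : ∀ c ∈ C, c⁻¹ = c := fun c hc =>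
      inv_eq_of_mul_eq_one_right (by rw [← pow_two]; exact hCe c hc)
    calc a * b = (a * b)⁻¹ := (inv _ (mul_mem ha hb)).symm
      _ = b * a := by rw [mul_inv_rev, inv a ha, inv b hb]
  have hcent : Subgroup.centralizer (A : Set ↥(Q : Subgroup G)) = A := by
    refine le_antisymm (fun c hc => ?_) (fun a ha => ?_)
    · have h := Subgroup.mem_centralizer_iff.1 hc ⟨x, hQ hxC⟩ (Subgroup.mem_subgroupOf.2 hxC)
      exact Subgroup.mem_subgroupOf.2
        (Subgroup.mem_centralizer_singleton_iff.2 (congrArg Subtype.val h).symm)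
    · exact Subgroup.mem_centralizer_iff.2 fun b hb =>
        Subtype.ext (hAcomm _ (Subgroup.mem_subgroupOf.1 hb) _ (Subgroup.mem_subgroupOf.1 ha))
  haveI : Group.IsNilpotent ↥(Q : Subgroup G) := Q.2.isNilpotent
  have hcl := PGroups.class_of_self_centralizing_sq n A hn hAc hcent
  have hd := PGroups.index_commutator_of_class n (by omega) hn hcl
  obtain ⟨C₀, hcyc, hC₀⟩ := PGroups.exists_cyclic_index_two n hn3 hn (by rw [hd]; norm_num)
  set M := C₀.map (Q : Subgroup G).subtype with hM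
  have hMQ : M ≤ (Q : Subgroup G) := Subgroup.map_subtype_le _
  have hrel : M.relIndex (Q : Subgroup G) = 2 := by
    rw [Subgroup.relIndex, Subgroup.subgroupOf, hM,
      Subgroup.comap_map_eq_self_of_injective (Q : Subgroup G).subtype_injective, hC₀]
  have hno : ∀ N : Subgroup G, N.index ≠ 2 := by
    intro N hN
    haveI := Subgroup.normal_of_index_eq_two hN
    haveI : IsCyclic (G ⧸ N) := isCyclic_of_prime_card (p := 2) hN
    have hle : commutator G ≤ N := by
      rw [← QuotientGroup.ker_mk' N]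
      refine (Subgroup.map_eq_bot_iff _).1 ?_
      rw [commutator_def, Subgroup.map_commutator, eq_bot_iff, Subgroup.commutator_le]
      exact fun a _ b _ => Subgroup.mem_bot.2
        (commutatorElement_eq_one_iff_mul_comm.2 ((IsCyclic.commGroup (α := G ⧸ N)).mul_comm a b))
    rw [hperf, top_le_iff] at hle
    rw [hle, Subgroup.index_top] at hN
    omega
  obtain ⟨g, hg⟩ := Fusion.Thompson.exists_conj_mem_maximal Q M hMQ hrel hno x hx
  set y := g * x * g⁻¹ with hy
  have hy2 : orderOf y = 2 := by rw [hy, ← MulAut.conj_apply, MulEquiv.orderOf_eq, hx]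
  haveI : C₀.Normal := Subgroup.normal_of_index_eq_two hC₀
  have hcen : (Q : Subgroup G) ≤ Subgroup.centralizer ({y} : Set G) := by
    intro q hq
    obtain ⟨y₀, hy₀, hyy⟩ := Subgroup.mem_map.1 hg
    have hyy' : (y₀ : G) = y := hyy
    set y₁ := (⟨q, hq⟩ : ↥(Q : Subgroup G)) * y₀ * (⟨q, hq⟩ : ↥(Q : Subgroup G))⁻¹ with hy₁
    have h₁ : y₁ ∈ C₀ := ‹C₀.Normal›.conj_mem _ hy₀ _
    have ho0 : orderOf (⟨y₀, hy₀⟩ : C₀) = 2 := by
      rw [Subgroup.orderOf_mk, ← Subgroup.orderOf_coe, hyy', hy2]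
    have ho1 : orderOf (⟨y₁, h₁⟩ : C₀) = 2 := by
      rw [Subgroup.orderOf_mk, hy₁, ← MulAut.conj_apply, MulEquiv.orderOf_eq, ← Subgroup.orderOf_coe,
        hyy', hy2]
    haveI := hcyc
    have h2d : 2 ∣ Nat.card C₀ := by
      have := orderOf_dvd_natCard (⟨y₀, hy₀⟩ : C₀)
      rwa [ho0] at this
    have huniq : Nat.card {c : C₀ // orderOf c = 2} = 1 := by
      letI := Fintype.ofFinite ↥C₀
      rw [Nat.card_eq_fintype_card, Fintype.card_subtype,
        IsCyclic.card_orderOf_eq_totient (by rwa [← Nat.card_eq_fintype_card]), Nat.totient_two]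
    haveI := (Nat.card_eq_one_iff_unique.1 huniq).1
    have he : (⟨y₁, h₁⟩ : C₀) = ⟨y₀, hy₀⟩ :=
      congrArg Subtype.val (Subsingleton.elim (⟨⟨y₁, h₁⟩, ho1⟩ : {c : C₀ // orderOf c = 2}) ⟨_, ho0⟩)
    have he' := congrArg Subtype.val (congrArg Subtype.val he)
    change q * (y₀ : G) * q⁻¹ = y₀ at he'
    rw [hyy'] at he'
    exact Subgroup.mem_centralizer_singleton_iff.2 (mul_inv_eq_iff_eq_mul.1 he')
  have hcard : Nat.card ↥(Subgroup.centralizer ({y} : Set G)) = 4 := by
    rw [← hC4]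
    refine (Nat.card_congr ((MulAut.conj g).toEquiv.subtypeEquiv fun c => ?_)).symm
    simp only [Subgroup.mem_centralizer_singleton_iff, MulEquiv.toEquiv_eq_coe, EquivLike.coe_coe,
      MulAut.conj_apply, hC, hy]
    constructor
    · intro h
      calc g * c * g⁻¹ * (g * x * g⁻¹) = g * (c * x) * g⁻¹ := by group
        _ = g * (x * c) * g⁻¹ := by rw [h]
        _ = g * x * g⁻¹ * (g * c * g⁻¹) := by group
    · intro h
      calc c * x = g⁻¹ * (g * c * g⁻¹ * (g * x * g⁻¹)) * g := by group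
        _ = g⁻¹ * (g * x * g⁻¹ * (g * c * g⁻¹)) * g := by rw [h]
        _ = x * c := by group
  have hle := Nat.card_le_card_of_injective _ (Subgroup.inclusion_injective hcen)
  rw [hn, hcard] at hle
  have : 2 ^ 3 ≤ 2 ^ n := Nat.pow_le_pow_right two_pos hn3
  omega

include hx hC4 hCe in
/-- A perfect group with such an involution has order sixty, and all involutions are fused. -/
theorem perfect_case (hperf : commutator G = ⊤) :
    Nat.card G = 60 ∧ ¬ Group.IsSolvable G ∧
      ∀ s t : G, orderOf s = 2 → orderOf t = 2 → IsConj s t := by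
  classical
  haveI : Fact (Nat.Prime 2) := ⟨Nat.prime_two⟩
  set C := Subgroup.centralizer ({x} : Set G) with hC
  obtain ⟨Q, hQ⟩ := exists_sylow_eq hx hC4 hCe hperf
  have hQ4 : Nat.card (Q : Subgroup G) = 4 := by rw [hQ, hC4]
  have hK : IsKleinFour (Q : Subgroup G) := by
    refine ⟨hQ4, ?_⟩
    haveI : Nontrivial ↥(Q : Subgroup G) := Finite.one_lt_card_iff_nontrivial.1 (by omega)
    refine (Monoid.exponent_eq_prime_iff Nat.prime_two).2 fun g hg => orderOf_eq_prime ?_ hg
    exact Subtype.ext (hCe _ (hQ.le g.2))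
  have hnsolv : ¬ Group.IsSolvable G := by
    intro hs
    haveI : Nontrivial G := ⟨⟨x, 1, fun h => by rw [h, orderOf_one] at hx; omega⟩⟩
    exact (Group.IsSolvable.commutator_lt_top_of_nontrivial G).ne hperf
  have hone : ∀ s t : G, orderOf s = 2 → orderOf t = 2 → IsConj s t := by
    have h1 : Nat.card (Involutions.KleinSylow.InvClasses G) = 1 := by
      refine (Involutions.KleinSylow.card_classes hK).resolve_right fun h3 => ?_
      obtain ⟨N, hN, hc⟩ := (Involutions.KleinSylow.card_classes_eq_three_iff hK).1 h3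
      haveI := hN
      have hcard : Nat.card (G ⧸ N) = 2 ^ 2 := by
        rw [← Subgroup.index_eq_card, hc.symm.index_eq_card, hQ4]; norm_num
      have hab := IsPGroup.isMulCommutative_of_card_eq_prime_sq hcard
      have hmap : (commutator G).map (QuotientGroup.mk' N) = ⊥ := by
        rw [commutator_def, Subgroup.map_commutator, eq_bot_iff, Subgroup.commutator_le]
        exact fun a _ b _ => Subgroup.mem_bot.2
          (commutatorElement_eq_one_iff_mul_comm.2 (hab.is_comm.comm a b))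
      rw [hperf, ← MonoidHom.range_eq_map,
        MonoidHom.range_eq_top.2 (QuotientGroup.mk'_surjective N)] at hmap
      have := congrArg (fun H : Subgroup (G ⧸ N) => Nat.card H) hmap
      simp only [Subgroup.card_top, Subgroup.card_bot, hcard] at this
      omega
    haveI := (Nat.card_eq_one_iff_unique.1 h1).1
    intro s t hs ht
    exact ConjClasses.mk_eq_mk_iff_isConj.1 (congrArg Subtype.val (Subsingleton.elim
      (⟨ConjClasses.mk s, s, hs, rfl⟩ : Involutions.KleinSylow.InvClasses G) ⟨ConjClasses.mk t, t, ht, rfl⟩))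
  refine ⟨?_, hnsolv, hone⟩
  have hxQ : x ∈ (Q : Subgroup G) := hQ ▸ Subgroup.mem_centralizer_singleton_iff.2 rfl
  obtain ⟨f₂, f₃, f₄, ε, ζ₂, ζ₃, ζ₄, hε, hn2, hn3, hn4, hz₂, hz₃, hz₄, p2, p3, p4, d2, d3, d4, hrel,
    hCm, hform⟩ := DihedralCentralizer.FourGroup.order_formula Q hK hx hxQ hone
      (fun a ha _ => hQ ▸ ha)
  have h60 : 60 ≤ Nat.card G := by
    by_contra hlt
    exact hnsolv (Spectrum.isSolvable_of_card_lt_sixty _ rfl (by omega))
  have hm : Nat.card ↥(Cfsg.pPrimeCore 2 ↥C) = 1 := by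
    rw [← hC, hC4] at hCm; omega
  rw [hm, Nat.cast_one, mul_one] at hform
  have hlin : ∀ (χ : Cfsg.IrrCharacter G) (f : ℕ), (χ : G → ℂ) 1 = f →
      (χ : G → ℂ) ≠ (fun _ => 1) → f ≠ 1 := by
    intro χ f hf hne hf1
    refine hne (funext fun g => ?_)
    exact H80.LinearChar.eq_one_of_mem_commutator χ (by rw [hf, hf1, Nat.cast_one])
      (hperf ▸ Subgroup.mem_top g)
  have g2 := hlin _ _ hz₂ hn2
  have g3 := hlin _ _ hz₃ hn3
  have g4 := hlin _ _ hz₄ hn4
  have hG0 : (60 : ℚ) ≤ Nat.card G := by exact_mod_cast h60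
  have q2 : (0 : ℚ) < 1 / f₂ := by positivity
  have hf4 : 3 ≤ f₄ := by omega
  have q4 : (1 : ℚ) / f₄ ≤ 1 / 3 := one_div_le_one_div_of_le (by norm_num) (by exact_mod_cast hf4)
  rcases hε with rfl | rfl
  · exfalso
    have q3 : (0 : ℚ) < 1 / f₃ := by positivity
    push_cast at hform
    nlinarith
  · push_cast at hform
    have hf3 : 3 ≤ f₃ := by omega
    by_cases h33 : f₃ = 3 ∧ f₄ = 3
    · obtain ⟨rfl, rfl⟩ := h33
      obtain rfl : f₂ = 5 := by omega
      norm_num at hform
      have : (Nat.card G : ℚ) = 60 := by linarith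
      exact_mod_cast this
    · exfalso
      have h7 : 7 ≤ f₃ ∨ 7 ≤ f₄ := by omega
      have hD : (8 : ℚ) / 15 < 1 + 1 / f₂ + (-1) / f₃ - 1 / f₄ := by
        have hneg : (-1 : ℚ) / f₃ = -(1 / (f₃ : ℚ)) := by ring
        rw [hneg]
        have q3 : (1 : ℚ) / f₃ ≤ 1 / 3 :=
          one_div_le_one_div_of_le (by norm_num) (by exact_mod_cast hf3)
        by_cases hbig : 11 ≤ f₃ ∨ 11 ≤ f₄
        · rcases hbig with h | h
          · have : (1 : ℚ) / f₃ ≤ 1 / 11 := one_div_le_one_div_of_le (by norm_num) (by exact_mod_cast h)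
            linarith
          · have : (1 : ℚ) / f₄ ≤ 1 / 11 := one_div_le_one_div_of_le (by norm_num) (by exact_mod_cast h)
            linarith
        · have hf : f₃ = 3 ∧ f₄ = 7 ∨ f₃ = 7 ∧ f₄ = 3 ∨ f₃ = 7 ∧ f₄ = 7 := by omega
          rcases hf with ⟨rfl, rfl⟩ | ⟨rfl, rfl⟩ | ⟨rfl, rfl⟩
          · obtain rfl : f₂ = 9 := by omega
            norm_num
          · obtain rfl : f₂ = 9 := by omega
            norm_num
          · obtain rfl : f₂ = 13 := by omega
            norm_num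
      nlinarith

include hx hC4 hCe in
/-- The classification. -/
theorem equiv_alt (hnc : ¬ Cfsg.HasNormalPComplement 2 G)
    (hne : ∀ E : Subgroup G, E.Normal → Cfsg.IsElementaryAbelian 2 E →
      Nat.card ↥E ≠ 2 ∧ Nat.card ↥E ≠ 4) :
    Nonempty (G ≃* ↥(alternatingGroup (Fin 5))) := by
  classical
  haveI : Fact (Nat.Prime 2) := ⟨Nat.prime_two⟩
  set C := Subgroup.centralizer ({x} : Set G) with hC
  have hxx : x * x = 1 := by rw [← pow_two, ← hx, pow_orderOf_eq_one]
  have hns : ¬ Group.IsSolvable G := fun hs =>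
    hnc (hasNormalPComplement_of_solvable hx hC4 hne)
  obtain ⟨R, hRn, hRR, hR1⟩ := ClassSizes.NonAdjacent.exists_perfect_normal hns
  haveI := hRn
  have hperf : commutator R = ⊤ := by
    refine Subgroup.map_injective R.subtype_injective ?_
    rw [commutator_def, Subgroup.map_commutator, ← MonoidHom.range_eq_map, Subgroup.range_subtype,
      hRR]
  have h3 := three_le_fixed hxx R hperf hR1
  rw [← hC] at h3
  have hdvd : Nat.card ↥(R ⊓ C) ∣ 4 := hC4 ▸ Subgroup.card_dvd_of_le inf_le_right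
  have h4 : Nat.card ↥(R ⊓ C) = 4 := by
    have := Nat.le_of_dvd (by norm_num) hdvd
    rcases (show Nat.card ↥(R ⊓ C) = 3 ∨ Nat.card ↥(R ⊓ C) = 4 by omega) with h | h
    · rw [h] at hdvd; norm_num at hdvd
    · exact h
  have hCR : C ≤ R := fun c hc => by
    have := Subgroup.eq_of_le_of_card_ge (inf_le_right : R ⊓ C ≤ C) (by rw [h4, hC4])
    exact (Subgroup.mem_inf.1 (this.symm ▸ hc : c ∈ R ⊓ C)).1
  have hxR : x ∈ R := hCR (Subgroup.mem_centralizer_singleton_iff.2 rfl)
  let y : ↥R := ⟨x, hxR⟩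
  have hy : orderOf y = 2 := by rw [Subgroup.orderOf_mk, hx]
  have hyC : ∀ c : ↥R, c ∈ Subgroup.centralizer ({y} : Set ↥R) ↔ (c : G) ∈ C := fun c => by
    rw [hC, Subgroup.mem_centralizer_singleton_iff, Subgroup.mem_centralizer_singleton_iff,
      ← Subtype.coe_inj]
    rfl
  have hy4 : Nat.card ↥(Subgroup.centralizer ({y} : Set ↥R)) = 4 := by
    rw [← hC4]
    exact Nat.card_congr
      { toFun := fun c => ⟨c.1.1, (hyC c.1).1 c.2⟩
        invFun := fun c => ⟨⟨c.1, hCR c.2⟩, (hyC _).2 c.2⟩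
        left_inv := fun _ => rfl
        right_inv := fun _ => rfl }
  have hye : ∀ c ∈ Subgroup.centralizer ({y} : Set ↥R), c ^ 2 = 1 := fun c hc =>
    Subtype.ext (hCe _ ((hyC c).1 hc))
  obtain ⟨h60, hRns, hone⟩ := perfect_case hy hy4 hye hperf
  obtain ⟨Q, hQ⟩ := exists_sylow_eq hy hy4 hye hperf
  suffices htop : R = ⊤ by
    obtain ⟨e⟩ := Spectrum.nonempty_equiv_a5_of_card_sixty h60 hRns
    exact ⟨((MulEquiv.subgroupCongr htop).trans Subgroup.topEquiv).symm.trans e⟩
  -- Frattini argument and fusion in `R`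
  have hfr := Sylow.normalizer_sup_eq_top Q
  have hmap : (Q : Subgroup ↥R).map R.subtype = C := by
    rw [hQ]; ext c
    constructor
    · rintro ⟨d, hd, rfl⟩; exact (hyC d).1 hd
    · exact fun hc => ⟨⟨c, hCR hc⟩, (hyC _).2 hc, rfl⟩
  rw [hmap] at hfr
  rw [eq_top_iff, ← hfr, sup_le_iff]
  refine ⟨fun g hg => ?_, le_rfl⟩
  have hxC : x ∈ C := Subgroup.mem_centralizer_singleton_iff.2 rfl
  have hgx : g * x * g⁻¹ ∈ C := (Subgroup.mem_normalizer_iff.1 hg x).1 hxC
  have hgo : orderOf (⟨g * x * g⁻¹, hCR hgx⟩ : ↥R) = 2 := by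
    rw [Subgroup.orderOf_mk, ← MulAut.conj_apply, MulEquiv.orderOf_eq, hx]
  obtain ⟨r, hr⟩ := isConj_iff.1 (hone _ y hgo hy)
  have hr' : (r : G) * (g * x * g⁻¹) * (r : G)⁻¹ = x := congrArg Subtype.val hr
  have hrg : (r : G) * g ∈ C := by
    rw [hC, Subgroup.mem_centralizer_singleton_iff]
    calc (r : G) * g * x = (r : G) * (g * x * g⁻¹) * (r : G)⁻¹ * ((r : G) * g) := by group
      _ = x * ((r : G) * g) := by rw [hr']
  have := mul_mem (inv_mem r.2) (hCR hrg)
  rwa [inv_mul_cancel_left] at this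

end Cfsg.Agent.Lib.Classif.SelfCentralKlein
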