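import Cfsg.Agent.Lib.Classif.SmallOrderKills3

/-!
Orders between 1440 and 5760 excluded by a Sylow subgroup of prime order.
-/

set_option autoImplicit false
set_option linter.style.haveILetI false
set_option linter.unusedSectionVars false

namespace Cfsg.Agent.Lib.Classif.SmallOrderKills4

open Cfsg.Agent.Lib.SmallGroups Cfsg.Agent.Lib.Classif.SmallOrderTools
  Cfsg.Agent.Lib.Classif.SmallOrderKills3

variable {G : Type*} [Group G] [Finite G] [IsSimpleGroup G]

/-- A Sylow subgroup of prime order with centraliser of the same order is its own centraliser. -/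
theorem centralizer_eq {p : ℕ} [Fact p.Prime] (P : Sylow p G)
    (hP : Nat.card (P : Subgroup G) = p)
    (hC : Nat.card (Subgroup.centralizer ((P : Subgroup G) : Set G)) = p) :
    Subgroup.centralizer ((P : Subgroup G) : Set G) = P := by
  haveI := isCyclic_of_prime_card hP
  refine (Subgroup.eq_of_le_of_card_ge ?_ (by rw [hC, hP])).symm
  intro x hx
  rw [Subgroup.mem_centralizer_iff]
  intro y hy
  exact congrArg Subtype.val
    ((IsCyclic.commGroup (α := (P : Subgroup G))).mul_comm ⟨y, hy⟩ ⟨x, hx⟩)

theorem card_ne_3648 : Nat.card G ≠ 3648 := by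
  intro h
  haveI : Fintype G := Fintype.ofFinite G
  have hG := not_comm h (by norm_num)
  haveI : Fact (Nat.Prime 19) := ⟨by norm_num⟩
  obtain ⟨hn, hall⟩ := prime_data hG (p := 19) h (m := 192) rfl (by norm_num) (by norm_num)
  obtain ⟨P⟩ := (inferInstance : Nonempty (Sylow 19 G))
  obtain ⟨hP, e, c, he, he1, ⟨k, rfl⟩, hC, hN, hce⟩ := hall P
  rw [show OrderSieve.adm 3648 19 1 192 = [96] by decide +kernel, List.mem_singleton] at hn
  rw [hn] at hce
  have hk : k * e = 2 := by nlinarith
  have : k = 1 ∧ e = 2 := by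
    have := Nat.le_of_dvd two_pos ⟨e, hk.symm⟩
    interval_cases k <;> omega
  obtain ⟨rfl, rfl⟩ := this
  obtain ⟨d, hd, h2, hdvd, h2', hdvd', hsq⟩ := exists_signed_two hG P hP
    (centralizer_eq P hP hC) (by omega) (by norm_num)
  rw [h] at hdvd hdvd' hsq
  norm_num at hd hsq
  have hb : -20 ≤ d ∧ d ≤ 20 := by constructor <;> nlinarith
  obtain ⟨hb1, hb2⟩ := hb
  interval_cases d <;> first | omega | norm_num at *

theorem card_ne_3744 : Nat.card G ≠ 3744 := by
  intro h
  haveI : Fintype G := Fintype.ofFinite G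
  have hG := not_comm h (by norm_num)
  haveI : Fact (Nat.Prime 13) := ⟨by norm_num⟩
  obtain ⟨hn, hall⟩ := prime_data hG (p := 13) h (m := 288) rfl (by norm_num) (by norm_num)
  obtain ⟨P⟩ := (inferInstance : Nonempty (Sylow 13 G))
  obtain ⟨hP, e, c, he, he1, ⟨k, rfl⟩, hC, hN, hce⟩ := hall P
  rw [show OrderSieve.adm 3744 13 1 288 = [144] by decide +kernel, List.mem_singleton] at hn
  rw [hn] at hce
  have hk : k * e = 2 := by nlinarith
  have : k = 1 ∧ e = 2 := by
    have := Nat.le_of_dvd two_pos ⟨e, hk.symm⟩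
    interval_cases k <;> omega
  obtain ⟨rfl, rfl⟩ := this
  obtain ⟨d, hd, h2, hdvd, h2', hdvd', hsq⟩ := exists_signed_two hG P hP
    (centralizer_eq P hP hC) (by omega) (by norm_num)
  rw [h] at hdvd hdvd' hsq
  norm_num at hd hsq
  have hb : -25 ≤ d ∧ d ≤ 25 := by constructor <;> nlinarith
  obtain ⟨hb1, hb2⟩ := hb
  interval_cases d <;> first | omega | norm_num at *

theorem card_ne_1440 : Nat.card G ≠ 1440 := by
  intro h
  have hG := not_comm h (by norm_num)
  haveI : Fact (Nat.Prime 5) := ⟨by norm_num⟩
  haveI : Fact (Nat.Prime 3) := ⟨by norm_num⟩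
  obtain ⟨hn, hall⟩ := prime_data hG (p := 5) h (m := 288) rfl (by norm_num) (by norm_num)
  obtain ⟨P⟩ := (inferInstance : Nonempty (Sylow 5 G))
  obtain ⟨hP, e, c, he, he1, hc, hC, hN, hce⟩ := hall P
  rw [show OrderSieve.adm 1440 5 1 288 = [16, 36] by decide +kernel, List.mem_cons,
    List.mem_singleton] at hn
  have he' := Nat.le_of_dvd (by norm_num) he
  rcases hn with hn | hn <;> rw [hn] at hce
  · interval_cases e <;> norm_num at he <;>
      first
        | omega
        | exact false_of_semiregular hG P hP (q := 3) (k := 2) hn (by norm_num) hC (by omega)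
            (fun f hf h5 h3 => by omega) (by norm_num)
  · have : c = 20 ∨ c = 10 := by interval_cases e <;> norm_num at he <;> omega
    rcases this with rfl | rfl <;>
      exact false_of_even_centralizer hG (by norm_num) P hP h hn (by norm_num) hC (by norm_num)
        (by decide +kernel)

theorem card_ne_2016 : Nat.card G ≠ 2016 := by
  intro h
  have hG := not_comm h (by norm_num)
  haveI : Fact (Nat.Prime 7) := ⟨by norm_num⟩
  haveI : Fact (Nat.Prime 3) := ⟨by norm_num⟩
  obtain ⟨hn, hall⟩ := prime_data hG (p := 7) h (m := 288) rfl (by norm_num) (by norm_num)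
  obtain ⟨P⟩ := (inferInstance : Nonempty (Sylow 7 G))
  obtain ⟨hP, e, c, he, he1, hc, hC, hN, hce⟩ := hall P
  rw [show OrderSieve.adm 2016 7 1 288 = [8, 36] by decide +kernel, List.mem_cons,
    List.mem_singleton] at hn
  have he' := Nat.le_of_dvd (by norm_num) he
  rcases hn with hn | hn <;> rw [hn] at hce
  · interval_cases e <;> norm_num at he <;>
      exact false_of_semiregular hG P hP (q := 3) (k := 1) hn (by norm_num) hC (by omega)
        (fun f hf h5 h3 => by omega) (by norm_num)
  · have : c = 28 := by interval_cases e <;> norm_num at he <;> omega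
    subst this
    exact false_of_even_centralizer hG (by norm_num) P hP h hn (by norm_num) hC (by norm_num)
      (by decide +kernel)

end Cfsg.Agent.Lib.Classif.SmallOrderKills4
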