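import Cfsg.Agent.Lib.Classif.SmallOrderKills2
import Cfsg.Agent.Lib.Classif.SmallOrderKills4
import Cfsg.Agent.Lib.Classif.FirstPowerKills
import Cfsg.Agent.Lib.Classif.ClassSum
import Cfsg.Agent.Lib.Classif.SelfCentralKlein
import Cfsg.Agent.Lib.Involutions.IndexTwo

/-!
# No simple group of order a proper divisor of `175560` divisible by `19`

A decidable criterion `dead g p` disposes of most orders: every admissible number of Sylow
`p`-subgroups leads to a semiregular subgroup of the centraliser, a parity contradiction for an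
involution, or an unsolvable degree relation.
-/

set_option autoImplicit false
set_option linter.style.haveILetI false
set_option linter.unusedSectionVars false

namespace Cfsg.Agent.Lib.Classif.Order175560

open Cfsg.Agent.Lib.SmallGroups Cfsg.Agent.Lib.Classif.SmallOrderTools
  Cfsg.Agent.Lib.Classif.SmallOrderKills3 Cfsg.Agent.Lib.Classif.FirstPowerKills
open Cfsg.Agent.Lib.Classif.PrimeExceptional (deg)

/-- A subgroup of order `q ^ k` of the centraliser would act semiregularly. -/
def semiBad (n p c : ℕ) : Bool :=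
  [(2, 1), (2, 2), (2, 3), (3, 1), (5, 1), (7, 1), (11, 1), (19, 1)].any fun qk : ℕ × ℕ =>
    decide (c % qk.1 ^ qk.2 = 0) && decide ((n - 1) % qk.1 ^ qk.2 ≠ 0) &&
      (List.range n).all fun f =>
        decide (f % p ≠ 1) || decide (f % qk.1 ≠ n % qk.1) || decide (f = 1)

/-- An inverting involution has no admissible number of fixed points. -/
def invBad (n p : ℕ) : Bool :=
  (List.range (n + 1)).all fun f =>
    decide (f = 0) || decide (p + n < p * f + 1) || decide ((n - f) % 4 ≠ 0)

/-- No signed degrees when `|N : C| = 2`; `B` bounds the square root of the order. -/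
def degBad (g p : ℕ) : Bool :=
  (List.range (2 * Nat.sqrt g + 1)).all fun i =>
    let c : ℤ := (i : ℤ) - Nat.sqrt g
    decide ((c - 1) % (p : ℤ) ≠ 0) || decide (c.natAbs < 2) || decide (g % c.natAbs ≠ 0) ||
      decide ((1 + c).natAbs < 2) || decide (g % (1 + c).natAbs ≠ 0) ||
      decide ((g : ℤ) < 1 + c ^ 2 + ((p - 1) / 2 : ℕ) * (1 + c) ^ 2)

/-- One admissible pair `(n, e)` is contradictory. -/
def deadCase (g p n e : ℕ) : Bool :=
  let c := g / (n * e)
  semiBad n p c || (decide (c % 2 = 0) && oddBad g n p c) ||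
    (decide (c % 2 = 1) && decide (e % 2 = 0) && invBad n p) || (decide (e = 2) && degBad g p)

/-- The possible pairs `(n, e)`. -/
def pairs (g p : ℕ) : List (ℕ × ℕ) :=
  (OrderSieve.adm g p 1 (g / p)).flatMap fun n =>
    ((List.range p).filter fun e =>
      decide (1 < e) && decide ((p - 1) % e = 0) && decide (g % (n * e * p) = 0)).map fun e => (n, e)

/-- All admissible pairs are contradictory. -/
def dead (g p : ℕ) : Bool := (pairs g p).all fun ne => deadCase g p ne.1 ne.2

variable {G : Type*} [Group G] [Finite G] [IsSimpleGroup G]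

section Prime

variable (hG : ¬ IsMulCommutative G) {p : ℕ} [hp : Fact p.Prime]

include hG

/-- The data of a Sylow subgroup of prime order, as a member of `pairs`. -/
theorem exists_pair {g : ℕ} (h : Nat.card G = g) (hgp : p ∣ g) (hm : (g / p) % p ≠ 0)
    (hm1 : g / p ≠ 1) (P : Sylow p G) :
    ∃ n e c : ℕ, (n, e) ∈ pairs g p ∧ Nat.card (P : Subgroup G) = p ∧ Nat.card (Sylow p G) = n ∧
      n ≠ 1 ∧ c = g / (n * e) ∧ p ∣ c ∧
      Nat.card (Subgroup.centralizer ((P : Subgroup G) : Set G)) = c ∧
      Nat.card (Subgroup.normalizer ((P : Subgroup G) : Set G)) = c * e ∧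
      (Subgroup.centralizer ((P : Subgroup G) : Set G)).relIndex
        (Subgroup.normalizer ((P : Subgroup G) : Set G)) = e := by
  obtain ⟨hn, hall⟩ := prime_data hG h (Nat.mul_div_cancel' hgp).symm hm hm1
  obtain ⟨hP, e, c, he, he1, hc, hC, hN, hce⟩ := hall P
  have hpos : 0 < Nat.card (Sylow p G) * e := Nat.mul_pos Nat.card_pos (by omega)
  refine ⟨_, e, c, ?_, hP, rfl, ?_, ?_, hc, hC, hN, ?_⟩
  · simp only [pairs, List.mem_flatMap, List.mem_map, List.mem_filter, List.mem_range,
      Bool.and_eq_true, decide_eq_true_eq]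
    refine ⟨_, hn, e, ⟨?_, ⟨he1, Nat.mod_eq_zero_of_dvd he⟩, ?_⟩, rfl⟩
    · have := Nat.le_of_dvd (Nat.sub_pos_of_lt hp.out.one_lt) he
      have := hp.out.two_le
      omega
    · refine Nat.mod_eq_zero_of_dvd ?_
      rw [← hce, mul_comm c e, mul_assoc e c, mul_comm (Nat.card (Sylow p G)) e, mul_assoc e,
        mul_comm c (Nat.card (Sylow p G))]
      exact Nat.mul_dvd_mul_left e (Nat.mul_dvd_mul_left _ hc)
  · simp only [OrderSieve.adm, List.mem_filter, Bool.and_eq_true, decide_eq_true_eq] at hn
    exact hn.2.1.1.1.2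
  · rw [← hce, mul_assoc c e, mul_comm e (Nat.card (Sylow p G)), Nat.mul_div_cancel _ hpos]
  · have h := Sylow.card_centralizer_mul_relIndex (P : Subgroup G)
    rw [hN, hC] at h
    exact Nat.eq_of_mul_eq_mul_left (by rw [← hC]; exact Nat.card_pos) h

/-- With `|N : C| = 2` the signed degrees exist. -/
theorem degBad_false {g : ℕ} (h : Nat.card G = g) (hp2 : p ≠ 2) (P : Sylow p G)
    (hP : Nat.card (P : Subgroup G) = p)
    (he : (Subgroup.centralizer ((P : Subgroup G) : Set G)).relIndex
      (Subgroup.normalizer ((P : Subgroup G) : Set G)) = 2)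
    (hbad : degBad g p = true) : False := by
  classical
  haveI : Fintype G := Fintype.ofFinite G
  have hperf := Sylow.commutator_eq_top hG
  obtain ⟨D⟩ := FirstPowerData.exists_data P hP he
  have hsq := D.square_sum
  have hfam := D.fam_card
  obtain ⟨χ, hχ⟩ := Finset.card_eq_one.mp (show D.K.card = 1 by have := D.card_K; omega)
  have hχK : χ ∈ D.K := by rw [hχ]; exact Finset.mem_singleton_self _
  obtain ⟨hc1, hc2, hc3, hc4⟩ := signed_facts hperf hP D hχK
  obtain ⟨-, hθ2, hθ3, hθ4⟩ := theta_facts hperf D (S := D.a χ * deg χ)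
    (by rw [hχ, Finset.sum_singleton])
  rw [hχ, Finset.sum_singleton, ← hc4, hθ4, h, show D.fam.card = (p - 1) / 2 by omega] at hsq
  rw [h] at hc3 hθ3
  set c := D.a χ * deg χ
  have hnn : (0 : ℤ) ≤ (((p - 1) / 2 : ℕ) : ℤ) * (1 + c) ^ 2 := by positivity
  have hb : c.natAbs ≤ Nat.sqrt g := by
    rw [Nat.le_sqrt]
    have h1 : ((c.natAbs * c.natAbs : ℕ) : ℤ) ≤ g := by
      push_cast
      rw [abs_mul_abs_self]
      nlinarith
    exact_mod_cast h1
  simp only [degBad, List.all_eq_true, List.mem_range, Bool.or_eq_true, decide_eq_true_eq] at hbad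
  have h' := hbad (c + Nat.sqrt g).toNat (by omega)
  rw [show (((c + Nat.sqrt g).toNat : ℕ) : ℤ) - (Nat.sqrt g : ℤ) = c by omega] at h'
  rcases h' with ((((e' | e') | e') | e') | e') | e'
  · exact e' (Int.emod_eq_zero_of_dvd hc1)
  · omega
  · exact e' (Nat.mod_eq_zero_of_dvd hc3)
  · omega
  · exact e' (Nat.mod_eq_zero_of_dvd hθ3)
  · linarith

/-- The criterion is sound. -/
theorem deadCase_false {g n e c : ℕ} (h : Nat.card G = g) (hp2 : p ≠ 2) (P : Sylow p G)
    (hP : Nat.card (P : Subgroup G) = p) (hn : Nat.card (Sylow p G) = n) (hn1 : n ≠ 1)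
    (hc : c = g / (n * e))
    (hC : Nat.card (Subgroup.centralizer ((P : Subgroup G) : Set G)) = c)
    (hN : Nat.card (Subgroup.normalizer ((P : Subgroup G) : Set G)) = c * e)
    (hrel : (Subgroup.centralizer ((P : Subgroup G) : Set G)).relIndex
        (Subgroup.normalizer ((P : Subgroup G) : Set G)) = e)
    (hbad : deadCase g p n e = true) : False := by
  simp only [deadCase, ← hc, Bool.or_eq_true, Bool.and_eq_true, decide_eq_true_eq] at hbad
  rcases hbad with ((hs | ⟨hc2, ho⟩) | ⟨⟨hc2, he2⟩, hi⟩) | ⟨rfl, hd⟩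
  · simp only [semiBad, List.any_eq_true, Bool.and_eq_true, decide_eq_true_eq, List.all_eq_true,
      List.mem_range, Bool.or_eq_true] at hs
    obtain ⟨⟨q, k⟩, hqk, ⟨hk, hnd⟩, hall⟩ := hs
    have hq : q.Prime := by
      simp only [List.mem_cons, List.not_mem_nil, or_false, Prod.mk.injEq] at hqk
      rcases hqk with h' | h' | h' | h' | h' | h' | h' | h' <;> rw [h'.1] <;> norm_num
    haveI : Fact q.Prime := ⟨hq⟩
    exact false_of_semiregular hG P hP (q := q) (k := k) hn hn1 hC (Nat.dvd_of_mod_eq_zero hk)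
      (fun f hf hfp hfq => ((hall f hf).resolve_left (by
        rintro (h' | h')
        · exact h' hfp
        · exact h' hfq)))
      (fun hd' => hnd (Nat.mod_eq_zero_of_dvd hd'))
  · exact false_of_even_centralizer hG hp2 P hP h hn hn1 hC (Nat.dvd_of_mod_eq_zero hc2) ho
  · obtain ⟨u, huN, hu2⟩ := SmallOrderKills.exists_involution
      (H := Subgroup.normalizer ((P : Subgroup G) : Set G))
      (by rw [hN]; exact (Nat.dvd_of_mod_eq_zero he2).mul_left c)
    have huu : u * u = 1 := by rw [← pow_two, ← hu2, pow_orderOf_eq_one]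
    rcases FixedSylow.inverts_or_centralizes P hP huN huu with hcen | hinv
    · have := Subgroup.orderOf_dvd_natCard _ hcen
      rw [hu2, hC] at this
      omega
    · have hb := FixedSylow.card_fixed_inverting_le P hP hp2 hinv
      have h4 := four_dvd_moved (α := Sylow p G) hG u (by rw [pow_two, huu])
      rw [hn] at hb h4
      set f := Nat.card {Q : Sylow p G // u • Q = Q}
      have hf0 : f ≠ 0 := by
        haveI : Nonempty {Q : Sylow p G // u • Q = Q} :=
          ⟨⟨P, Sylow.smul_eq_iff_mem_normalizer.mpr huN⟩⟩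
        exact Nat.card_pos.ne'
      have hfn : f ≤ n := hn ▸ Finite.card_subtype_le _
      simp only [invBad, List.all_eq_true, List.mem_range, Bool.or_eq_true, decide_eq_true_eq] at hi
      rcases hi f (by omega) with (h' | h') | h'
      · exact hf0 h'
      · omega
      · exact h' (Nat.mod_eq_zero_of_dvd h4)
  · exact degBad_false hG h hp2 P hP hrel hd

/-- No simple group has order `g` if `dead g p`. -/
theorem false_of_dead {g : ℕ} (h : Nat.card G = g) (hp2 : p ≠ 2) (hgp : p ∣ g)
    (hm : (g / p) % p ≠ 0) (hm1 : g / p ≠ 1) (hbad : dead g p = true) : False := by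
  let P : Sylow p G := default
  obtain ⟨n, e, c, hmem, hP, hn, hn1, hc, -, hC, hN, hrel⟩ := exists_pair hG h hgp hm hm1 P
  exact deadCase_false hG h hp2 P hP hn hn1 hc hC hN hrel (List.all_eq_true.mp hbad _ hmem)

end Prime

/-- The self-centralising case with degrees `1, d, d'`: the centraliser of an inverting involution. -/
theorem exists_centralizer_value (hG : ¬ IsMulCommutative G) [Fintype G] {p : ℕ} [Fact p.Prime]
    (hp2 : p ≠ 2) (P : Sylow p G) (hP : Nat.card (P : Subgroup G) = p)
    (hC : Nat.card (Subgroup.centralizer ((P : Subgroup G) : Set G)) = p)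
    (hN : Nat.card (Subgroup.normalizer ((P : Subgroup G) : Set G)) = p * 2)
    (hrel : (Subgroup.centralizer ((P : Subgroup G) : Set G)).relIndex
        (Subgroup.normalizer ((P : Subgroup G) : Set G)) = 2) :
    ∃ u : G, orderOf u = 2 ∧ ∃ c y : ℤ, (p : ℤ) ∣ c - 1 ∧ 2 ≤ c.natAbs ∧ c.natAbs ∣ Nat.card G ∧
      2 ≤ (1 + c).natAbs ∧ (1 + c).natAbs ∣ Nat.card G ∧
      1 + c ^ 2 + ((p - 1) / 2 : ℕ) * (1 + c) ^ 2 ≤ (Nat.card G : ℤ) ∧
      1 + y ^ 2 + ((p - 1) / 2 : ℕ) * (1 + y) ^ 2 ≤
        (Nat.card (Subgroup.centralizer ({u} : Set G)) : ℤ) ∧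
      (Nat.card G : ℤ) * (c * (1 + c) + y ^ 2 * (1 + c) - (1 + y) ^ 2 * c) =
        (p : ℤ) * (Nat.card (Subgroup.centralizer ({u} : Set G)) : ℤ) ^ 2 * (c * (1 + c)) := by
  classical
  have hperf := Sylow.commutator_eq_top hG
  have hCP := SmallOrderKills4.centralizer_eq P hP hC
  obtain ⟨D⟩ := FirstPowerData.exists_data P hP hrel
  obtain ⟨u, huN, hu2⟩ := SmallOrderKills.exists_involution
    (H := Subgroup.normalizer ((P : Subgroup G) : Set G)) (by rw [hN]; exact dvd_mul_left 2 p)
  refine ⟨u, hu2, ?_⟩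
  have huu : u * u = 1 := by rw [← pow_two, ← hu2, pow_orderOf_eq_one]
  have hsq := D.square_sum
  have hfam := D.fam_card
  obtain ⟨χ, hχ⟩ := Finset.card_eq_one.mp (show D.K.card = 1 by have := D.card_K; omega)
  have hχK : χ ∈ D.K := by rw [hχ]; exact Finset.mem_singleton_self _
  obtain ⟨hc1, hc2, hc3, hc4⟩ := signed_facts hperf hP D hχK
  obtain ⟨hθd, hθ2, hθ3, hθ4⟩ := theta_facts hperf D (S := D.a χ * deg χ)
    (by rw [hχ, Finset.sum_singleton])
  rw [hχ, Finset.sum_singleton, ← hc4, hθ4, show D.fam.card = (p - 1) / 2 by omega] at hsq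
  obtain ⟨x, hx, -, -⟩ := FirstPowerData.exists_int_mod_four hperf χ huu
  obtain ⟨β, hβ, -, -⟩ := FirstPowerData.exists_int_mod_four hperf D.θ huu
  have hu' : ¬ p ∣ orderOf u := by
    rw [hu2]
    exact fun hd => hp2 ((Nat.prime_dvd_prime_iff_eq Fact.out Nat.prime_two).mp hd)
  have hrelu := D.rel u hu'
  rw [hχ, Finset.sum_singleton, hx, hβ] at hrelu
  have hrI : 1 + D.a χ * x = D.δ * β := by exact_mod_cast hrelu
  have hcen := D.centralizer_le hu' (fun _ => x) β
    (fun χ' h' => by rw [hχ, Finset.mem_singleton] at h'; rw [h', hx]) hβ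
  rw [hχ, Finset.sum_singleton, show D.fam.card = (p - 1) / 2 by omega] at hcen
  have hsum := ClassSum.class_sum P hP hp2 hCP D (by rw [hN, mul_comm]) huN hu2
  rw [hχ, Finset.sum_singleton, hx, hβ] at hsum
  have hdeq := D.degree_eq
  rw [hχ, Finset.sum_singleton] at hdeq
  have ha2 : D.a χ ^ 2 = 1 := by rcases D.a_unit χ hχK with e | e <;> rw [e] <;> norm_num
  have hδ2 : D.δ ^ 2 = 1 := by rcases D.δ_unit with e | e <;> rw [e] <;> norm_num
  have hd0 : (2 : ℤ) ≤ deg χ := (D.two_le hperf).1 χ hχK
  have ht0 : (2 : ℤ) ≤ deg D.θ := (D.two_le hperf).2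
  have hd0' : (deg χ : ℂ) ≠ 0 := Int.cast_ne_zero.mpr (by omega)
  have ht0' : (deg D.θ : ℂ) ≠ 0 := Int.cast_ne_zero.mpr (by omega)
  field_simp at hsum
  have hsumI : (Nat.card G : ℤ) * (deg χ * deg D.θ + D.a χ * x * x * deg D.θ -
      D.δ * β * β * deg χ) =
      (p : ℤ) * (Nat.card (Subgroup.centralizer ({u} : Set G)) : ℤ) ^ 2 * (deg χ * deg D.θ) := by
    have : ((((Nat.card G : ℤ) * (deg χ * deg D.θ + D.a χ * x * x * deg D.θ -
      D.δ * β * β * deg χ)) : ℤ) : ℂ) =
      (((p : ℤ) * (Nat.card (Subgroup.centralizer ({u} : Set G)) : ℤ) ^ 2 *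
        (deg χ * deg D.θ) : ℤ) : ℂ) := by
      push_cast
      linear_combination hsum
    exact_mod_cast this
  refine ⟨D.a χ * deg χ, D.a χ * x, hc1, hc2, hc3, hθ2, hθ3, hsq, ?_, ?_⟩
  · rw [hrI, mul_pow, mul_pow, ha2, hδ2, one_mul, one_mul]
    exact hcen
  · rw [hrI, hdeq]
    linear_combination (D.a χ * D.δ) * hsumI

/-- No simple group of order `58520`. -/
theorem card_ne_58520 : Nat.card G ≠ 58520 := by
  intro h
  classical
  haveI : Fintype G := Fintype.ofFinite G
  have hG := not_comm h (by norm_num)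
  haveI : Fact (Nat.Prime 19) := ⟨by norm_num⟩
  haveI : Fact (Nat.Prime 11) := ⟨by norm_num⟩
  haveI : Fact (Nat.Prime 7) := ⟨by norm_num⟩
  let P : Sylow 19 G := default
  obtain ⟨n, e, c, hmem, hP, hn, hn1, hc, -, hC, hN, hrel⟩ :=
    exists_pair hG h (by norm_num) (by norm_num) (by norm_num) P
  rw [show pairs 58520 19 = [(20, 2), (77, 2), (1540, 2)] by decide +kernel] at hmem
  simp only [List.mem_cons, List.not_mem_nil, or_false, Prod.mk.injEq] at hmem
  rcases hmem with ⟨rfl, rfl⟩ | ⟨rfl, rfl⟩ | ⟨rfl, rfl⟩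
  · exact deadCase_false hG h (by norm_num) P hP hn hn1 hc hC hN hrel (by decide +kernel)
  · exact deadCase_false hG h (by norm_num) P hP hn hn1 hc hC hN hrel (by decide +kernel)
  norm_num at hc
  subst hc
  obtain ⟨u, hu2, d, y, h1, h2, h3, h4, h5, h6, hcen, hsum⟩ :=
    exists_centralizer_value hG (by norm_num) P hP hC hN hrel
  rw [h] at h3 h5 h6 hsum
  set C := Nat.card (Subgroup.centralizer ({u} : Set G)) with hCu
  have h2C : 2 ∣ C := hu2 ▸ Subgroup.orderOf_dvd_natCard _ (Subgroup.mem_centralizer_singleton_iff.mpr rfl)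
  have hCd : C ∣ 58520 := h ▸ Subgroup.card_subgroup_dvd_card _
  push_cast at h1 h6 hsum
  have hd : d = -56 := by
    have hb : -242 ≤ d ∧ d ≤ 242 := by constructor <;> nlinarith
    obtain ⟨hb1, hb2⟩ := hb
    interval_cases d <;> first | omega | norm_num at *
  subst hd
  have hsq : ((C : ℤ) - (y + 56)) * ((C : ℤ) + (y + 56)) = 0 := by linarith
  have hC56 : C = 56 := by
    push_cast at hcen
    rcases mul_eq_zero.mp hsq with h' | h'
    · have hyv : y = (C : ℤ) - 56 := by linarith
      subst hyv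
      have hb : (C : ℤ) ≤ 59 := by nlinarith
      have hb' : 52 ≤ (C : ℤ) := by nlinarith
      have hCb : C ≤ 59 := by exact_mod_cast hb
      have hCb' : 52 ≤ C := by exact_mod_cast hb'
      interval_cases C <;> first | rfl | norm_num at *
    · exfalso
      have hyv : y = -(C : ℤ) - 56 := by linarith
      subst hyv
      nlinarith
  -- an element of order seven commuting with the involution
  obtain ⟨⟨z, hzC⟩, hz⟩ := exists_prime_orderOf_dvd_card'
    (G := Subgroup.centralizer ({u} : Set G)) 7 (by rw [← hCu, hC56]; norm_num)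
  rw [Subgroup.orderOf_mk] at hz
  let Q : Sylow 7 G := Sylow.ofCard (Subgroup.zpowers z) (by
    rw [Nat.card_zpowers, hz, h, show (58520 : ℕ) = 7 ^ 1 * 8360 by norm_num,
      Nat.factorization_mul (by norm_num) (by norm_num), Finsupp.add_apply,
      Nat.Prime.factorization_pow (by norm_num), Finsupp.single_eq_same,
      Nat.factorization_eq_zero_of_not_dvd (by norm_num)]
    norm_num)
  have huQ : u ∈ Subgroup.centralizer ((Q : Subgroup G) : Set G) := by
    rw [Subgroup.mem_centralizer_iff]
    intro w hw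
    rw [show ((Q : Subgroup G) : Set G) = (Subgroup.zpowers z : Set G) from rfl] at hw
    obtain ⟨k, rfl⟩ := Subgroup.mem_zpowers_iff.mp hw
    exact ((show Commute z u from Subgroup.mem_centralizer_singleton_iff.mp hzC).zpow_left k).eq
  obtain ⟨n7, e7, c7, hmem7, hQ, hn7, hn71, hc7, -, hC7, hN7, hrel7⟩ :=
    exists_pair hG h (by norm_num) (by norm_num) (by norm_num) Q
  rw [show pairs 58520 7 = [(22, 2), (190, 2), (4180, 2)] by decide +kernel] at hmem7
  simp only [List.mem_cons, List.not_mem_nil, or_false, Prod.mk.injEq] at hmem7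
  have h2c := Subgroup.orderOf_dvd_natCard _ huQ
  rw [hu2, hC7] at h2c
  rcases hmem7 with ⟨rfl, rfl⟩ | ⟨rfl, rfl⟩ | ⟨rfl, rfl⟩
  · exact deadCase_false hG h (by norm_num) Q hQ hn7 hn71 hc7 hC7 hN7 hrel7 (by decide +kernel)
  · norm_num at hc7
    subst hc7
    -- an element of order eleven centralises `Q`
    obtain ⟨⟨w, hwC⟩, hw⟩ := exists_prime_orderOf_dvd_card'
      (G := Subgroup.centralizer ((Q : Subgroup G) : Set G)) 11 (by rw [hC7]; norm_num)
    rw [Subgroup.orderOf_mk] at hw
    let R : Sylow 11 G := Sylow.ofCard (Subgroup.zpowers w) (by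
      rw [Nat.card_zpowers, hw, h, show (58520 : ℕ) = 11 ^ 1 * 5320 by norm_num,
        Nat.factorization_mul (by norm_num) (by norm_num), Finsupp.add_apply,
        Nat.Prime.factorization_pow (by norm_num), Finsupp.single_eq_same,
        Nat.factorization_eq_zero_of_not_dvd (by norm_num)]
      norm_num)
    have hle : (Q : Subgroup G) ≤ Subgroup.centralizer ((R : Subgroup G) : Set G) := by
      intro x hx
      rw [Subgroup.mem_centralizer_iff]
      intro v hv
      rw [show ((R : Subgroup G) : Set G) = (Subgroup.zpowers w : Set G) from rfl] at hv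
      obtain ⟨k, rfl⟩ := Subgroup.mem_zpowers_iff.mp hv
      exact ((Commute.symm (Subgroup.mem_centralizer_iff.mp hwC x hx)).zpow_left k).eq
    obtain ⟨n11, e11, c11, hmem11, -, -, -, hc11, -, hC11, -, -⟩ :=
      exists_pair hG h (by norm_num) (by norm_num) (by norm_num) R
    have hd := Subgroup.card_dvd_of_le hle
    rw [hQ, hC11, hc11] at hd
    rw [show pairs 58520 11 = [(56, 5), (133, 2), (133, 5), (133, 10)] by decide +kernel] at hmem11
    simp only [List.mem_cons, List.not_mem_nil, or_false, Prod.mk.injEq] at hmem11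
    rcases hmem11 with ⟨rfl, rfl⟩ | ⟨rfl, rfl⟩ | ⟨rfl, rfl⟩ | ⟨rfl, rfl⟩ <;> norm_num at hd
  · omega

/-- No simple group of order `7980`. -/
theorem card_ne_7980 : Nat.card G ≠ 7980 := by
  intro h
  classical
  haveI : Fintype G := Fintype.ofFinite G
  have hG := not_comm h (by norm_num)
  haveI : Fact (Nat.Prime 19) := ⟨by norm_num⟩
  haveI : Fact (Nat.Prime 5) := ⟨by norm_num⟩
  let P : Sylow 19 G := default
  obtain ⟨n, e, c, hmem, hP, hn, hn1, hc, -, hC, hN, hrel⟩ :=
    exists_pair hG h (by norm_num) (by norm_num) (by norm_num) P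
  rw [show pairs 7980 19 = [(20, 3), (210, 2)] by decide +kernel] at hmem
  simp only [List.mem_cons, List.not_mem_nil, or_false, Prod.mk.injEq] at hmem
  rcases hmem with ⟨rfl, rfl⟩ | ⟨rfl, rfl⟩
  · exact deadCase_false hG h (by norm_num) P hP hn hn1 hc hC hN hrel (by decide +kernel)
  norm_num at hc
  subst hc
  obtain ⟨u, hu2, d, y, h1, h2, h3, h4, h5, h6, hcen, hsum⟩ :=
    exists_centralizer_value hG (by norm_num) P hP hC hN hrel
  rw [h] at h3 h5 h6 hsum
  set C := Nat.card (Subgroup.centralizer ({u} : Set G)) with hCu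
  have h2C : 2 ∣ C := hu2 ▸ Subgroup.orderOf_dvd_natCard _ (Subgroup.mem_centralizer_singleton_iff.mpr rfl)
  have hCd : C ∣ 7980 := h ▸ Subgroup.card_subgroup_dvd_card _
  push_cast at h1 h6 hsum
  have hd : d = 20 := by
    have hb : -90 ≤ d ∧ d ≤ 90 := by constructor <;> nlinarith
    obtain ⟨hb1, hb2⟩ := hb
    interval_cases d <;> first | omega | norm_num at *
  subst hd
  have hsq : ((C : ℤ) - (y - 20)) * ((C : ℤ) + (y - 20)) = 0 := by linarith
  have hC20 : C = 20 := by
    push_cast at hcen
    rcases mul_eq_zero.mp hsq with h' | h'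
    · exfalso
      have hyv : y = (C : ℤ) + 20 := by linarith
      subst hyv
      nlinarith
    · have hyv : y = 20 - (C : ℤ) := by linarith
      subst hyv
      have hb : (C : ℤ) ≤ 24 := by nlinarith
      have hb' : 18 ≤ (C : ℤ) := by nlinarith
      have hCb : C ≤ 24 := by exact_mod_cast hb
      have hCb' : 18 ≤ C := by exact_mod_cast hb'
      interval_cases C <;> first | rfl | norm_num at *
  obtain ⟨⟨z, hzC⟩, hz⟩ := exists_prime_orderOf_dvd_card'
    (G := Subgroup.centralizer ({u} : Set G)) 5 (by rw [← hCu, hC20]; norm_num)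
  rw [Subgroup.orderOf_mk] at hz
  let Q : Sylow 5 G := Sylow.ofCard (Subgroup.zpowers z) (by
    rw [Nat.card_zpowers, hz, h, show (7980 : ℕ) = 5 ^ 1 * 1596 by norm_num,
      Nat.factorization_mul (by norm_num) (by norm_num), Finsupp.add_apply,
      Nat.Prime.factorization_pow (by norm_num), Finsupp.single_eq_same,
      Nat.factorization_eq_zero_of_not_dvd (by norm_num)]
    norm_num)
  have huQ : u ∈ Subgroup.centralizer ((Q : Subgroup G) : Set G) := by
    rw [Subgroup.mem_centralizer_iff]
    intro w hw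
    rw [show ((Q : Subgroup G) : Set G) = (Subgroup.zpowers z : Set G) from rfl] at hw
    obtain ⟨k, rfl⟩ := Subgroup.mem_zpowers_iff.mp hw
    exact ((show Commute z u from Subgroup.mem_centralizer_singleton_iff.mp hzC).zpow_left k).eq
  obtain ⟨n5, e5, c5, hmem5, hQ, hn5, hn51, hc5, -, hC5, hN5, hrel5⟩ :=
    exists_pair hG h (by norm_num) (by norm_num) (by norm_num) Q
  rw [show pairs 7980 5 = [(21, 2), (21, 4), (266, 2)] by decide +kernel] at hmem5
  simp only [List.mem_cons, List.not_mem_nil, or_false, Prod.mk.injEq] at hmem5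
  have h2c := Subgroup.orderOf_dvd_natCard _ huQ
  rw [hu2, hC5] at h2c
  rcases hmem5 with ⟨rfl, rfl⟩ | ⟨rfl, rfl⟩ | ⟨rfl, rfl⟩
  · exact deadCase_false hG h (by norm_num) Q hQ hn5 hn51 hc5 hC5 hN5 hrel5 (by decide +kernel)
  · exact deadCase_false hG h (by norm_num) Q hQ hn5 hn51 hc5 hC5 hN5 hrel5 (by decide +kernel)
  · omega

/-- The signed divisors congruent to `1` modulo `p`, up to `B`. -/
def signedList (g p B : ℕ) : List ℤ :=
  ((List.range (2 * B + 1)).map fun i : ℕ => (i : ℤ) - B).filter fun c =>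
    decide ((c - 1) % (p : ℤ) = 0) && decide (2 ≤ c.natAbs) && decide (g % c.natAbs = 0)

/-- With `|N : C| = 3` and no solution of the degree relation. -/
theorem deg_three_false (hG : ¬ IsMulCommutative G) [Fintype G] {p g t : ℕ} [Fact p.Prime]
    (h : Nat.card G = g) (P : Sylow p G) (hP : Nat.card (P : Subgroup G) = p) (ht : 3 * t + 1 = p)
    (hrel : (Subgroup.centralizer ((P : Subgroup G) : Set G)).relIndex
        (Subgroup.normalizer ((P : Subgroup G) : Set G)) = 3)
    (hbad : ((signedList g p (Nat.sqrt g)).all fun a => (signedList g p (Nat.sqrt g)).all fun b =>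
      decide ((1 + (a + b)).natAbs < 2) || decide (g % (1 + (a + b)).natAbs ≠ 0) ||
        decide ((g : ℤ) < 1 + (a ^ 2 + b ^ 2) + (t : ℤ) * (1 + (a + b)) ^ 2)) = true) : False := by
  classical
  have hperf := Sylow.commutator_eq_top hG
  obtain ⟨D⟩ := FirstPowerData.exists_data P hP hrel
  have hfam := D.fam_card
  obtain ⟨c1, c2, h12, hK⟩ := Finset.card_eq_two.mp (show D.K.card = 2 by have := D.card_K; omega)
  have h1K : c1 ∈ D.K := by rw [hK]; simp
  have h2K : c2 ∈ D.K := by rw [hK]; simp
  obtain ⟨a1, a2, a3, a4⟩ := signed_facts hperf hP D h1K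
  obtain ⟨b1, b2, b3, b4⟩ := signed_facts hperf hP D h2K
  obtain ⟨-, hθ2, hθ3, hθ4⟩ := theta_facts hperf D
    (S := D.a c1 * deg c1 + D.a c2 * deg c2) (by rw [hK, Finset.sum_pair h12])
  have hsq := D.square_sum
  rw [hK, Finset.sum_pair h12, ← a4, ← b4, hθ4, h, show D.fam.card = t by omega] at hsq
  rw [h] at a3 b3 hθ3
  set a := D.a c1 * deg c1
  set b := D.a c2 * deg c2
  have hnn : (0 : ℤ) ≤ (t : ℤ) * (1 + (a + b)) ^ 2 := by positivity
  have hmem : ∀ c : ℤ, (p : ℤ) ∣ c - 1 → 2 ≤ c.natAbs → c.natAbs ∣ g → c ^ 2 ≤ g →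
      c ∈ signedList g p (Nat.sqrt g) := by
    intro c e1 e2 e3 e4
    have hb : c.natAbs ≤ Nat.sqrt g := by
      rw [Nat.le_sqrt]
      have h1 : ((c.natAbs * c.natAbs : ℕ) : ℤ) ≤ g := by
        push_cast
        rw [abs_mul_abs_self]
        nlinarith
      exact_mod_cast h1
    simp only [signedList, List.mem_filter, List.mem_map, List.mem_range, Bool.and_eq_true,
      decide_eq_true_eq]
    exact ⟨⟨(c + Nat.sqrt g).toNat, by omega, by omega⟩,
      ⟨Int.emod_eq_zero_of_dvd e1, e2⟩, Nat.mod_eq_zero_of_dvd e3⟩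
  simp only [List.all_eq_true, Bool.or_eq_true, decide_eq_true_eq] at hbad
  rcases hbad a (hmem a a1 a2 a3 (by nlinarith)) b (hmem b b1 b2 b3 (by nlinarith)) with
    (e | e) | e
  · omega
  · exact e (Nat.mod_eq_zero_of_dvd hθ3)
  · linarith

/-- No simple group of order `87780`. -/
theorem card_ne_87780 : Nat.card G ≠ 87780 := by
  intro h
  classical
  haveI : Fintype G := Fintype.ofFinite G
  have hG := not_comm h (by norm_num)
  haveI : Fact (Nat.Prime 19) := ⟨by norm_num⟩
  haveI : Fact (Nat.Prime 11) := ⟨by norm_num⟩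
  haveI : Fact (Nat.Prime 2) := ⟨Nat.prime_two⟩
  let P : Sylow 19 G := default
  obtain ⟨n, e, c, hmem, hP, hn, hn1, hc, -, hC, hN, hrel⟩ :=
    exists_pair hG h (by norm_num) (by norm_num) (by norm_num) P
  rw [show pairs 87780 19 = [(20, 3), (77, 2), (77, 3), (77, 6), (210, 2), (1540, 3)]
    by decide +kernel] at hmem
  simp only [List.mem_cons, List.not_mem_nil, or_false, Prod.mk.injEq] at hmem
  obtain ⟨rfl, rfl⟩ : n = 210 ∧ e = 2 := by
    rcases hmem with ⟨rfl, rfl⟩ | ⟨rfl, rfl⟩ | ⟨rfl, rfl⟩ | ⟨rfl, rfl⟩ | ⟨rfl, rfl⟩ | ⟨rfl, rfl⟩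
    · exact (deadCase_false hG h (by norm_num) P hP hn hn1 hc hC hN hrel (by decide +kernel)).elim
    · exact (deadCase_false hG h (by norm_num) P hP hn hn1 hc hC hN hrel (by decide +kernel)).elim
    · exact (deadCase_false hG h (by norm_num) P hP hn hn1 hc hC hN hrel (by decide +kernel)).elim
    · exact (deadCase_false hG h (by norm_num) P hP hn hn1 hc hC hN hrel (by decide +kernel)).elim
    · exact ⟨rfl, rfl⟩
    · exact (deg_three_false hG h (t := 6) P hP rfl hrel (by decide +kernel)).elim
  norm_num at hc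
  subst hc
  set Z := Subgroup.centralizer ((P : Subgroup G) : Set G) with hZ
  obtain ⟨u, huN, hu2⟩ := SmallOrderKills.exists_involution
    (H := Subgroup.normalizer ((P : Subgroup G) : Set G)) (by rw [hN]; norm_num)
  have huu : u * u = 1 := by rw [← pow_two, ← hu2, pow_orderOf_eq_one]
  have hui : u⁻¹ = u := inv_eq_of_mul_eq_one_right huu
  have huZ : ∀ g ∈ Z, u * g * u ∈ Z := by
    intro g hg
    rw [hZ, Subgroup.mem_centralizer_iff] at hg ⊢
    intro x hx
    have hx' : u * x * u ∈ (P : Subgroup G) := by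
      have := (Subgroup.mem_normalizer_iff.mp huN x).mp hx
      rwa [hui] at this
    have h' := hg _ hx'
    calc x * (u * g * u) = u * ((u * x * u) * g) * u := by
          simp only [← mul_assoc, huu, one_mul]
      _ = u * (g * (u * x * u)) * u := by rw [h']
      _ = u * g * u * x := by simp only [mul_assoc, huu, mul_one]
  have huni : u ∉ Z := fun hu => by
    have := Subgroup.orderOf_dvd_natCard _ hu
    rw [hu2, hC] at this
    norm_num at this
  -- `u` centralises no non-trivial element of `Z`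
  have hfix : ∀ g ∈ Z, g * u = u * g → g = 1 := by
    intro g hg hgu
    by_contra hg1
    have hd : orderOf g ∣ 209 := hC ▸ Subgroup.orderOf_dvd_natCard _ hg
    have hpos := orderOf_pos g
    -- a suitable power has prime order
    have hcases : orderOf g = 11 ∨ orderOf g = 19 ∨ orderOf g = 209 := by
      have hle := Nat.le_of_dvd (by norm_num) hd
      have h1 : orderOf g ≠ 1 := fun h' => hg1 (orderOf_eq_one_iff.mp h')
      have h209 : (209 : ℕ) = 11 * 19 := by norm_num
      rw [h209] at hd
      obtain ⟨a, b, ha, hb, he⟩ := exists_dvd_and_dvd_of_dvd_mul hd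
      rcases (Nat.dvd_prime (by norm_num : Nat.Prime 11)).mp ha with rfl | rfl <;>
        rcases (Nat.dvd_prime (by norm_num : Nat.Prime 19)).mp hb with rfl | rfl <;> omega
    have key : ∀ k, orderOf (g ^ k) = 11 ∨ orderOf (g ^ k) = 19 → False := by
      intro k hk
      have hkZ : g ^ k ∈ Z := pow_mem hg k
      have hku : g ^ k * u = u * g ^ k := (show Commute g u from hgu).pow_left k
      rcases hk with hk | hk
      · let R : Sylow 11 G := Sylow.ofCard (Subgroup.zpowers (g ^ k)) (by
          rw [Nat.card_zpowers, hk, h, show (87780 : ℕ) = 11 ^ 1 * 7980 by norm_num,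
            Nat.factorization_mul (by norm_num) (by norm_num), Finsupp.add_apply,
            Nat.Prime.factorization_pow (by norm_num), Finsupp.single_eq_same,
            Nat.factorization_eq_zero_of_not_dvd (by norm_num)]
          norm_num)
        have hmemR : ∀ x : G, Commute (g ^ k) x →
            x ∈ Subgroup.centralizer ((R : Subgroup G) : Set G) := by
          intro x hx
          rw [Subgroup.mem_centralizer_iff]
          intro w hw
          rw [show ((R : Subgroup G) : Set G) = (Subgroup.zpowers (g ^ k) : Set G) from rfl] at hw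
          obtain ⟨j, rfl⟩ := Subgroup.mem_zpowers_iff.mp hw
          exact (hx.zpow_left j).eq
        obtain ⟨n11, e11, c11, hmem11, -, -, -, hc11, -, hC11, -, -⟩ :=
          exists_pair hG h (by norm_num) (by norm_num) (by norm_num) R
        have hPR : (P : Subgroup G) ≤ Subgroup.centralizer ((R : Subgroup G) : Set G) := fun x hx =>
          hmemR x ((Subgroup.mem_centralizer_iff.mp hkZ x hx).symm)
        have hd19 := Subgroup.card_dvd_of_le hPR
        have hd2 := Subgroup.orderOf_dvd_natCard _ (hmemR u hku)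
        rw [hP, hC11, hc11] at hd19
        rw [hu2, hC11, hc11] at hd2
        rw [show pairs 87780 11 = [(133, 2), (133, 5), (133, 10), (210, 2), (1596, 5)]
          by decide +kernel] at hmem11
        simp only [List.mem_cons, List.not_mem_nil, or_false, Prod.mk.injEq] at hmem11
        rcases hmem11 with ⟨rfl, rfl⟩ | ⟨rfl, rfl⟩ | ⟨rfl, rfl⟩ | ⟨rfl, rfl⟩ | ⟨rfl, rfl⟩ <;>
          first
            | (norm_num at hd19; done)
            | (norm_num at hd2; done)
      · have hmemP : g ^ k ∈ (P : Subgroup G) := by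
          refine SmallOrderTools.mem_of_smul_eq (g ^ k) (n := 1)
            (by rw [pow_one, ← hk, pow_orderOf_eq_one]) P ?_
          exact Sylow.smul_eq_iff_mem_normalizer.mpr
            (Cfsg.Agent.Lib.SmallGroups.Sylow.centralizer_le_normalizer _ hkZ)
        rcases FixedSylow.inverts_or_centralizes P hP huN huu with hcen | hinv
        · exact huni hcen
        · have h' := hinv _ hmemP
          rw [hui, ← hku, mul_assoc, huu, mul_one] at h'
          have hsq : (g ^ k) ^ 2 = 1 := by rw [pow_two, mul_eq_one_iff_eq_inv]; exact h'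
          have := orderOf_dvd_of_pow_eq_one hsq
          rw [hk] at this
          norm_num at this
    rcases hcases with h' | h' | h'
    · exact key 1 (Or.inl (by rw [pow_one]; exact h'))
    · exact key 1 (Or.inr (by rw [pow_one]; exact h'))
    · refine key 11 (Or.inr ?_)
      rw [orderOf_pow' g (by norm_num), h']
      norm_num
  -- `u` inverts `Z`
  have hinv : ∀ g ∈ Z, u * g * u = g⁻¹ := by
    let τ : ↥Z → ↥Z := fun g => g * ⟨u * (g : G)⁻¹ * u, huZ _ (inv_mem g.2)⟩
    have hτ : Function.Injective τ := by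
      intro a b hab
      have h' : (a : G) * (u * (a : G)⁻¹ * u) = b * (u * (b : G)⁻¹ * u) := congrArg Subtype.val hab
      have h1 : (b : G)⁻¹ * a * u = u * ((b : G)⁻¹ * a) := by
        calc (b : G)⁻¹ * a * u
            = (b : G)⁻¹ * ((a : G) * (u * (a : G)⁻¹ * u)) * (u⁻¹ * a) := by group
          _ = (b : G)⁻¹ * ((b : G) * (u * (b : G)⁻¹ * u)) * (u⁻¹ * a) := by rw [h']
          _ = u * ((b : G)⁻¹ * a) := by group
      exact Subtype.ext (inv_mul_eq_one.mp (hfix _ (mul_mem (inv_mem b.2) a.2) h1)).symm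
    intro g hg
    obtain ⟨a, ha⟩ := (Finite.injective_iff_surjective.mp hτ) ⟨g, hg⟩
    rw [← show (a : G) * (u * (a : G)⁻¹ * u) = g from congrArg Subtype.val ha]
    simp only [mul_assoc, mul_inv_rev, inv_inv, hui, huu, mul_one]
  have hPfix : ∀ g ∈ Z, g • P = P := fun g hg => Sylow.smul_eq_iff_mem_normalizer.mpr
    (Cfsg.Agent.Lib.SmallGroups.Sylow.centralizer_le_normalizer _ hg)
  have hfree : ∀ g ∈ Z, ∀ Q : Sylow 19 G, Q ≠ P → g • Q = Q → g = 1 := by
    intro g hg Q hQ hgQ
    have honly : ∀ y ∈ Z, orderOf y ∣ 11 → y • Q = Q → y = 1 := by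
      intro y hy hy11 hyQ
      by_contra hy1
      obtain ⟨h1, h2⟩ := fixed_facts hG P hP hy hy1 (hn ▸ hn1)
      have hy' : y ^ 11 ^ 1 = 1 := by rw [pow_one]; exact orderOf_dvd_iff_pow_eq_one.mp hy11
      have h3 := card_fixed_commute_modEq (α := Sylow 19 G) (p := 11) 1 y hy' (Commute.one_left y)
      simp only [one_smul, true_and] at h3
      rw [Nat.card_congr (Equiv.subtypeUnivEquiv (p := fun _ : Sylow 19 G => True) fun _ => trivial),
        hn] at h3
      rw [hn] at h2
      have h4 : Nat.card {Q : Sylow 19 G // y • Q = Q} = 1 := by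
        unfold Nat.ModEq at h3
        omega
      haveI := (Nat.card_eq_one_iff_unique.mp h4).1
      exact hQ (congrArg Subtype.val (Subsingleton.elim
        (⟨Q, hyQ⟩ : {Q : Sylow 19 G // y • Q = Q}) ⟨P, hPfix y hy⟩))
    have h209 : g ^ 209 = 1 := by
      have := pow_card_eq_one' (x := (⟨g, hg⟩ : ↥Z))
      rw [hC] at this
      exact congrArg Subtype.val this
    have hfix19 : ∀ k : ℕ, g ^ k • Q = Q := by
      intro k
      induction k with
      | zero => simp
      | succ k ih => rw [pow_succ, mul_smul, hgQ, ih]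
    have h19 : g ^ 19 = 1 := honly _ (pow_mem hg 19)
      (orderOf_dvd_of_pow_eq_one (by rw [← pow_mul]; exact h209)) (hfix19 19)
    have hgP : g ∈ (P : Subgroup G) :=
      SmallOrderTools.mem_of_smul_eq g (n := 1) (by rw [pow_one]; exact h19) P (hPfix g hg)
    by_contra hg1
    exact hQ (SmallOrderTools.eq_of_smul_eq_of_prime P Q hP hgP hg1 hgQ)
  have huP : u • P = P := Sylow.smul_eq_iff_mem_normalizer.mpr huN
  -- `u` fixes at most two Sylow subgroups
  have hf2 : Nat.card {Q : Sylow 19 G // u • Q = Q} ≤ 2 := by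
    by_contra hlt
    obtain ⟨Q, R, hQP, hRP, hQR, hQ, hR⟩ : ∃ Q R : Sylow 19 G,
        Q ≠ P ∧ R ≠ P ∧ Q ≠ R ∧ u • Q = Q ∧ u • R = R := by
      have h3 : 1 < ((Finset.univ.filter fun Q : Sylow 19 G => u • Q = Q).erase P).card := by
        rw [Finset.card_erase_of_mem (by simp [huP]), ← Fintype.card_subtype,
          ← Nat.card_eq_fintype_card]
        omega
      obtain ⟨Q, hQ, R, hR, hne⟩ := Finset.one_lt_card.mp h3
      simp only [Finset.mem_erase, Finset.mem_filter, Finset.mem_univ, true_and] at hQ hR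
      exact ⟨Q, R, hQ.1, hR.1, hne, hQ.2, hR.2⟩
    let act : ↥Z → {S : Sylow 19 G // S ≠ P} := fun g => ⟨(g : G) • Q, fun he =>
      hQP (MulAction.injective (g : G) (he.trans (hPfix g g.2).symm))⟩
    have hinj : Function.Injective act := by
      intro a b hab
      have h' : (a : G) • Q = (b : G) • Q := congrArg Subtype.val hab
      have h1 := hfree _ (mul_mem (inv_mem b.2) a.2) Q hQP
        (by rw [mul_smul, h', inv_smul_smul])
      exact Subtype.ext (inv_mul_eq_one.mp h1).symm
    have hcard : Nat.card ↥Z = Nat.card {S : Sylow 19 G // S ≠ P} := by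
      rw [hC, Nat.card_eq_fintype_card, Fintype.card_subtype_compl, Fintype.card_subtype_eq,
        ← Nat.card_eq_fintype_card, hn]
    obtain ⟨⟨g, hg⟩, hgR⟩ :=
      ((Nat.bijective_iff_injective_and_card act).mpr ⟨hinj, hcard⟩).2 ⟨R, hRP⟩
    have hgR' : g • Q = R := congrArg Subtype.val hgR
    have h2 : g⁻¹ • Q = R := by
      rw [← hinv g hg, mul_smul, mul_smul, hQ, hgR', hR]
    have h3 : (g * g) • Q = Q := by
      rw [mul_smul, hgR', ← h2, smul_inv_smul]
    have h4 := hfree _ (mul_mem hg hg) Q hQP h3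
    have hd : orderOf g ∣ 2 := orderOf_dvd_of_pow_eq_one (by rw [pow_two]; exact h4)
    have h209 : orderOf g ∣ 209 := hC ▸ Subgroup.orderOf_dvd_natCard _ hg
    have : g = 1 := orderOf_eq_one_iff.mp (Nat.eq_one_of_dvd_coprimes (by norm_num) hd h209)
    rw [this, one_smul] at hgR'
    exact hQR hgR'
  -- every involution of `N(P)` is conjugate to `u`
  set C := Nat.card (Subgroup.centralizer ({u} : Set G)) with hCu
  have hconj : ∀ g ∈ Z, IsConj u (g * u) := by
    intro g hg
    obtain ⟨k, hk⟩ : ∃ k ∈ Z, k * k = g := by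
      refine ⟨g ^ 105, pow_mem hg _, ?_⟩
      rw [← pow_add]
      have h209 : g ^ 209 = 1 := by
        have := pow_card_eq_one' (x := (⟨g, hg⟩ : ↥Z))
        rw [hC] at this
        exact congrArg Subtype.val this
      rw [show 105 + 105 = 209 + 1 by norm_num, pow_succ, h209, one_mul]
    refine isConj_iff.mpr ⟨k, ?_⟩
    rw [← hk.2, ← hinv k hk.1]
    simp only [mul_assoc]
    rw [← mul_assoc u u, huu, one_mul]
  have hs : 209 ≤ Nat.card {v : G // IsConj u v ∧
      v ∈ Subgroup.normalizer ((P : Subgroup G) : Set G)} := by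
    rw [← hC]
    refine Nat.card_le_card_of_injective (fun g => ⟨g * u, hconj g g.2, mul_mem
      (Cfsg.Agent.Lib.SmallGroups.Sylow.centralizer_le_normalizer _ g.2) huN⟩) ?_
    intro a b hab
    exact Subtype.ext (mul_right_cancel (congrArg Subtype.val hab))
  have hkey := SmallOrderKills2.card_fixed_sylow_mul P u
  rw [hN] at hkey
  have hC4 : C ≤ 4 := by
    have h1 : 209 * C ≤ 2 * (209 * 2) :=
      calc 209 * C ≤ _ := Nat.mul_le_mul_right _ hs
        _ = _ := hkey.symm
        _ ≤ 2 * (209 * 2) := Nat.mul_le_mul_right _ hf2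
    omega
  -- the centraliser of `u` is a four group
  set C' := Subgroup.centralizer ({u} : Set G) with hC'
  have huC : u ∈ C' := Subgroup.mem_centralizer_singleton_iff.mpr rfl
  have h2C : 2 ∣ C := hu2 ▸ Subgroup.orderOf_dvd_natCard _ huC
  have hCpos : 0 < C := Nat.card_pos
  have hp2 : IsPGroup 2 ↥C' := by
    rcases (show C = 2 ∨ C = 4 by omega) with h' | h'
    · exact IsPGroup.of_card (n := 1) (by rw [← hCu, h']; norm_num)
    · exact IsPGroup.of_card (n := 2) (by rw [← hCu, h']; norm_num)
  have hncyc : ¬ IsCyclic ↥C' := by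
    intro hcyc
    let S : Sylow 2 ↥C' := default
    haveI := hcyc
    obtain ⟨H, hH⟩ := Involutions.IndexTwo.exists_index_two_of_cyclic_sylow_centralizer u hu2 S
      (Subgroup.isCyclic _)
    exact SmallOrderKills.index_ne_two hG H hH
  have hC4' : C = 4 := by
    by_contra hne
    have hC2 : C = 2 := by omega
    exact hncyc (isCyclic_of_prime_card (p := 2) (by rw [← hCu, hC2]))
  have hexp : ∀ g ∈ C', g ^ 2 = 1 := by
    intro g hg
    by_contra hne
    refine hncyc (isCyclic_of_orderOf_eq_card (⟨g, hg⟩ : ↥C') ?_)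
    rw [← hCu, hC4', Subgroup.orderOf_mk]
    have hd : orderOf g ∣ 2 ^ 2 := by
      rw [show (2 : ℕ) ^ 2 = C by rw [hC4']; norm_num]
      exact Subgroup.orderOf_dvd_natCard _ hg
    obtain ⟨i, hi, hi'⟩ := (Nat.dvd_prime_pow Nat.prime_two).mp hd
    interval_cases i
    · exact absurd (by rw [pow_zero, orderOf_eq_one_iff] at hi'; rw [hi', one_pow]) hne
    · exact absurd (by rw [pow_one] at hi'; rw [← hi', pow_orderOf_eq_one]) hne
    · exact hi'
  obtain ⟨ι⟩ := SelfCentralKlein.equiv_alt hu2 (by rw [← hC', ← hCu]; exact hC4') hexp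
    (fun ⟨S, N, hNn, hNc⟩ => by
      have hm := hNc.card_mul_card
      rcases IsSimpleGroup.eq_bot_or_eq_top_of_normal N hNn with hb | hb
      · rw [hb, Subgroup.card_bot, one_mul, h] at hm
        obtain ⟨k, hk⟩ := IsPGroup.iff_card.1 S.2
        rw [hk] at hm
        have : (3 : ℕ) ∣ 2 ^ k := by rw [hm]; norm_num
        have := (Nat.prime_dvd_prime_iff_eq Nat.prime_three Nat.prime_two).mp
          (Nat.prime_three.dvd_of_dvd_pow this)
        omega
      · have h2N : ¬ 2 ∣ Nat.card N := by
          rw [← hNc.index_eq_card]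
          exact S.not_dvd_index
        rw [hb, Subgroup.card_top, h] at h2N
        norm_num at h2N)
    (fun E hE _ => by
      rcases IsSimpleGroup.eq_bot_or_eq_top_of_normal E hE with hb | hb
      · rw [hb, Subgroup.card_bot]; norm_num
      · rw [hb, Subgroup.card_top, h]; norm_num)
  have h60 := Nat.card_congr ι.toEquiv
  rw [h, nat_card_alternatingGroup, Nat.card_fin] at h60
  norm_num [Nat.factorial] at h60

/-- The orders handled by the criterion: the order and the prime used. -/
def deadList : List (ℕ × ℕ) :=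
  [(76, 19), (152, 19), (228, 19), (380, 19), (456, 19), (532, 19), (760, 19), (836, 19),
    (1064, 19), (1140, 5), (1596, 19), (1672, 19), (2280, 19), (2508, 19), (2660, 19), (3192, 19),
    (4180, 19), (5016, 19), (5320, 19), (5852, 11), (8360, 19), (11704, 11), (12540, 19),
    (15960, 19), (17556, 11), (25080, 19), (29260, 19), (35112, 7)]

theorem deadList_spec : (deadList.all fun gp =>
    decide (gp.1 % gp.2 = 0) && decide (gp.1 / gp.2 % gp.2 ≠ 0) && decide (gp.1 / gp.2 ≠ 1) &&
      dead gp.1 gp.2) = true := by decide +kernel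

theorem deadList_cover : ((List.range 9241).all fun k => decide (k = 0) || decide (9240 % k ≠ 0) ||
    decide (k % 4 ≠ 0) || decide (k = 9240) || (deadList.map Prod.fst).contains (19 * k) ||
    [7980, 58520, 87780].contains (19 * k)) = true := by decide +kernel

/-- A simple group whose order is a proper divisor of `175560` divisible by `19` has order `19`. -/
theorem card_eq_nineteen (hd : Nat.card G ∣ 175560) (h19 : 19 ∣ Nat.card G)
    (hne : Nat.card G ≠ 175560) : IsMulCommutative G := by
  by_contra hG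
  obtain ⟨k, hk⟩ := h19
  have hk9 : k ∣ 9240 := by
    rw [hk, show (175560 : ℕ) = 19 * 9240 by norm_num] at hd
    exact Nat.dvd_of_mul_dvd_mul_left (by norm_num) hd
  have hkle := Nat.le_of_dvd (by norm_num) hk9
  have hk0 : k ≠ 0 := by rintro rfl; simp at hk9
  have h4 : 4 ∣ k := by
    by_contra h4
    by_cases h2 : 2 ∣ k
    · obtain ⟨H, hH⟩ := Involutions.IndexTwo.exists_index_two_of_mod_four (G := G) (by omega)
      exact SmallOrderKills.index_ne_two hG H hH
    · -- odd squarefree order: a cyclic Sylow subgroup for the smallest prime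
      haveI : Fact (Nat.card G).minFac.Prime := ⟨Nat.minFac_prime (by rw [hk]; omega)⟩
      set p := (Nat.card G).minFac with hp
      have hpd : p ∣ Nat.card G := Nat.minFac_dvd _
      have hsq : ¬ p ^ 2 ∣ Nat.card G := by
        intro h'
        have hdd : p ^ 2 ∣ 175560 := h'.trans hd
        have hp2 : p ≠ 2 := fun e => by rw [e] at hpd; omega
        have hle : p ^ 2 ≤ 175560 := Nat.le_of_dvd (by norm_num) hdd
        have hd' : p ∣ 175560 := (dvd_pow_self p two_ne_zero).trans hdd
        have hpp : p.Prime := Fact.out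
        have : p = 2 ∨ p = 3 ∨ p = 5 ∨ p = 7 ∨ p = 11 ∨ p = 19 := by
          rw [show (175560 : ℕ) = 2 * (2 * (2 * (3 * (5 * (7 * (11 * 19)))))) by norm_num] at hd'
          simp only [hpp.dvd_mul, Nat.prime_dvd_prime_iff_eq hpp Nat.prime_two,
            Nat.prime_dvd_prime_iff_eq hpp Nat.prime_three,
            Nat.prime_dvd_prime_iff_eq hpp (by norm_num : Nat.Prime 5),
            Nat.prime_dvd_prime_iff_eq hpp (by norm_num : Nat.Prime 7),
            Nat.prime_dvd_prime_iff_eq hpp (by norm_num : Nat.Prime 11),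
            Nat.prime_dvd_prime_iff_eq hpp (by norm_num : Nat.Prime 19)] at hd'
          tauto
        rcases this with e | e | e | e | e | e <;> rw [e] at hdd hp2 <;>
          first
            | (norm_num at hdd; done)
            | (norm_num at hp2; done)
      let S : Sylow p G := default
      have hS : Nat.card (S : Subgroup G) = p := by
        obtain ⟨j, hj⟩ := IsPGroup.iff_card.1 S.2
        have hd' : Nat.card (S : Subgroup G) ∣ Nat.card G := Subgroup.card_subgroup_dvd_card _
        rw [hj] at hd' ⊢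
        rcases j with _ | _ | j
        · exfalso
          have h' := S.not_dvd_index
          have hm := Subgroup.card_mul_index (S : Subgroup G)
          rw [hj, pow_zero, one_mul] at hm
          exact h' (hm ▸ hpd)
        · rw [zero_add, pow_one]
        · exact absurd ((pow_dvd_pow p (by omega)).trans hd') hsq
      haveI hcyc : IsCyclic ↥(S : Subgroup G) := isCyclic_of_prime_card hS
      obtain ⟨N, hNn, hc⟩ : ∃ N : Subgroup G, N.Normal ∧ N.IsComplement' (S : Subgroup G) :=
        ⟨_, inferInstance, hcyc.isComplement' hp.symm⟩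
      have hm := hc.card_mul_card
      rw [hS] at hm
      rcases IsSimpleGroup.eq_bot_or_eq_top_of_normal N hNn with hb | hb
      · rw [hb, Subgroup.card_bot, one_mul] at hm
        haveI := isCyclic_of_prime_card (α := G) (p := p) hm.symm
        exact hG inferInstance
      · rw [hb, Subgroup.card_top] at hm
        have : 1 < p := (Fact.out : p.Prime).one_lt
        have : 0 < Nat.card G := Nat.card_pos
        nlinarith
  have hcov := deadList_cover
  simp only [List.all_eq_true, List.mem_range, Bool.or_eq_true, decide_eq_true_eq,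
    List.contains_iff_mem] at hcov
  rcases hcov k (by omega) with ((((e | e) | e) | e) | e) | e
  · exact hk0 e
  · exact e (Nat.mod_eq_zero_of_dvd hk9)
  · exact e (Nat.mod_eq_zero_of_dvd h4)
  · exact hne (by rw [hk, e])
  · simp only [List.mem_map] at e
    obtain ⟨⟨g, p⟩, hmem, hg⟩ := e
    have hspec := List.all_eq_true.mp deadList_spec _ hmem
    simp only [Bool.and_eq_true, decide_eq_true_eq] at hspec
    obtain ⟨⟨⟨e1, e2⟩, e3⟩, e4⟩ := hspec
    have hpp : p.Prime ∧ p ≠ 2 := by
      simp only [deadList, List.mem_cons, List.not_mem_nil, or_false, Prod.mk.injEq] at hmem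
      rcases (show p = 19 ∨ p = 5 ∨ p = 11 ∨ p = 7 by omega) with rfl | rfl | rfl | rfl <;>
        norm_num
    haveI : Fact p.Prime := ⟨hpp.1⟩
    exact false_of_dead hG (hk.trans hg.symm) hpp.2 (Nat.dvd_of_mod_eq_zero e1) e2 e3 e4
  · simp only [List.mem_cons, List.not_mem_nil, or_false] at e
    rcases e with e | e | e
    · exact card_ne_7980 (hk.trans e)
    · exact card_ne_58520 (hk.trans e)
    · exact card_ne_87780 (hk.trans e)

end Cfsg.Agent.Lib.Classif.Order175560
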