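import Cfsg.Agent.Lib.Classif.SmallOrderKills4

/-!
No simple group has order `4032 = 2 ^ 6 * 3 ^ 2 * 7`.  The hardest case has a self-centralising
Sylow 7-subgroup with dihedral normaliser; there `∑ a, D (u * a u a⁻¹) = 7 |C(u)| ^ 2` for the
function `D = (1 - λ)^G` and an involution `u` contradicts the degrees `8` and `9`.
-/

set_option autoImplicit false
set_option linter.style.haveILetI false
set_option linter.unusedSectionVars false

namespace Cfsg.Agent.Lib.Classif.Order4032

open Cfsg.Agent.Lib.SmallGroups Cfsg.Agent.Lib.Classif.SmallOrderTools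
  Cfsg.Agent.Lib.Classif.SmallOrderKills3 Cfsg.Agent.Lib.Classif.PrimeExceptional
  Cfsg.Agent.Lib.Induced.CNFamily Cfsg.Agent.Lib.Induced.Basic

variable {G : Type*} [Group G] [Finite G]

/-- An element normalising but not centralising `P` fixes at most one Sylow subgroup in each
non-trivial orbit of `P`. -/
theorem card_fixed_noncentral_le {p : ℕ} [hp : Fact p.Prime] (P : Sylow p G)
    (hP : Nat.card (P : Subgroup G) = p) {u : G}
    (hu : u ∈ Subgroup.normalizer ((P : Subgroup G) : Set G))
    (huC : u ∉ Subgroup.centralizer ((P : Subgroup G) : Set G)) :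
    p * Nat.card {Q : Sylow p G // u • Q = Q} + 1 ≤ p + Nat.card (Sylow p G) := by
  classical
  have hfix : ∀ x ∈ (P : Subgroup G), x • P = P := fun x hx =>
    Sylow.smul_eq_iff_mem_normalizer.mpr (Subgroup.le_normalizer hx)
  have hcomm : ∀ x ∈ (P : Subgroup G), u * x = x * u → x = 1 := by
    intro x hx he
    by_contra h1
    apply huC
    rw [Subgroup.mem_centralizer_iff]
    intro y hy
    rw [SetLike.mem_coe, ← PrimeExceptional.zpowers_eq P hP hx h1] at hy
    obtain ⟨k, rfl⟩ := Subgroup.mem_zpowers_iff.mp hy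
    exact ((Commute.symm he).zpow_left k).eq
  have h1 : Nat.card {Q : Sylow p G // Q ≠ P} + 1 = Nat.card (Sylow p G) := by
    haveI := Fintype.ofFinite (Sylow p G)
    rw [Nat.card_eq_fintype_card, Nat.card_eq_fintype_card, Fintype.card_subtype_compl,
      Fintype.card_subtype_eq]
    have : 0 < Fintype.card (Sylow p G) := Fintype.card_pos
    omega
  let f : {Q : Sylow p G // u • Q = Q} × (P : Subgroup G) →
      (P : Subgroup G) ⊕ {Q : Sylow p G // Q ≠ P} := fun Qx =>
    if hQ : Qx.1.1 = P then Sum.inl Qx.2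
    else Sum.inr ⟨(Qx.2 : G) • Qx.1.1, fun he =>
      hQ (MulAction.injective (Qx.2 : G) (he.trans (hfix _ Qx.2.2).symm))⟩
  have hf : Function.Injective f := by
    rintro ⟨⟨Q, hQ⟩, ⟨x, hx⟩⟩ ⟨⟨R, hR⟩, ⟨y, hy⟩⟩ he
    simp only [f] at he
    split_ifs at he with hA hB hB
    · simp only [Sum.inl.injEq] at he
      subst hA hB
      cases he
      rfl
    · simp only [Sum.inr.injEq, Subtype.mk.injEq] at he
      have hz : (y⁻¹ * x) • Q = R := by rw [mul_smul, he, inv_smul_smul]
      have hzP : y⁻¹ * x ∈ (P : Subgroup G) := mul_mem (inv_mem hy) hx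
      have huzP : u * (y⁻¹ * x) * u⁻¹ ∈ (P : Subgroup G) :=
        (Subgroup.mem_normalizer_iff.mp hu _).mp hzP
      have h2 : ((y⁻¹ * x)⁻¹ * (u * (y⁻¹ * x) * u⁻¹)) • Q = Q := by
        have hu' : u⁻¹ • Q = Q := inv_smul_eq_iff.mpr hQ.symm
        rw [mul_smul, mul_smul, mul_smul u, hu', hz, hR, inv_smul_eq_iff]
        exact hz.symm
      have h3 : (y⁻¹ * x)⁻¹ * (u * (y⁻¹ * x) * u⁻¹) = 1 := by
        by_contra hne
        exact hA (eq_of_smul_eq_of_prime P Q hP (mul_mem (inv_mem hzP) huzP) hne h2)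
      have hxy : x = y := by
        have h4 := hcomm _ hzP (mul_inv_eq_iff_eq_mul.mp (inv_mul_eq_one.mp h3).symm)
        exact (inv_mul_eq_one.mp h4).symm
      subst hxy
      have : Q = R := by simpa using hz
      subst this
      rfl
  have h2 := Nat.card_le_card_of_injective f hf
  rw [Nat.card_prod, Nat.card_sum, hP, mul_comm] at h2
  omega

section ClassSum

variable [Fintype G] {p : ℕ} [hp : Fact p.Prime]

/-- The class sum of `(1 - λ)^G` over products of two conjugates of an inverting involution. -/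
theorem sum_bigD_involution (P : Sylow p G) (hP : Nat.card (P : Subgroup G) = p) (hp2 : p ≠ 2)
    (hC : Subgroup.centralizer ((P : Subgroup G) : Set G) = P) (lam : (P : Subgroup G) →* ℂˣ)
    (hlam : lam ≠ 1) {u : G} (hu : u ∈ Subgroup.normalizer ((P : Subgroup G) : Set G))
    (hu2 : orderOf u = 2) :
    ∑ a : G, bigD (P : Subgroup G) lam (u * (a * u * a⁻¹)) =
      (p : ℂ) * (Nat.card (Subgroup.centralizer ({u} : Set G)) : ℂ) ^ 2 := by
  classical
  have hne : ∀ v : G, v ∈ (P : Subgroup G) → v * v = 1 → v = 1 := by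
    intro v hv h
    have := FixedSylow.pow_eq_one P hP hv
    obtain ⟨k, rfl⟩ := hp.out.odd_of_ne_two hp2
    rwa [pow_succ, pow_mul, pow_two, h, one_pow, one_mul] at this
  have huu : u * u = 1 := by rw [← pow_two, ← hu2, pow_orderOf_eq_one]
  have huP : u ∉ (P : Subgroup G) := fun h => by
    rw [hne u h huu, orderOf_one] at hu2; omega
  set E : G → ℂ := Cfsg.extendByZero (P : Subgroup G) (phi lam) with hE
  set C0 := Nat.card (Subgroup.centralizer ({u} : Set G)) with hC0
  set K : Finset G := Finset.univ.image fun g => g * u * g⁻¹ with hK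
  have hfibre : ∀ v ∈ K, (Finset.univ.filter fun g : G => g * u * g⁻¹ = v).card = C0 := by
    intro v hv
    obtain ⟨b, -, rfl⟩ := Finset.mem_image.mp hv
    rw [← Fintype.card_subtype, ← Nat.card_eq_fintype_card, hC0]
    refine Nat.card_congr ((Equiv.mulLeft b⁻¹).subtypeEquiv fun g => ?_)
    rw [eq_comm]
    exact FixedSylow.conj_eq_iff
  have hclass : ∀ f : G → ℂ, ∑ g : G, f (g * u * g⁻¹) = (C0 : ℂ) * ∑ v ∈ K, f v := by
    intro f
    rw [← Finset.sum_fiberwise_of_maps_to (g := fun g : G => g * u * g⁻¹)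
      (fun g _ => Finset.mem_image_of_mem (fun g => g * u * g⁻¹) (Finset.mem_univ g)),
      Finset.mul_sum]
    refine Finset.sum_congr rfl fun v hv => ?_
    rw [Finset.sum_congr rfl (g := fun _ => f v) fun g hg => by rw [(Finset.mem_filter.mp hg).2],
      Finset.sum_const, hfibre v hv, nsmul_eq_mul]
  have hswap : ∀ g : G, ∑ a : G, E (g⁻¹ * (u * (a * u * a⁻¹)) * g) =
      ∑ b : G, E ((g⁻¹ * u * g⁻¹⁻¹) * (b * u * b⁻¹)) := by
    intro g
    refine Fintype.sum_equiv (Equiv.mulLeft g⁻¹) _ _ fun a => ?_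
    simp only [Equiv.coe_mulLeft]
    congr 1
    group
  have hsum : ∑ a : G, bigD (P : Subgroup G) lam (u * (a * u * a⁻¹)) =
      (p : ℂ)⁻¹ * ((C0 : ℂ) * ((C0 : ℂ) * ∑ v ∈ K, ∑ w ∈ K, E (v * w))) := by
    simp only [bigD, Cfsg.indFun, ← Finset.mul_sum, hP]
    congr 1
    rw [Finset.sum_comm, Finset.sum_congr rfl fun g _ => hswap g, ← Equiv.sum_comp (Equiv.inv G)]
    simp only [Equiv.inv_apply, inv_inv]
    rw [hclass fun v => ∑ b : G, E (v * (b * u * b⁻¹))]
    rw [Finset.mul_sum, Finset.mul_sum, Finset.mul_sum]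
    exact Finset.sum_congr rfl fun v _ => by rw [hclass fun w => E (v * w)]
  -- the elements of `K`
  have hsq : ∀ v ∈ K, v * v = 1 ∧ v ≠ 1 := by
    intro v hv
    obtain ⟨b, -, rfl⟩ := Finset.mem_image.mp hv
    refine ⟨by rw [conj_mul, huu, mul_one, mul_inv_cancel], fun h => ?_⟩
    rw [conj_eq_one_iff.mp h, orderOf_one] at hu2
    omega
  have hinv : ∀ x ∈ (P : Subgroup G), u * x * u⁻¹ = x⁻¹ :=
    (FixedSylow.inverts_or_centralizes P hP hu huu).resolve_left fun h => huP (hC ▸ h)
  have hcoset : ∀ x ∈ (P : Subgroup G), u * x ∈ K := by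
    intro x hx
    obtain ⟨k, hk⟩ := hp.out.odd_of_ne_two hp2
    have hy : (x ^ (k + 1)) ∈ (P : Subgroup G) := pow_mem hx _
    refine Finset.mem_image.mpr ⟨(x ^ (k + 1))⁻¹, Finset.mem_univ _, ?_⟩
    have h := hinv _ hy
    rw [mul_inv_eq_iff_eq_mul] at h
    rw [inv_inv, ← h, mul_assoc, ← pow_add,
      show k + 1 + (k + 1) = p + 1 by omega, pow_succ, FixedSylow.pow_eq_one P hP hx, one_mul]
  have hmemN : ∀ v ∈ K, v ∈ Subgroup.normalizer ((P : Subgroup G) : Set G) →
      ∃ x ∈ (P : Subgroup G), v = u * x := by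
    intro v hv hvN
    have hvinv : ∀ x ∈ (P : Subgroup G), v * x * v⁻¹ = x⁻¹ := by
      refine (FixedSylow.inverts_or_centralizes P hP hvN (hsq v hv).1).resolve_left fun h => ?_
      exact (hsq v hv).2 (hne v (hC ▸ h) (hsq v hv).1)
    refine ⟨u⁻¹ * v, ?_, by group⟩
    rw [← hC, Subgroup.mem_centralizer_iff]
    intro x hx
    have h1 := mul_inv_eq_iff_eq_mul.mp (hvinv x hx)
    have h2 := hinv x⁻¹ (inv_mem hx)
    rw [inv_inv, mul_inv_eq_iff_eq_mul] at h2
    rw [inv_eq_of_mul_eq_one_right huu, mul_assoc u v x, h1, ← mul_assoc u, h2, mul_assoc]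
  have hinner : ∀ v ∈ K, ∑ w ∈ K, E (v * w) =
      if v ∈ Subgroup.normalizer ((P : Subgroup G) : Set G) then (p : ℂ) else 0 := by
    intro v hv
    have h1 : ∑ w ∈ K, E (v * w) =
        ∑ x : (P : Subgroup G), if v * (x : G) ∈ K then phi lam x else 0 := by
      rw [← Finset.sum_filter]
      symm
      refine Finset.sum_of_injOn (fun x : (P : Subgroup G) => v * (x : G))
        (fun x _ y _ h => Subtype.ext (mul_left_cancel h))
        (fun x hx => (Finset.mem_filter.mp hx).2) (fun w hw hw' => ?_) (fun x hx => ?_)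
      · refine extendByZero_of_not_mem _ _ fun hmem => hw' ⟨⟨v * w, hmem⟩, ?_, ?_⟩
        · simp only [Finset.coe_filter, Finset.mem_univ, true_and, Set.mem_ofPred_eq]
          rwa [← mul_assoc, (hsq v hv).1, one_mul]
        · simp only
          rw [← mul_assoc, (hsq v hv).1, one_mul]
      · rw [← mul_assoc, (hsq v hv).1, one_mul, hE, extendByZero_coe]
    rw [h1]
    split_ifs with hN
    · obtain ⟨x₀, hx₀, rfl⟩ := hmemN v hv hN
      rw [Finset.sum_congr rfl (g := fun x => phi lam x) fun x _ =>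
        if_pos (by rw [mul_assoc]; exact hcoset _ (mul_mem hx₀ x.2))]
      simp only [phi, Finset.sum_sub_distrib, Finset.sum_const, Finset.card_univ, nsmul_eq_mul,
        mul_one]
      have h0 := sum_hom_units_eq_zero ((Units.coeHom ℂ).comp lam) fun h =>
        hlam (MonoidHom.ext fun x => Units.ext (DFunLike.congr_fun h x))
      simp only [MonoidHom.coe_comp, Function.comp_apply, Units.coeHom_apply] at h0
      rw [← Nat.card_eq_fintype_card, hP, h0, sub_zero]
    · refine Finset.sum_eq_zero fun x _ => ?_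
      split_ifs with hx
      · by_cases hx1 : x = 1
        · rw [hx1, phi_apply_one]
        · exfalso
          apply hN
          have hmem : v * (x : G) * v⁻¹ ∈ (P : Subgroup G) := by
            have : v * (x : G) * v⁻¹ = (x : G)⁻¹ := by
              rw [inv_eq_of_mul_eq_one_right (hsq v hv).1]
              have h' := (hsq _ hx).1
              exact eq_inv_of_mul_eq_one_left (by rw [mul_assoc _ v]; simpa [mul_assoc] using h')
            rw [this]
            exact inv_mem x.2
          by_contra hvN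
          exact hx1 (Subtype.ext (PrimeExceptional.hTI P hP v hvN _ x.2 hmem))
      · rfl
  rw [hsum, Finset.sum_congr rfl hinner, ← Finset.sum_filter, Finset.sum_const, nsmul_eq_mul]
  have hcard : (K.filter fun v => v ∈ Subgroup.normalizer ((P : Subgroup G) : Set G)).card = p := by
    conv_rhs => rw [← hP, Nat.card_eq_fintype_card, ← Finset.card_univ]
    refine (Finset.card_bij (fun (x : (P : Subgroup G)) (_ : x ∈ Finset.univ) => u * (x : G))
      (fun x _ => ?_)
      (fun x _ y _ h => by simpa using h) (fun v hv => ?_)).symm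
    · exact Finset.mem_filter.mpr ⟨hcoset _ x.2, mul_mem hu (Subgroup.le_normalizer x.2)⟩
    · obtain ⟨x, hx, rfl⟩ := hmemN v (Finset.mem_filter.mp hv).1 (Finset.mem_filter.mp hv).2
      exact ⟨⟨x, hx⟩, Finset.mem_univ _, rfl⟩
  have hp0 : (p : ℂ) ≠ 0 := Nat.cast_ne_zero.mpr hp.out.ne_zero
  rw [hcard]
  field_simp

end ClassSum

variable [IsSimpleGroup G]

theorem factorization_pow_mul {p k m : ℕ} (hp : p.Prime) (hm : ¬ p ∣ m) :
    (p ^ k * m).factorization p = k := by
  have hm0 : m ≠ 0 := fun e => hm (e ▸ dvd_zero p)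
  rw [Nat.factorization_mul (pow_ne_zero k hp.ne_zero) hm0, Finsupp.add_apply,
    Nat.Prime.factorization_pow hp, Finsupp.single_eq_same,
    Nat.factorization_eq_zero_of_not_dvd hm, add_zero]

theorem case_288 (h : Nat.card G = 4032) [Fact (Nat.Prime 7)] (P : Sylow 7 G)
    (hP : Nat.card (P : Subgroup G) = 7)
    (hC : Subgroup.centralizer ((P : Subgroup G) : Set G) = P)
    (hN : Nat.card (Subgroup.normalizer ((P : Subgroup G) : Set G)) = 2 * 7) : False := by
  classical
  haveI : Fintype G := Fintype.ofFinite G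
  have hG := not_comm h (by norm_num)
  obtain ⟨F⟩ := exists_family P hP hC hN (Or.inl rfl) (by norm_num) (Or.inl rfl)
  have ht := card_rep P hP hC hN
  haveI := Fintype.ofFinite (Rep (P : Subgroup G))
  haveI : Nonempty (Rep (P : Subgroup G)) := (Nat.card_pos_iff.mp (by omega)).1
  let r := Classical.arbitrary (Rep (P : Subgroup G))
  obtain ⟨χ, hχ⟩ := Finset.card_eq_one.mp (show F.K.card = 1 by have := F.card_K; omega)
  have hχK : χ ∈ F.K := by rw [hχ]; exact Finset.mem_singleton_self _
  have hperf := Sylow.commutator_eq_top hG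
  have hχ2 := two_le_deg hperf χ (fun e => F.one_not_mem (e ▸ hχK))
  have hθ2 := two_le_deg hperf (F.θ r) (F.θ_not_mem r).2
  have hχd : (deg χ).natAbs ∣ 4032 := by
    rw [natAbs_deg, ← h]; exact H80.ClassMult.charDegree_dvd_card χ
  have hθd : (deg (F.θ r)).natAbs ∣ 4032 := by
    rw [natAbs_deg, ← h]; exact H80.ClassMult.charDegree_dvd_card _
  have hsum : ∀ r, F.σ χ * deg χ + F.ε r * deg (F.θ r) = -1 := fun r => by
    have := F.degree_sum r; rwa [hχ, Finset.sum_singleton] at this
  have hsq := F.square_sum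
  rw [hχ, Finset.sum_singleton, finsum_eq_sum_of_fintype, h] at hsq
  have e2 : ∀ s, deg (F.θ s) ^ 2 = deg (F.θ r) ^ 2 := fun s => by
    have h1 : F.ε s * deg (F.θ s) = F.ε r * deg (F.θ r) := by linarith [hsum r, hsum s]
    rcases F.ε_unit r with hr | hr <;> rcases F.ε_unit s with hs | hs <;> rw [hr, hs] at h1 <;>
      nlinarith
  rw [Finset.sum_congr rfl fun s _ => e2 s, Finset.sum_const, Finset.card_univ, nsmul_eq_mul,
    ← Nat.card_eq_fintype_card, show Nat.card (Rep (P : Subgroup G)) = 3 by omega] at hsq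
  have hcK := F.cong_K χ hχK
  have hr := hsum r
  obtain ⟨hσ, hε, hd⟩ : F.σ χ = 1 ∧ F.ε r = -1 ∧ deg χ = 8 := by
    norm_num at hcK hsq
    rcases F.σ_unit χ hχK with hs | hs <;> rcases F.ε_unit r with he | he <;>
      rw [hs] at hcK hr ⊢ <;> rw [he] at hr ⊢ <;> refine ⟨?_, ?_, ?_⟩ <;> try omega
    all_goals
      have e : deg (F.θ r) = deg χ + 1 ∨ deg (F.θ r) = deg χ - 1 := by omega
      rcases e with e | e <;> rw [e] at hθd hsq <;>
        (have hb : deg χ ≤ 32 := by nlinarith) <;>
        interval_cases (deg χ) <;> first | omega | norm_num at *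
  have hd9 : deg (F.θ r) = 9 := by rw [hσ, hε, hd] at hr; omega
  -- an involution of the normaliser
  obtain ⟨u', hu'⟩ := exists_prime_orderOf_dvd_card'
    (G := Subgroup.normalizer ((P : Subgroup G) : Set G)) 2 (by rw [hN]; norm_num)
  obtain ⟨u, hu⟩ := u'
  rw [Subgroup.orderOf_mk] at hu'
  have huu : u * u = 1 := by rw [← pow_two, ← hu', pow_orderOf_eq_one]
  have hD0 : bigD (P : Subgroup G) (rep r) u = 0 := by
    refine indFun_eq_zero_of_forall_not_mem _ _ fun x hx => ?_
    have h7 := FixedSylow.pow_eq_one P hP hx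
    rw [show x⁻¹ * u * x = x⁻¹ * u * x⁻¹⁻¹ by rw [inv_inv], conj_pow, conj_eq_one_iff] at h7
    have h2 := orderOf_dvd_of_pow_eq_one h7
    rw [hu'] at h2
    norm_num at h2
  obtain ⟨a, ha⟩ := Fg6.NormThree.exists_int_involution χ huu
  have hexp := F.expansion r
  simp only [hχ, Finset.sum_singleton, hσ, hε, Int.cast_one, one_mul, Int.cast_neg,
    neg_one_mul] at hexp
  have hθu : (F.θ r : G → ℂ) u = 1 + (a : ℂ) := by
    have := hexp u; rw [hD0, ha] at this; linear_combination this
  have hS := sum_bigD_involution P hP (by norm_num) hC (rep r) (rep_ne_one r) hu hu'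
  simp only [hexp, Finset.sum_add_distrib, Finset.sum_neg_distrib,
    H80.ClassMult.sum_apply_mul_conj, Finset.sum_const, Finset.card_univ, nsmul_eq_mul,
    mul_one] at hS
  rw [← Nat.card_eq_fintype_card, h, ha, hθu, apply_one_eq, apply_one_eq, hd, hd9] at hS
  set c := Nat.card (Subgroup.centralizer ({u} : Set G)) with hc
  have hint : (c : ℤ) ^ 2 = 8 * (a - 8) ^ 2 := by
    have : ((c : ℂ)) ^ 2 = 8 * ((a : ℂ) - 8) ^ 2 := by
      push_cast at hS; linear_combination (-1 / 7 : ℂ) * hS
    exact_mod_cast this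
  have hnat : c ^ 2 = 2 * (2 * (a - 8).natAbs) ^ 2 := by
    have := congrArg Int.natAbs hint
    rw [Int.natAbs_pow, Int.natAbs_natCast, Int.natAbs_mul, Int.natAbs_pow] at this
    rw [this]
    norm_num
    ring
  have hc0 : c ≠ 0 := Nat.card_pos.ne'
  have hz : 2 * (a - 8).natAbs ≠ 0 := fun e => by
    rw [e] at hnat; exact hc0 (pow_eq_zero_iff two_ne_zero |>.mp (by simpa using hnat))
  have h2 := congrArg (fun n => n.factorization 2) hnat
  simp only [Nat.factorization_pow, Nat.factorization_mul two_ne_zero (pow_ne_zero 2 hz),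
    Finsupp.add_apply, Nat.prime_two.factorization, Finsupp.single_eq_same, Finsupp.smul_apply,
    smul_eq_mul] at h2
  omega

theorem case_64 (h : Nat.card G = 4032) [Fact (Nat.Prime 7)] (P : Sylow 7 G)
    (hP : Nat.card (P : Subgroup G) = 7) (hn : Nat.card (Sylow 7 G) = 64)
    (hC : Nat.card (Subgroup.centralizer ((P : Subgroup G) : Set G)) = 21) : False := by
  classical
  have hG := not_comm h (by norm_num)
  haveI : Fact (Nat.Prime 3) := ⟨by norm_num⟩
  set C := Subgroup.centralizer ((P : Subgroup G) : Set G) with hCdef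
  set N := Subgroup.normalizer ((P : Subgroup G) : Set G) with hNdef
  have hN : Nat.card N = 63 := by
    have := Sylow.card_normalizer_mul P
    rw [hn, h, ← hNdef] at this
    omega
  obtain ⟨⟨y, hyC⟩, hy⟩ := exists_prime_orderOf_dvd_card' (G := C) 3 (by rw [hC]; norm_num)
  rw [Subgroup.orderOf_mk] at hy
  have hy1 : y ≠ 1 := fun e => by rw [e, orderOf_one] at hy; omega
  have hy3 : y ^ 3 ^ 1 = 1 := by rw [pow_one, ← hy, pow_orderOf_eq_one]
  obtain ⟨hf1, hf2⟩ := fixed_facts hG P hP hyC hy1 (hn ▸ by norm_num)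
  have hf3 : Nat.card {Q : Sylow 7 G // y • Q = Q} % 3 = 1 := by
    have h3 := card_fixed_commute_modEq (α := Sylow 7 G) (p := 3) 1 y hy3 (Commute.one_left y)
    simp only [one_smul, true_and] at h3
    rw [Nat.card_congr (Equiv.subtypeUnivEquiv (p := fun _ : Sylow 7 G => True) fun _ => trivial),
      hn] at h3
    exact h3.symm
  set f := Nat.card {Q : Sylow 7 G // y • Q = Q} with hf
  have hst : MulAction.stabilizer G P = N := P.stabilizer_eq_normalizer
  have hcount := FixedSylow.card_fixed_mul P y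
  rw [hst, hN, ← hf] at hcount
  set cy := Nat.card (Subgroup.centralizer ({y} : Set G)) with hcy
  have hcyd : cy ∣ 4032 := h ▸ Subgroup.card_subgroup_dvd_card _
  have hCN : C ≤ N := Sylow.centralizer_le_normalizer _
  -- the elements of order three of `C`
  obtain ⟨T₀, hT₀, hT₀n⟩ : ∃ T : Subgroup C, Nat.card T = 3 ∧ T.Normal := by
    let S : Sylow 3 C := default
    have hS : Nat.card (S : Subgroup C) = 3 := by
      rw [Sylow.card_eq_multiplicity, hC, show (21 : ℕ) = 3 ^ 1 * 7 by norm_num,
        factorization_pow_mul (by norm_num) (by norm_num), pow_one]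
    refine ⟨S, hS, ?_⟩
    have hPn : (P : Subgroup G).subgroupOf C ≤ Subgroup.normalizer ((S : Subgroup C) : Set C) := by
      intro x hx
      rw [Subgroup.mem_normalizer_iff]
      intro w
      have e : x * w * x⁻¹ = w := by
        rw [mul_inv_eq_iff_eq_mul]
        exact Subtype.ext (Subgroup.mem_centralizer_iff.mp w.2 (x : G) hx)
      rw [e]
    have h21 : 21 ∣ Nat.card (Subgroup.normalizer ((S : Subgroup C) : Set C)) := by
      refine Nat.Coprime.mul_dvd_of_dvd_of_dvd (m := 3) (n := 7) (by norm_num) ?_ ?_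
      · exact (dvd_of_eq hS.symm).trans (Subgroup.card_dvd_of_le Subgroup.le_normalizer)
      · have hPC : (P : Subgroup G) ≤ C := by
          intro x hx
          haveI := isCyclic_of_prime_card hP
          rw [hCdef, Subgroup.mem_centralizer_iff]
          intro y hy
          exact congrArg Subtype.val
            ((IsCyclic.commGroup (α := (P : Subgroup G))).mul_comm ⟨y, hy⟩ ⟨x, hx⟩)
        have e := Nat.card_congr (Subgroup.subgroupOfEquivOfLe hPC).toEquiv
        exact (dvd_of_eq (hP.symm.trans e.symm)).trans (Subgroup.card_dvd_of_le hPn)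
    have hn3 := Sylow.card_normalizer_mul S
    rw [hC] at hn3
    have : Nat.card (Sylow 3 C) = 1 := by
      obtain ⟨k, hk⟩ := h21
      rw [hk, mul_assoc] at hn3
      have h1 : k * Nat.card (Sylow 3 C) = 1 := by omega
      exact Nat.eq_one_of_mul_eq_one_left h1
    haveI := (Nat.card_eq_one_iff_unique.mp this).1
    exact Sylow.normal_of_subsingleton _
  have hord3 : ∀ z ∈ C, z ^ 3 = 1 → z = 1 ∨ z = y ∨ z = y⁻¹ := by
    intro z hz hz3
    have hmem : ∀ w : C, w ^ 3 = 1 → w ∈ T₀ := by
      intro w hw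
      have hle : T₀ ≤ T₀ ⊔ Subgroup.zpowers w := le_sup_left
      by_contra hwT
      have hcop : Nat.Coprime (Nat.card T₀) T₀.index := by
        have := Subgroup.index_mul_card T₀
        rw [hT₀, hC] at this
        rw [hT₀, show T₀.index = 7 by omega]
        norm_num
      apply hwT
      haveI := hT₀n
      rw [← QuotientGroup.eq_one_iff]
      have h1 : orderOf (w : C ⧸ T₀) ∣ 3 :=
        orderOf_dvd_of_pow_eq_one (by rw [← QuotientGroup.mk_pow, hw]; rfl)
      have h2 : orderOf (w : C ⧸ T₀) ∣ T₀.index := orderOf_dvd_natCard _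
      rw [hT₀] at hcop
      exact orderOf_eq_one_iff.mp (Nat.dvd_one.mp (hcop ▸ Nat.dvd_gcd h1 h2))
    have hyT : (⟨y, hyC⟩ : C) ∈ T₀ := hmem _ (Subtype.ext (by simpa using hy3))
    have hzT : (⟨z, hz⟩ : C) ∈ T₀ := hmem _ (Subtype.ext hz3)
    have hzy : Subgroup.zpowers (⟨y, hyC⟩ : C) = T₀ :=
      Subgroup.eq_of_le_of_card_ge (Subgroup.zpowers_le.mpr hyT)
        (by rw [hT₀, Nat.card_zpowers, Subgroup.orderOf_mk, hy])
    rw [← hzy] at hzT
    obtain ⟨k, hk⟩ := Subgroup.mem_zpowers_iff.mp hzT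
    have hk' : y ^ k = z := congrArg Subtype.val hk
    rw [← zpow_mod_orderOf, hy] at hk'
    have h0 : 0 ≤ k % ((3 : ℕ) : ℤ) := Int.emod_nonneg _ (by norm_num)
    have h1 : k % ((3 : ℕ) : ℤ) < 3 := Int.emod_lt_of_pos _ (by norm_num)
    generalize k % ((3 : ℕ) : ℤ) = j at hk' h0 h1
    interval_cases j
    · exact Or.inl (by rw [← hk', zpow_zero])
    · exact Or.inr (Or.inl (by rw [← hk', zpow_one]))
    · refine Or.inr (Or.inr ?_)
      rw [← hk']
      exact eq_inv_of_mul_eq_one_left (by rw [← zpow_add_one]; simpa using hy3)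
  have hconj3 : ∀ u : G, IsConj y u → u ^ 3 = 1 := by
    intro u hu
    obtain ⟨g, rfl⟩ := isConj_iff.mp hu
    rw [conj_pow, show y ^ 3 = 1 by simpa using hy3, mul_one, mul_inv_cancel]
  have hf123 : f = 1 ∨ f = 22 ∨ f = 43 := by rw [hn] at hf2; omega
  rcases eq_or_ne f 1 with hfe | hfe
  · -- `y` is central in the normaliser of a Sylow `3`-subgroup
    have hle : Subgroup.centralizer ({y} : Set G) ≤ N := by
      intro g hg
      rw [Subgroup.mem_centralizer_singleton_iff] at hg
      rw [hNdef]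
      refine Sylow.smul_eq_iff_mem_normalizer.mp ?_
      haveI := (Nat.card_eq_one_iff_unique.mp (hf ▸ hfe)).1
      have hyP : y • P = P := Sylow.smul_eq_iff_mem_normalizer.mpr (hCN hyC)
      exact congrArg Subtype.val (Subsingleton.elim
        (⟨g • P, by rw [smul_smul, ← hg, mul_smul, hyP]⟩ : {Q : Sylow 7 G // y • Q = Q}) ⟨P, hyP⟩)
    obtain ⟨S, hS⟩ := Sylow.exists_subgroup_card_pow_prime 3 (G := N) (n := 2) (by rw [hN]; norm_num)
    have hSc : Nat.card (S.map N.subtype) = 9 := by
      rw [Nat.card_congr (S.equivMapOfInjective _ N.subtype_injective).symm.toEquiv, hS]; norm_num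
    have hfac : Nat.card G = 3 ^ 2 * 448 := by rw [h]; norm_num
    let T : Sylow 3 G := Sylow.ofCard (S.map N.subtype) (by
      rw [hSc, hfac, factorization_pow_mul (by norm_num) (by norm_num)]
      norm_num)
    have hTN : (T : Subgroup G) ≤ N := Subgroup.map_subtype_le S
    have hTab : (T : Subgroup G) ≤ Subgroup.centralizer ((T : Subgroup G) : Set G) := by
      intro a ha
      rw [Subgroup.mem_centralizer_iff]
      intro b hb
      have hT2 : Nat.card (T : Subgroup G) = 3 ^ 2 := by rw [Sylow.coe_ofCard, hSc]; norm_num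
      exact congrArg Subtype.val
        ((IsPGroup.commGroupOfCardEqPrimeSq hT2).mul_comm (⟨b, hb⟩ : (T : Subgroup G)) ⟨a, ha⟩)
    -- `⟨y⟩` is normal in `N`, so lies in `T`
    have hnorm : ∀ g ∈ N, ∀ z ∈ C, g * z * g⁻¹ ∈ C := by
      intro g hg z hz
      rw [hCdef, Subgroup.mem_centralizer_iff] at hz ⊢
      intro x hx
      have hx' : g⁻¹ * x * g ∈ (P : Subgroup G) := by
        have := (Subgroup.mem_normalizer_iff.mp (inv_mem hg) x).mp hx
        rwa [inv_inv] at this
      have := hz _ hx'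
      calc x * (g * z * g⁻¹) = g * (g⁻¹ * x * g * z) * g⁻¹ := by group
        _ = g * (z * (g⁻¹ * x * g)) * g⁻¹ := by rw [this]
        _ = _ := by group
    have hyT : y ∈ (T : Subgroup G) := by
      have hZ : Subgroup.zpowers (⟨y, hCN hyC⟩ : N) ≤ S := by
        haveI : (Subgroup.zpowers (⟨y, hCN hyC⟩ : N)).Normal := by
          refine ⟨fun z hz g => ?_⟩
          obtain ⟨k, rfl⟩ := Subgroup.mem_zpowers_iff.mp hz
          rw [← conj_zpow]
          refine Subgroup.zpow_mem _ ?_ _
          rcases hord3 _ (hnorm g g.2 y hyC)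
            (hconj3 _ (isConj_iff.mpr ⟨g, rfl⟩)) with e | e | e
          · exact absurd (conj_eq_one_iff.mp e) hy1
          · rw [show g * (⟨y, hCN hyC⟩ : N) * g⁻¹ = ⟨y, hCN hyC⟩ from Subtype.ext e]
            exact Subgroup.mem_zpowers _
          · rw [show g * (⟨y, hCN hyC⟩ : N) * g⁻¹ = (⟨y, hCN hyC⟩ : N)⁻¹ from Subtype.ext e]
            exact inv_mem (Subgroup.mem_zpowers _)
        have hzS : IsPGroup 3 (Subgroup.zpowers (⟨y, hCN hyC⟩ : N)) :=
          IsPGroup.of_card (n := 1) (by rw [Nat.card_zpowers, Subgroup.orderOf_mk, hy, pow_one])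
        let S' : Sylow 3 N := Sylow.ofCard S (by
          rw [hS, hN, show (63 : ℕ) = 3 ^ 2 * 7 by norm_num,
            factorization_pow_mul (by norm_num) (by norm_num)])
        obtain ⟨R, hR⟩ := hzS.exists_le_sylow
        obtain ⟨g, hg⟩ := MulAction.exists_smul_eq N R S'
        intro z hz
        have hz' : g⁻¹ * z * g⁻¹⁻¹ ∈ Subgroup.zpowers (⟨y, hCN hyC⟩ : N) :=
          Subgroup.Normal.conj_mem inferInstance z hz g⁻¹
        have h2 : z ∈ (S' : Subgroup N) := by
          rw [← hg, Sylow.coe_subgroup_smul, Subgroup.mem_pointwise_smul_iff_inv_smul_mem]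
          simpa [MulAut.smul_def] using hR hz'
        simpa [S'] using h2
      exact ⟨⟨y, hCN hyC⟩, hZ (Subgroup.mem_zpowers _), rfl⟩
    have hTy : (T : Subgroup G) ≤ Subgroup.centralizer ({y} : Set G) := fun a ha =>
      Subgroup.mem_centralizer_singleton_iff.mpr ((Subgroup.mem_centralizer_iff.mp (hTab ha) y hyT)).symm
    have hPy : (P : Subgroup G) ≤ Subgroup.centralizer ({y} : Set G) := fun a ha =>
      Subgroup.mem_centralizer_singleton_iff.mpr (Subgroup.mem_centralizer_iff.mp hyC a ha)
    have h63 : 63 ∣ cy := by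
      refine Nat.Coprime.mul_dvd_of_dvd_of_dvd (m := 9) (n := 7) (by norm_num) ?_ ?_
      · have := Subgroup.card_dvd_of_le hTy
        rwa [Sylow.coe_ofCard, hSc] at this
      · exact (dvd_of_eq hP.symm).trans (Subgroup.card_dvd_of_le hPy)
    have hle' := Subgroup.card_dvd_of_le hle
    rw [hN] at hle'
    have hcy63 : cy = 63 := Nat.dvd_antisymm hle' h63
    rw [hfe, hcy63] at hcount
    have hsub : Nat.card {u : G // u ∈ N ∧ IsConj y u} = 1 := by omega
    haveI := (Nat.card_eq_one_iff_unique.mp hsub).1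
    refine hy1 (Sylow.eq_one_of_central_in_normalizer hG T hTab hyT fun n hn => ?_)
    have hnT : n * y * n⁻¹ ∈ (T : Subgroup G) := (Subgroup.mem_normalizer_iff.mp hn y).mp hyT
    have e : n * y * n⁻¹ = y := congrArg Subtype.val (Subsingleton.elim
      (⟨n * y * n⁻¹, hTN hnT, isConj_iff.mpr ⟨n, rfl⟩⟩ : {u : G // u ∈ N ∧ IsConj y u})
      ⟨y, hCN hyC, IsConj.refl y⟩)
    exact mul_inv_eq_iff_eq_mul.mp e
  · have hin : ∀ u : {u : G // u ∈ N ∧ IsConj y u}, u.1 = y ∨ u.1 = y⁻¹ := by
      rintro ⟨u, huN, huc⟩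
      have huC : u ∈ C := by
        by_contra hno
        have := card_fixed_noncentral_le P hP huN hno
        rw [← FixedSylow.card_fixed_conj huc, ← hf, hn] at this
        omega
      rcases hord3 u huC (hconj3 u huc) with e | e | e
      · exfalso
        obtain ⟨g, hg⟩ := isConj_iff.mp huc
        exact hy1 (conj_eq_one_iff.mp (hg.trans e))
      · exact Or.inl e
      · exact Or.inr e
    have ha : Nat.card {u : G // u ∈ N ∧ IsConj y u} ≤ 2 := by
      rw [← Nat.card_eq_fintype_card.trans Fintype.card_bool]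
      refine Nat.card_le_card_of_injective (fun u => decide (u.1 = y)) fun u v huv => Subtype.ext ?_
      simp only [decide_eq_decide] at huv
      rcases hin u with e | e <;> rcases hin v with e' | e'
      · rw [e, e']
      · exact (huv.mp e).trans e.symm |>.symm ▸ rfl
      · exact (huv.mpr e').trans e'.symm ▸ rfl
      · rw [e, e']
    have h11 : 11 ∣ cy ∨ 43 ∣ cy := by
      rcases hf123 with e | e | e
      · exact absurd e hfe
      · left
        generalize Nat.card {u : G // u ∈ N ∧ IsConj y u} = a at hcount ha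
        interval_cases a <;> omega
      · right
        generalize Nat.card {u : G // u ∈ N ∧ IsConj y u} = a at hcount ha
        interval_cases a <;> omega
    rcases h11 with h' | h' <;> exact absurd (h'.trans hcyd) (by norm_num)

theorem card_ne_4032 : Nat.card G ≠ 4032 := by
  intro h
  have hG := not_comm h (by norm_num)
  haveI : Fact (Nat.Prime 7) := ⟨by norm_num⟩
  haveI : Fact (Nat.Prime 3) := ⟨by norm_num⟩
  obtain ⟨hn, hall⟩ := prime_data hG (p := 7) h (m := 576) rfl (by norm_num) (by norm_num)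
  obtain ⟨P⟩ := (inferInstance : Nonempty (Sylow 7 G))
  obtain ⟨hP, e, c, he, he1, hc, hC, hN, hce⟩ := hall P
  rw [show OrderSieve.adm 4032 7 1 576 = [8, 36, 64, 288] by decide +kernel] at hn
  simp only [List.mem_cons, List.not_mem_nil, or_false] at hn
  have he' := Nat.le_of_dvd (by norm_num) he
  rcases hn with hn | hn | hn | hn <;> rw [hn] at hce
  · interval_cases e <;> norm_num at he <;>
      exact false_of_semiregular hG P hP (q := 3) (k := 1) hn (by norm_num) hC (by omega)
        (fun f hf h7 h3 => by omega) (by norm_num)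
  · have : c = 56 := by interval_cases e <;> norm_num at he <;> omega
    subst this
    exact false_of_even_centralizer hG (by norm_num) P hP h hn (by norm_num) hC (by norm_num)
      (by decide +kernel)
  · have : c = 21 := by interval_cases e <;> norm_num at he <;> omega
    subst this
    exact case_64 h P hP hn hC
  · obtain ⟨rfl, rfl⟩ : c = 7 ∧ e = 2 := by interval_cases e <;> norm_num at he <;> omega
    exact case_288 h P hP (SmallOrderKills4.centralizer_eq P hP hC) (by omega)

end Cfsg.Agent.Lib.Classif.Order4032
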