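import Mathlib

/-!
The table used to exclude order `4320`.
-/

set_option autoImplicit false

namespace Cfsg.Agent.Lib.Classif.Order4320

/-- Possible signed degrees of the non-exceptional characters. -/
def cands : List ℤ := [-4, 6, -9, 16, -24, 36, -54]

/-- The divisors of `4320`. -/
def divs : List ℕ := (List.range 4321).filter fun d => decide (4320 % d = 0)

/-- Possible signed values at an involution. -/
def vals (c : ℤ) : List ℤ := (List.range (c.natAbs / 2 + 1)).map fun (i : ℕ) => c - 4 * (i : ℤ) * c.sign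

/-- A solution of the degree and class multiplication relations for signed degrees `c₁, c₂, c₃`. -/
def bad (c₁ c₂ c₃ : ℤ) : Bool :=
  let T := 1 + (c₁ + c₂ + c₃)
  decide (2 ≤ T.natAbs) && decide (4320 % T.natAbs = 0) &&
    decide (1 + (c₁ ^ 2 + c₂ ^ 2 + c₃ ^ 2) + T ^ 2 ≤ 4320) &&
    (vals c₁).any fun y₁ => (vals c₂).any fun y₂ => (vals c₃).any fun y₃ =>
      let B := 1 + (y₁ + y₂ + y₃)
      decide (B.natAbs ≤ T.natAbs) && decide ((T - B) % 4 = 0) &&
        divs.any fun C => decide (1 + (y₁ ^ 2 + y₂ ^ 2 + y₃ ^ 2) + B ^ 2 ≤ (C : ℤ)) &&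
          decide (4320 * (T * (c₁ * c₂ * c₃ + y₁ ^ 2 * c₂ * c₃ + y₂ ^ 2 * c₁ * c₃ + y₃ ^ 2 * c₁ * c₂)
            - B ^ 2 * (c₁ * c₂ * c₃)) = 5 * (C : ℤ) ^ 2 * (T * (c₁ * c₂ * c₃)))

theorem bad_false : ∀ c₁ ∈ cands, ∀ c₂ ∈ cands, ∀ c₃ ∈ cands, bad c₁ c₂ c₃ = false := by
  decide +kernel

end Cfsg.Agent.Lib.Classif.Order4320
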