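import Cfsg.Agent.Lib.Classif.SmallOrderKills4
import Cfsg.Agent.Lib.Classif.FirstPowerKills
import Cfsg.Agent.Lib.Classif.ClassSum
import Cfsg.Agent.Lib.Classif.Order4320Data

/-!
No simple group has order `4320 = 2 ^ 5 * 3 ^ 3 * 5`.
-/

set_option autoImplicit false
set_option linter.style.haveILetI false
set_option linter.unusedSectionVars false

namespace Cfsg.Agent.Lib.Classif.Order4320

open Cfsg.Agent.Lib.SmallGroups Cfsg.Agent.Lib.Classif.SmallOrderTools
  Cfsg.Agent.Lib.Classif.SmallOrderKills3 Cfsg.Agent.Lib.Classif.FirstPowerKills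
open Cfsg.Agent.Lib.Classif.PrimeExceptional (deg apply_one_eq)

theorem signed_mem (c : ℤ) (h : (5 : ℤ) ∣ c - 1) (h2 : 2 ≤ c.natAbs) (hd : c.natAbs ∣ 4320)
    (hsq : c ^ 2 ≤ 4320) : c ∈ cands := by
  simp only [cands, List.mem_cons, List.not_mem_nil, or_false]
  have hb : -65 ≤ c ∧ c ≤ 65 := by constructor <;> nlinarith
  obtain ⟨hb1, hb2⟩ := hb
  interval_cases c <;> first | omega | norm_num at *

theorem signed_two (c : ℤ) (h : (5 : ℤ) ∣ c - 1) (h2 : 2 ≤ c.natAbs) (hd : c.natAbs ∣ 4320)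
    (h2' : 2 ≤ (1 + c).natAbs) (hd' : (1 + c).natAbs ∣ 4320)
    (hsq : 1 + c ^ 2 + 2 * (1 + c) ^ 2 ≤ 4320) (hp : (5 : ℤ) ∣ (1 + c) - 2) :
    c = -4 ∨ c = -9 := by
  have hb : -40 ≤ c ∧ c ≤ 40 := by constructor <;> nlinarith
  obtain ⟨hb1, hb2⟩ := hb
  interval_cases c <;> first | omega | norm_num at *

theorem mem_vals (c x : ℤ) (a : ℤ) (ha : a = 1 ∨ a = -1) (f : ℤ) (hf : 0 < f) (hc : a * f = c)
    (h4 : (4 : ℤ) ∣ f - x) (hle : |x| ≤ f) : a * x ∈ vals c := by
  obtain ⟨k, hk⟩ := h4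
  obtain ⟨h1, h2⟩ := abs_le.mp hle
  simp only [vals, List.mem_map]
  refine ⟨k.toNat, ?_, ?_⟩
  · rw [List.mem_range]
    rcases ha with rfl | rfl <;> omega
  · have hk0 : (k.toNat : ℤ) = k := Int.toNat_of_nonneg (by omega)
    rw [hk0]
    rcases ha with rfl | rfl
    · rw [Int.sign_eq_one_of_pos (by omega : (0 : ℤ) < c)]; omega
    · rw [Int.sign_eq_neg_one_of_neg (by omega : c < (0 : ℤ))]; omega

variable {G : Type*} [Group G] [Finite G] [IsSimpleGroup G]

/-- A self-centralising Sylow `5`-subgroup with normaliser of order `20`. -/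
theorem case_20 (h : Nat.card G = 4320) [Fact (Nat.Prime 5)] (P : Sylow 5 G)
    (hP : Nat.card (P : Subgroup G) = 5)
    (hC : Subgroup.centralizer ((P : Subgroup G) : Set G) = P)
    (hN : Nat.card (Subgroup.normalizer ((P : Subgroup G) : Set G)) = 4 * 5) : False := by
  classical
  haveI : Fintype G := Fintype.ofFinite G
  have hG := not_comm h (by norm_num)
  have hperf := Sylow.commutator_eq_top hG
  have hrel : (Subgroup.centralizer ((P : Subgroup G) : Set G)).relIndex
      (Subgroup.normalizer ((P : Subgroup G) : Set G)) = 4 := by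
    have h := Sylow.card_centralizer_mul_relIndex (P : Subgroup G)
    rw [hN, hC, hP] at h
    rw [hC]
    omega
  obtain ⟨D⟩ := FirstPowerData.exists_data P hP hrel
  obtain ⟨c1, c2, c3, h12, h13, h23, hK⟩ :=
    Finset.card_eq_three.mp (show D.K.card = 3 by have := D.card_K; omega)
  have h1K : c1 ∈ D.K := by rw [hK]; simp
  have h2K : c2 ∈ D.K := by rw [hK]; simp
  have h3K : c3 ∈ D.K := by rw [hK]; simp
  have hsumZ : ∀ f : Cfsg.IrrCharacter G → ℤ, ∑ χ ∈ D.K, f χ = f c1 + f c2 + f c3 := by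
    intro f
    rw [hK, Finset.sum_insert (by simp [h12, h13]), Finset.sum_pair h23, add_assoc]
  have hsumC : ∀ f : Cfsg.IrrCharacter G → ℂ, ∑ χ ∈ D.K, f χ = f c1 + f c2 + f c3 := by
    intro f
    rw [hK, Finset.sum_insert (by simp [h12, h13]), Finset.sum_pair h23, add_assoc]
  have hfam : D.fam.card = 1 := by have := D.fam_card; omega
  have hsq := D.square_sum
  obtain ⟨hθd, hθ2, hθ3, hθ4⟩ := theta_facts hperf D
    (S := D.a c1 * deg c1 + D.a c2 * deg c2 + D.a c3 * deg c3) (hsumZ fun χ => D.a χ * deg χ)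
  rw [hfam, h, hθ4, hsumZ, ← (signed_facts hperf hP D h1K).2.2.2,
    ← (signed_facts hperf hP D h2K).2.2.2, ← (signed_facts hperf hP D h3K).2.2.2] at hsq
  rw [h] at hθ3
  push_cast at hsq
  have hmem : ∀ χ ∈ D.K, (D.a χ * deg χ) ^ 2 ≤ 4320 → D.a χ * deg χ ∈ cands := by
    intro χ hχ hle
    obtain ⟨k1, k2, k3, -⟩ := signed_facts hperf hP D hχ
    rw [h] at k3
    push_cast at k1
    exact signed_mem _ k1 k2 k3 hle
  -- an involution of the normaliser
  obtain ⟨u', hu'⟩ := exists_prime_orderOf_dvd_card'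
    (G := Subgroup.normalizer ((P : Subgroup G) : Set G)) 2 (by rw [hN]; norm_num)
  obtain ⟨u, hu⟩ := u'
  rw [Subgroup.orderOf_mk] at hu'
  have huu : u * u = 1 := by rw [← pow_two, ← hu', pow_orderOf_eq_one]
  have hu5 : ¬ 5 ∣ orderOf u := by rw [hu']; norm_num
  obtain ⟨x1, hx1, h41, hb1⟩ := FirstPowerData.exists_int_mod_four hperf c1 huu
  obtain ⟨x2, hx2, h42, hb2⟩ := FirstPowerData.exists_int_mod_four hperf c2 huu
  obtain ⟨x3, hx3, h43, hb3⟩ := FirstPowerData.exists_int_mod_four hperf c3 huu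
  obtain ⟨β, hβ, h4θ, hbθ⟩ := FirstPowerData.exists_int_mod_four hperf D.θ huu
  have hr := D.rel u hu5
  rw [hsumC, hx1, hx2, hx3, hβ] at hr
  have hrI : 1 + (D.a c1 * x1 + D.a c2 * x2 + D.a c3 * x3) = D.δ * β := by exact_mod_cast hr
  have hd := D.degree_eq
  rw [hsumZ] at hd
  have hα : ∀ χ ∈ D.K, ∃ x : ℤ, (χ : G → ℂ) u = x := fun χ _ =>
    ⟨_, (FirstPowerData.exists_int_mod_four hperf χ huu).choose_spec.1⟩
  choose α hα' using hα
  have hlo := D.centralizer_le hu5 (fun χ => if hχ : χ ∈ D.K then α χ hχ else 0) β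
    (fun χ hχ => by rw [dif_pos hχ]; exact hα' χ hχ) hβ
  rw [hsumZ, dif_pos h1K, dif_pos h2K, dif_pos h3K, hfam,
    show α c1 h1K = x1 by exact_mod_cast (hα' c1 h1K).symm.trans hx1,
    show α c2 h2K = x2 by exact_mod_cast (hα' c2 h2K).symm.trans hx2,
    show α c3 h3K = x3 by exact_mod_cast (hα' c3 h3K).symm.trans hx3] at hlo
  have hcs := ClassSum.class_sum P hP (by norm_num) hC D hN hu hu'
  rw [hsumC, hx1, hx2, hx3, hβ, h] at hcs
  set C := Nat.card (Subgroup.centralizer ({u} : Set G)) with hCdef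
  have hCmem : C ∈ divs := by
    have hd : C ∣ 4320 := h ▸ Subgroup.card_subgroup_dvd_card _
    simp only [divs, List.mem_filter, List.mem_range, decide_eq_true_eq]
    exact ⟨by have := Nat.le_of_dvd (by norm_num) hd; omega, Nat.mod_eq_zero_of_dvd hd⟩
  have two := D.two_le hperf
  have p1 := two.1 c1 h1K
  have p2 := two.1 c2 h2K
  have p3 := two.1 c3 h3K
  have pθ := two.2
  set s1 := D.a c1 * deg c1 with hs1
  set s2 := D.a c2 * deg c2 with hs2
  set s3 := D.a c3 * deg c3 with hs3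
  have hm1 := hmem c1 h1K (by rw [← hs1]; nlinarith)
  have hm2 := hmem c2 h2K (by rw [← hs2]; nlinarith)
  have hm3 := hmem c3 h3K (by rw [← hs3]; nlinarith)
  have hbad : bad s1 s2 s3 = true := by
    simp only [bad, Bool.and_eq_true, decide_eq_true_eq, List.any_eq_true]
    refine ⟨⟨⟨hθ2, Nat.mod_eq_zero_of_dvd hθ3⟩, by linarith⟩,
      D.a c1 * x1, mem_vals _ _ _ (D.a_unit c1 h1K) _ (by omega) hs1.symm h41 hb1,
      D.a c2 * x2, mem_vals _ _ _ (D.a_unit c2 h2K) _ (by omega) hs2.symm h42 hb2,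
      D.a c3 * x3, mem_vals _ _ _ (D.a_unit c3 h3K) _ (by omega) hs3.symm h43 hb3,
      ⟨?_, ?_⟩, C, hCmem, ?_, ?_⟩
    · rw [hrI, hd, Int.natAbs_mul, Int.natAbs_mul]
      obtain ⟨l1, l2⟩ := abs_le.mp hbθ
      have : D.δ.natAbs = 1 := by rcases D.δ_unit with e | e <;> rw [e] <;> rfl
      rw [this]; omega
    · rw [hrI, hd, ← mul_sub]
      exact Int.emod_eq_zero_of_dvd (Dvd.dvd.mul_left h4θ D.δ)
    · rw [hrI]
      have e : ∀ χ ∈ D.K, ∀ x : ℤ, (D.a χ * x) ^ 2 = x ^ 2 := fun χ hχ x => by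
        rcases D.a_unit χ hχ with e | e <;> rw [e] <;> ring
      have eδ : (D.δ * β) ^ 2 = β ^ 2 := by rcases D.δ_unit with e | e <;> rw [e] <;> ring
      rw [e c1 h1K, e c2 h2K, e c3 h3K, eδ]
      push_cast at hlo
      linarith
    · rw [hrI, hd]
      have n1 : (deg c1 : ℂ) ≠ 0 := by exact_mod_cast (show deg c1 ≠ 0 by omega)
      have n2 : (deg c2 : ℂ) ≠ 0 := by exact_mod_cast (show deg c2 ≠ 0 by omega)
      have n3 : (deg c3 : ℂ) ≠ 0 := by exact_mod_cast (show deg c3 ≠ 0 by omega)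
      have nθ : (deg D.θ : ℂ) ≠ 0 := by exact_mod_cast (show deg D.θ ≠ 0 by omega)
      rw [hs1, hs2, hs3]
      rw [← Int.cast_inj (α := ℂ)]
      push_cast at hcs ⊢
      field_simp at hcs
      rcases D.a_unit c1 h1K with e1 | e1 <;> rcases D.a_unit c2 h2K with e2 | e2 <;>
        rcases D.a_unit c3 h3K with e3 | e3 <;> rcases D.δ_unit with eδ | eδ <;>
        simp only [e1, e2, e3, eδ, Int.cast_one, Int.cast_neg] at hcs ⊢ <;>
        first
          | linear_combination hcs
          | linear_combination -hcs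
  rw [bad_false _ hm1 _ hm2 _ hm3] at hbad
  exact Bool.false_ne_true hbad

theorem card_ne_4320 : Nat.card G ≠ 4320 := by
  intro h
  classical
  haveI : Fintype G := Fintype.ofFinite G
  have hG := not_comm h (by norm_num)
  have hperf := Sylow.commutator_eq_top hG
  haveI : Fact (Nat.Prime 5) := ⟨by norm_num⟩
  haveI : Fact (Nat.Prime 3) := ⟨by norm_num⟩
  haveI : Fact (Nat.Prime 2) := ⟨by norm_num⟩
  obtain ⟨hn, hall⟩ := prime_data hG (p := 5) h (m := 864) rfl (by norm_num) (by norm_num)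
  obtain ⟨P⟩ := (inferInstance : Nonempty (Sylow 5 G))
  obtain ⟨hP, e, c, he, he1, hc, hC, hN, hce⟩ := hall P
  rw [show OrderSieve.adm 4320 5 1 864 = [16, 36, 216] by decide +kernel] at hn
  simp only [List.mem_cons, List.not_mem_nil, or_false] at hn
  have he' := Nat.le_of_dvd (by norm_num) he
  rcases hn with hn | hn | hn <;> rw [hn] at hce
  · interval_cases e <;> norm_num at he <;>
      first
        | omega
        | exact false_of_semiregular hG P hP (q := 3) (k := 3) hn (by norm_num) hC (by omega)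
            (fun f hf h5 h3 => by omega) (by norm_num)
  · have : c = 60 ∨ c = 30 := by interval_cases e <;> norm_num at he <;> omega
    rcases this with rfl | rfl <;>
      exact false_of_even_centralizer hG (by norm_num) P hP h hn (by norm_num) hC (by norm_num)
        (by decide +kernel)
  · have : (c = 10 ∧ e = 2) ∨ (c = 5 ∧ e = 4) := by
      interval_cases e <;> norm_num at he <;> omega
    rcases this with ⟨rfl, rfl⟩ | ⟨rfl, rfl⟩
    · have hrel : (Subgroup.centralizer ((P : Subgroup G) : Set G)).relIndex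
          (Subgroup.normalizer ((P : Subgroup G) : Set G)) = 2 := by
        have h := Sylow.card_centralizer_mul_relIndex (P : Subgroup G)
        rw [hN, hC] at h
        omega
      obtain ⟨D⟩ := FirstPowerData.exists_data P hP hrel
      have hsq := D.square_sum
      have hfam := D.fam_card
      obtain ⟨χ, hχ⟩ := Finset.card_eq_one.mp (show D.K.card = 1 by have := D.card_K; omega)
      have hχK : χ ∈ D.K := by rw [hχ]; exact Finset.mem_singleton_self _
      obtain ⟨hc1, hc2, hc3, hc4⟩ := signed_facts hperf hP D hχK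
      obtain ⟨hθd, hθ2, hθ3, hθ4⟩ := theta_facts hperf D (S := D.a χ * deg χ)
        (by rw [hχ, Finset.sum_singleton])
      rw [hχ, Finset.sum_singleton, ← hc4, hθ4, show D.fam.card = 2 by omega, h] at hsq
      rw [h] at hc3 hθ3
      have hcong := D.θ_cong hP
      rw [← D.degree_eq, hχ, Finset.sum_singleton] at hcong
      push_cast at hc1 hsq hcong
      have hcases := signed_two _ hc1 hc2 hc3 hθ2 hθ3 hsq hcong
      obtain ⟨⟨v, hv⟩, hv2⟩ := exists_prime_orderOf_dvd_card'
        (G := Subgroup.centralizer ((P : Subgroup G) : Set G)) 2 (by rw [hC]; norm_num)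
      rw [Subgroup.orderOf_mk] at hv2
      obtain ⟨x, -, h5, h4, hlo, hhi⟩ := involution_value hG (by norm_num) hP D hχK hv hv2
      have hd2 := (D.two_le hperf).1 χ hχK
      push_cast at h5
      rcases D.a_unit χ hχK with ha | ha <;> rw [ha] at hcases h5 <;> omega
    · exact case_20 h P hP (SmallOrderKills4.centralizer_eq P hP hC) (by omega)

end Cfsg.Agent.Lib.Classif.Order4320
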