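import Mathlib

/-!
The table used to exclude order `5040`.
-/

set_option autoImplicit false

namespace Cfsg.Agent.Lib.Classif.Order5040

/-- Possible signed degrees (without the degree `16`). -/
def cands : List ℤ := [-4, 6, -9, -14, 21, -24, 36, 56]

/-- Possible signed values at an involution centralising a Sylow `5`-subgroup. -/
def vals (c : ℤ) : List ℤ :=
  ((List.range (c.natAbs / 2 + 1)).map fun (i : ℕ) => c - 4 * (i : ℤ) * c.sign).filter
    fun y => decide ((y - 1) % 5 = 0) && decide (y ≠ c)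

/-- A solution of the degree relations and of the relation at the involution. -/
def bad (c₁ c₂ c₃ : ℤ) : Bool :=
  let T := 1 + (c₁ + c₂ + c₃)
  decide (2 ≤ T.natAbs) && decide (5040 % T.natAbs = 0) &&
    decide (1 + (c₁ ^ 2 + c₂ ^ 2 + c₃ ^ 2) + T ^ 2 ≤ 5040) &&
    (vals c₁).any fun y₁ => (vals c₂).any fun y₂ => (vals c₃).any fun y₃ =>
      let B := 1 + (y₁ + y₂ + y₃)
      decide (B.natAbs ≤ T.natAbs) && decide (B ≠ T) && decide ((T - B) % 4 = 0) &&
        (decide (T % 16 ≠ 0) || decide (B = 0))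

theorem bad_false : ∀ c₁ ∈ cands, ∀ c₂ ∈ cands, ∀ c₃ ∈ cands, bad c₁ c₂ c₃ = false := by
  decide +kernel

end Cfsg.Agent.Lib.Classif.Order5040
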