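import Cfsg.Agent.Lib.Classif.SmallOrderKills4
import Cfsg.Agent.Lib.Classif.FirstPowerKills
import Cfsg.Agent.Lib.Classif.Order5040Data
import Cfsg.Agent.Lib.Characters.DefectZero
import Cfsg.Agent.S1010

/-!
No simple group has order `5040 = 2 ^ 4 * 3 ^ 2 * 5 * 7`.
-/

set_option autoImplicit false
set_option linter.style.haveILetI false
set_option linter.unusedSectionVars false

namespace Cfsg.Agent.Lib.Classif.Order5040

open Cfsg.Agent.Lib.SmallGroups Cfsg.Agent.Lib.Classif.SmallOrderTools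
  Cfsg.Agent.Lib.Classif.SmallOrderKills3 Cfsg.Agent.Lib.Classif.FirstPowerKills
open Cfsg.Agent.Lib.Classif.PrimeExceptional (deg apply_one_eq)

theorem signed_two (c : ℤ) (h : (5 : ℤ) ∣ c - 1) (h2 : 2 ≤ c.natAbs) (hd : c.natAbs ∣ 5040)
    (h2' : 2 ≤ (1 + c).natAbs) (hd' : (1 + c).natAbs ∣ 5040)
    (hsq : 1 + c ^ 2 + 2 * (1 + c) ^ 2 ≤ 5040) (hp : (5 : ℤ) ∣ (1 + c) - 2) :
    c = -4 ∨ c = -9 ∨ c = 6 := by
  have hb : -42 ≤ c ∧ c ≤ 42 := by constructor <;> nlinarith
  obtain ⟨hb1, hb2⟩ := hb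
  interval_cases c <;> first | omega | norm_num at *

theorem signed_four (c : ℤ) (h : (5 : ℤ) ∣ c - 1) (h2 : 2 ≤ c.natAbs) (hd : c.natAbs ∣ 5040)
    (h16 : ¬ 16 ∣ c.natAbs) (hsq : c ^ 2 ≤ 5040) : c ∈ cands := by
  simp only [cands, List.mem_cons, List.not_mem_nil, or_false]
  have hb : -70 ≤ c ∧ c ≤ 70 := by constructor <;> nlinarith
  obtain ⟨hb1, hb2⟩ := hb
  interval_cases c <;> first | omega | norm_num at *

theorem mem_vals (c x a f : ℤ) (ha : a = 1 ∨ a = -1) (hf : 0 < f) (hc : a * f = c)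
    (h4 : (4 : ℤ) ∣ f - x) (h5 : (5 : ℤ) ∣ x - a) (hlo : -f ≤ x) (hhi : x < f) :
    a * x ∈ vals c := by
  obtain ⟨k, hk⟩ := h4
  simp only [vals, List.mem_filter, List.mem_map, Bool.and_eq_true, decide_eq_true_eq]
  refine ⟨⟨k.toNat, ?_, ?_⟩, ?_, ?_⟩
  · rw [List.mem_range]
    rcases ha with rfl | rfl <;> omega
  · have hk0 : (k.toNat : ℤ) = k := Int.toNat_of_nonneg (by omega)
    rw [hk0]
    rcases ha with rfl | rfl
    · rw [Int.sign_eq_one_of_pos (by omega : (0 : ℤ) < c)]; omega
    · rw [Int.sign_eq_neg_one_of_neg (by omega : c < (0 : ℤ))]; omega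
  · rcases ha with rfl | rfl <;> omega
  · rcases ha with rfl | rfl <;> omega

variable {G : Type*} [Group G] [Finite G] [IsSimpleGroup G]

/-- A character of degree divisible by `16` vanishes at involutions. -/
theorem apply_two_eq_zero (h : Nat.card G = 5040) (χ : Cfsg.IrrCharacter G) (hd : (16 : ℤ) ∣ deg χ)
    (hpos : 0 ≤ deg χ) {v : G} (hv : orderOf v = 2) : (χ : G → ℂ) v = 0 := by
  obtain ⟨k, hk⟩ := hd
  refine Characters.DefectZero.apply_eq_zero (p := 2) (n := 4) (r := 315) Nat.prime_two χ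
    (e := k.toNat) (by rw [h]; norm_num) (by norm_num) ?_ (by rw [hv])
  rw [apply_one_eq]
  have : deg χ = ((2 ^ 4 * k.toNat : ℕ) : ℤ) := by push_cast; omega
  exact_mod_cast this

/-- An involution centralising a Sylow `5`-subgroup with `|N : C| = 4`. -/
theorem case_four (h : Nat.card G = 5040) [Fact (Nat.Prime 5)] (P : Sylow 5 G)
    (hP : Nat.card (P : Subgroup G) = 5) (D : FirstPowerData.Data P 4) {v : G}
    (hv : v ∈ Subgroup.centralizer ((P : Subgroup G) : Set G)) (hv2 : orderOf v = 2) : False := by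
  classical
  haveI : Fintype G := Fintype.ofFinite G
  have hG := not_comm h (by norm_num)
  have hperf := Sylow.commutator_eq_top hG
  obtain ⟨c1, c2, c3, h12, h13, h23, hK⟩ :=
    Finset.card_eq_three.mp (show D.K.card = 3 by have := D.card_K; omega)
  have h1K : c1 ∈ D.K := by rw [hK]; simp
  have h2K : c2 ∈ D.K := by rw [hK]; simp
  have h3K : c3 ∈ D.K := by rw [hK]; simp
  have hsumZ : ∀ f : Cfsg.IrrCharacter G → ℤ, ∑ χ ∈ D.K, f χ = f c1 + f c2 + f c3 := by
    intro f
    rw [hK, Finset.sum_insert (by simp [h12, h13]), Finset.sum_pair h23, add_assoc]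
  have hsumC : ∀ f : Cfsg.IrrCharacter G → ℂ, ∑ χ ∈ D.K, f χ = f c1 + f c2 + f c3 := by
    intro f
    rw [hK, Finset.sum_insert (by simp [h12, h13]), Finset.sum_pair h23, add_assoc]
  have hfam : D.fam.card = 1 := by have := D.fam_card; omega
  have two := D.two_le hperf
  have hsq := D.square_sum
  obtain ⟨hθd, hθ2, hθ3, hθ4⟩ := theta_facts hperf D
    (S := D.a c1 * deg c1 + D.a c2 * deg c2 + D.a c3 * deg c3) (hsumZ fun χ => D.a χ * deg χ)
  rw [hfam, h, hθ4, hsumZ, ← (signed_facts hperf hP D h1K).2.2.2,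
    ← (signed_facts hperf hP D h2K).2.2.2, ← (signed_facts hperf hP D h3K).2.2.2] at hsq
  rw [h] at hθ3
  push_cast at hsq
  have hv5 : ¬ 5 ∣ orderOf v := by rw [hv2]; norm_num
  have hval : ∀ χ ∈ D.K, (D.a χ * deg χ) ^ 2 ≤ 5040 → D.a χ * deg χ ∈ cands ∧
      ∃ x : ℤ, (χ : G → ℂ) v = x ∧ D.a χ * x ∈ vals (D.a χ * deg χ) := by
    intro χ hχ hle
    obtain ⟨k1, k2, k3, -⟩ := signed_facts hperf hP D hχ
    obtain ⟨x, hx, h5, h4, hlo, hhi⟩ := involution_value hG (by norm_num) hP D hχ hv hv2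
    rw [h] at k3
    push_cast at k1 h5
    have hd2 := two.1 χ hχ
    refine ⟨signed_four _ k1 k2 k3 (fun h16 => ?_) hle, x, hx,
      mem_vals _ _ _ _ (D.a_unit χ hχ) (by omega) rfl h4 h5 hlo hhi⟩
    have h16' : (16 : ℤ) ∣ deg χ := by
      rcases D.a_unit χ hχ with e | e <;> rw [e] at h16 <;> omega
    have hz := apply_two_eq_zero h χ h16' (by omega) hv2
    rw [hx] at hz
    have hx0 : x = 0 := by exact_mod_cast hz
    rw [hx0] at h5
    rcases D.a_unit χ hχ with e | e <;> rw [e] at h5 <;> omega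
  obtain ⟨hm1, x1, hx1, hy1⟩ := hval c1 h1K (by nlinarith)
  obtain ⟨hm2, x2, hx2, hy2⟩ := hval c2 h2K (by nlinarith)
  obtain ⟨hm3, x3, hx3, hy3⟩ := hval c3 h3K (by nlinarith)
  obtain ⟨β, hβ, h4θ, hbθ⟩ := FirstPowerData.exists_int_mod_four hperf D.θ
    (show v * v = 1 by rw [← pow_two, ← hv2, pow_orderOf_eq_one])
  have hne : β ≠ deg D.θ := fun he => apply_ne_deg hG D.θ D.θ_ne_one (g := v)
    (fun h1 => by rw [h1, orderOf_one] at hv2; omega) (by rw [hβ, he])
  have hr := D.rel v hv5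
  rw [hsumC, hx1, hx2, hx3, hβ] at hr
  have hrI : 1 + (D.a c1 * x1 + D.a c2 * x2 + D.a c3 * x3) = D.δ * β := by exact_mod_cast hr
  have hd := D.degree_eq
  rw [hsumZ] at hd
  obtain ⟨l1, l2⟩ := abs_le.mp hbθ
  have hbad : bad (D.a c1 * deg c1) (D.a c2 * deg c2) (D.a c3 * deg c3) = true := by
    simp only [bad, Bool.and_eq_true, Bool.or_eq_true, decide_eq_true_eq, List.any_eq_true]
    refine ⟨⟨⟨hθ2, Nat.mod_eq_zero_of_dvd hθ3⟩, by linarith⟩,
      _, hy1, _, hy2, _, hy3, ⟨⟨?_, ?_⟩, ?_⟩, ?_⟩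
    · rw [hrI, hd]
      rcases D.δ_unit with e | e <;> rw [e] <;> omega
    · rw [hrI, hd]
      rcases D.δ_unit with e | e <;> rw [e] <;> omega
    · rw [hrI, hd, ← mul_sub]
      exact Int.emod_eq_zero_of_dvd (Dvd.dvd.mul_left h4θ D.δ)
    · rw [hrI, hd]
      by_cases h16 : (16 : ℤ) ∣ deg D.θ
      · right
        have hz := apply_two_eq_zero h D.θ h16 (by omega) hv2
        rw [hβ] at hz
        rw [show β = 0 by exact_mod_cast hz, mul_zero]
      · left
        rcases D.δ_unit with e | e <;> rw [e] <;> omega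
  rw [bad_false _ hm1 _ hm2 _ hm3] at hbad
  exact Bool.false_ne_true hbad

theorem card_ne_5040 : Nat.card G ≠ 5040 := by
  intro h
  classical
  haveI : Fintype G := Fintype.ofFinite G
  have hG := not_comm h (by norm_num)
  have hperf := Sylow.commutator_eq_top hG
  haveI : Fact (Nat.Prime 7) := ⟨by norm_num⟩
  haveI : Fact (Nat.Prime 5) := ⟨by norm_num⟩
  haveI : Fact (Nat.Prime 3) := ⟨by norm_num⟩
  haveI : Fact (Nat.Prime 2) := ⟨by norm_num⟩
  obtain ⟨hn7, hall7⟩ := prime_data hG (p := 7) h (m := 720) rfl (by norm_num) (by norm_num)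
  obtain ⟨Q⟩ := (inferInstance : Nonempty (Sylow 7 G))
  obtain ⟨hQ, e, c, he, he1, hc, hC, hN, hce⟩ := hall7 Q
  rw [show OrderSieve.adm 5040 7 1 720 = [8, 15, 36, 120] by decide +kernel] at hn7
  simp only [List.mem_cons, List.not_mem_nil, or_false] at hn7
  have he' := Nat.le_of_dvd (by norm_num) he
  rcases hn7 with hn | hn | hn | hn <;> rw [hn] at hce
  · interval_cases e <;> norm_num at he <;>
      exact false_of_semiregular hG Q hQ (q := 3) (k := 1) hn (by norm_num) hC (by omega)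
        (fun f hf h7 h3 => by omega) (by norm_num)
  · interval_cases e <;> norm_num at he <;>
      exact false_of_semiregular hG Q hQ (q := 2) (k := 3) hn (by norm_num) hC (by omega)
        (fun f hf h7 h3 => by omega) (by norm_num)
  · have : c = 70 := by interval_cases e <;> norm_num at he <;> omega
    subst this
    exact false_of_even_centralizer hG (by norm_num) Q hQ h hn (by norm_num) hC (by norm_num)
      (by decide +kernel)
  -- the Sylow `5`-subgroups
  obtain ⟨hn5, hall5⟩ := prime_data hG (p := 5) h (m := 1008) rfl (by norm_num) (by norm_num)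
  obtain ⟨P⟩ := (inferInstance : Nonempty (Sylow 5 G))
  obtain ⟨hP, e, c, he, he1, hc, hC, hN, hce⟩ := hall5 P
  rw [show OrderSieve.adm 5040 5 1 1008 = [21, 36, 56, 126] by decide +kernel] at hn5
  simp only [List.mem_cons, List.not_mem_nil, or_false] at hn5
  have hn21 : Nat.card (Sylow 5 G) ≠ 21 := S1010.result
  have he' := Nat.le_of_dvd (by norm_num) he
  have hrel : (Subgroup.centralizer ((P : Subgroup G) : Set G)).relIndex
      (Subgroup.normalizer ((P : Subgroup G) : Set G)) = e := by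
    have h := Sylow.card_centralizer_mul_relIndex (P : Subgroup G)
    rw [hN, hC] at h
    exact Nat.eq_of_mul_eq_mul_left (by rw [← hC]; exact Nat.card_pos) h
  rcases hn5 with hn5 | hn5 | hn5 | hn5
  · exact hn21 hn5
  all_goals rw [hn5] at hce
  · have : c = 70 ∨ c = 35 := by interval_cases e <;> norm_num at he <;> omega
    rcases this with rfl | rfl
    · exact false_of_even_centralizer hG (by norm_num) P hP h hn5 (by norm_num) hC (by norm_num)
        (by decide +kernel)
    · -- an element of order seven centralises `P`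
      obtain ⟨⟨y, hyC⟩, hy⟩ := exists_prime_orderOf_dvd_card'
        (G := Subgroup.centralizer ((P : Subgroup G) : Set G)) 7 (by rw [hC]; norm_num)
      rw [Subgroup.orderOf_mk] at hy
      let Q' : Sylow 7 G := Sylow.ofCard (Subgroup.zpowers y) (by
        rw [Nat.card_zpowers, hy, h, show (5040 : ℕ) = 7 ^ 1 * 720 by norm_num,
          Nat.factorization_mul (by norm_num) (by norm_num), Finsupp.add_apply,
          Nat.Prime.factorization_pow (by norm_num), Finsupp.single_eq_same,
          Nat.factorization_eq_zero_of_not_dvd (by norm_num)]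
        norm_num)
      obtain ⟨-, e7, c7, he7, he71, hc7, hC7, hN7, hce7⟩ := hall7 Q'
      have hle : (P : Subgroup G) ≤ Subgroup.centralizer ((Q' : Subgroup G) : Set G) := by
        intro x hx
        rw [Subgroup.mem_centralizer_iff]
        intro z hz
        rw [show ((Q' : Subgroup G) : Set G) = (Subgroup.zpowers y : Set G) from rfl] at hz
        obtain ⟨k, rfl⟩ := Subgroup.mem_zpowers_iff.mp hz
        exact ((Commute.symm (Subgroup.mem_centralizer_iff.mp hyC x hx)).zpow_left k).eq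
      have hd := Subgroup.card_dvd_of_le hle
      rw [hP, hC7] at hd
      rw [hn] at hce7
      have hce' : c7 * e7 = 42 := by omega
      have h5 : 5 ∣ 42 := hce' ▸ hd.mul_right e7
      norm_num at h5
  · -- `56` Sylow `5`-subgroups: an element of order three
    obtain ⟨rfl, rfl⟩ : c = 45 ∧ e = 2 := by interval_cases e <;> norm_num at he <;> omega
    obtain ⟨D⟩ := FirstPowerData.exists_data P hP hrel
    have hsq := D.square_sum
    have hfam := D.fam_card
    obtain ⟨χ, hχ⟩ := Finset.card_eq_one.mp (show D.K.card = 1 by have := D.card_K; omega)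
    have hχK : χ ∈ D.K := by rw [hχ]; exact Finset.mem_singleton_self _
    obtain ⟨hc1, hc2, hc3, hc4⟩ := signed_facts hperf hP D hχK
    obtain ⟨hθd, hθ2, hθ3, hθ4⟩ := theta_facts hperf D (S := D.a χ * deg χ)
      (by rw [hχ, Finset.sum_singleton])
    rw [hχ, Finset.sum_singleton, ← hc4, hθ4, show D.fam.card = 2 by omega, h] at hsq
    rw [h] at hc3 hθ3
    have hcong := D.θ_cong hP
    rw [← D.degree_eq, hχ, Finset.sum_singleton] at hcong
    push_cast at hc1 hsq hcong
    have hcases := signed_two _ hc1 hc2 hc3 hθ2 hθ3 hsq hcong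
    obtain ⟨⟨v, hv⟩, hv3⟩ := exists_prime_orderOf_dvd_card'
      (G := Subgroup.centralizer ((P : Subgroup G) : Set G)) 3 (by rw [hC]; norm_num)
    rw [Subgroup.orderOf_mk] at hv3
    obtain ⟨n4, n6, n9⟩ := deg_big_of_order_three hG rfl hP D hχK hv hv3
    have hd2 := (D.two_le hperf).1 χ hχK
    rcases D.a_unit χ hχK with ha | ha <;> rw [ha] at hcases <;> omega
  · -- `126` Sylow `5`-subgroups: an involution
    have : (c = 20 ∧ e = 2) ∨ (c = 10 ∧ e = 4) := by
      interval_cases e <;> norm_num at he <;> omega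
    rcases this with ⟨rfl, rfl⟩ | ⟨rfl, rfl⟩ <;>
      obtain ⟨⟨v, hv⟩, hv2⟩ := exists_prime_orderOf_dvd_card'
        (G := Subgroup.centralizer ((P : Subgroup G) : Set G)) 2 (by rw [hC]; norm_num) <;>
      rw [Subgroup.orderOf_mk] at hv2 <;>
      obtain ⟨D⟩ := FirstPowerData.exists_data P hP hrel
    · have hsq := D.square_sum
      have hfam := D.fam_card
      obtain ⟨χ, hχ⟩ := Finset.card_eq_one.mp (show D.K.card = 1 by have := D.card_K; omega)
      have hχK : χ ∈ D.K := by rw [hχ]; exact Finset.mem_singleton_self _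
      obtain ⟨hc1, hc2, hc3, hc4⟩ := signed_facts hperf hP D hχK
      obtain ⟨hθd, hθ2, hθ3, hθ4⟩ := theta_facts hperf D (S := D.a χ * deg χ)
        (by rw [hχ, Finset.sum_singleton])
      rw [hχ, Finset.sum_singleton, ← hc4, hθ4, show D.fam.card = 2 by omega, h] at hsq
      rw [h] at hc3 hθ3
      have hcong := D.θ_cong hP
      rw [← D.degree_eq, hχ, Finset.sum_singleton] at hcong
      push_cast at hc1 hsq hcong
      have hcases := signed_two _ hc1 hc2 hc3 hθ2 hθ3 hsq hcong
      obtain ⟨x, -, h5, h4, hlo, hhi⟩ := involution_value hG (by norm_num) hP D hχK hv hv2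
      have hd2 := (D.two_le hperf).1 χ hχK
      push_cast at h5
      rcases D.a_unit χ hχK with ha | ha <;> rw [ha] at hcases h5 <;> omega
    · exact case_four h P hP D hv hv2

end Cfsg.Agent.Lib.Classif.Order5040
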