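import Cfsg.Agent.Lib.Classif.SmallOrderKills4

/-!
No simple group has order `5472 = 2 ^ 5 * 3 ^ 2 * 19`: the principal exceptional family of the
prime `19` would have degrees congruent to impossible divisors.
-/

set_option autoImplicit false
set_option linter.style.haveILetI false

namespace Cfsg.Agent.Lib.Classif.Order5472

open Cfsg.Agent.Lib.SmallGroups Cfsg.Agent.Lib.Classif.SmallOrderTools
  Cfsg.Agent.Lib.Classif.SmallOrderKills3 Cfsg.Agent.Lib.Classif.PrimeExceptional

theorem signed_eq (c : ℤ) (h : (19 : ℤ) ∣ c - 1) (h2 : 2 ≤ c.natAbs) (hd : c.natAbs ∣ 5472)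
    (hlo : -73 ≤ c) (hhi : c ≤ 73) : c = -18 := by
  interval_cases c <;> first | omega | norm_num at *

variable {G : Type*} [Group G] [Finite G] [IsSimpleGroup G]

theorem card_ne_5472 : Nat.card G ≠ 5472 := by
  intro h
  classical
  haveI : Fintype G := Fintype.ofFinite G
  have hG := not_comm h (by norm_num)
  haveI : Fact (Nat.Prime 19) := ⟨by norm_num⟩
  obtain ⟨hn, hall⟩ := prime_data hG (p := 19) h (m := 288) rfl (by norm_num) (by norm_num)
  obtain ⟨P⟩ := (inferInstance : Nonempty (Sylow 19 G))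
  obtain ⟨hP, e, c, he, he1, ⟨k, rfl⟩, hC, hN, hce⟩ := hall P
  rw [show OrderSieve.adm 5472 19 1 288 = [96] by decide +kernel, List.mem_singleton] at hn
  rw [hn] at hce
  have hk : k * e = 3 := by nlinarith
  have : k = 1 ∧ e = 3 := by
    have := Nat.le_of_dvd three_pos ⟨e, hk.symm⟩
    interval_cases k <;> omega
  obtain ⟨rfl, rfl⟩ := this
  have hC' := SmallOrderKills4.centralizer_eq P hP hC
  have hN' : Nat.card (Subgroup.normalizer ((P : Subgroup G) : Set G)) = 3 * 19 := by omega
  obtain ⟨F⟩ := exists_family P hP hC' hN' (Or.inr rfl) (by norm_num) (Or.inr (by norm_num))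
  have ht := card_rep P hP hC' hN'
  haveI := Fintype.ofFinite (Induced.CNFamily.Rep (P : Subgroup G))
  haveI : Nonempty (Induced.CNFamily.Rep (P : Subgroup G)) :=
    (Nat.card_pos_iff.mp (by omega)).1
  let r := Classical.arbitrary (Induced.CNFamily.Rep (P : Subgroup G))
  obtain ⟨a, b, hab, hK⟩ := Finset.card_eq_two.mp (show F.K.card = 2 by
    have := F.card_K; omega)
  have hperf := Sylow.commutator_eq_top hG
  have key : ∀ ψ : Cfsg.IrrCharacter G, ψ ≠ Cfsg.Agent.Lib.Characters.Basic.oneChar G →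
      ∀ s : ℤ, s = 1 ∨ s = -1 → 2 ≤ (s * deg ψ).natAbs ∧ (s * deg ψ).natAbs ∣ 5472 ∧
        (s * deg ψ) ^ 2 = deg ψ ^ 2 := by
    intro ψ hψ s hs
    have h2 := two_le_deg hperf ψ hψ
    have hn : (s * deg ψ).natAbs = (deg ψ).natAbs := by
      rcases hs with rfl | rfl <;> simp
    rw [hn]
    refine ⟨by omega, ?_, by rcases hs with rfl | rfl <;> ring⟩
    rw [natAbs_deg, ← h]
    exact H80.ClassMult.charDegree_dvd_card ψ
  have haK : a ∈ F.K := by rw [hK]; simp
  have hbK : b ∈ F.K := by rw [hK]; simp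
  obtain ⟨ha2, had, hasq⟩ := key a (fun e => F.one_not_mem (e ▸ haK)) _ (F.σ_unit a haK)
  obtain ⟨hb2, hbd, hbsq⟩ := key b (fun e => F.one_not_mem (e ▸ hbK)) _ (F.σ_unit b hbK)
  have hca := F.cong_K a haK
  have hcb := F.cong_K b hbK
  have hcr := F.cong_θ r
  have hsum : ∀ r, F.ε r * deg (F.θ r) = -1 - (F.σ a * deg a + F.σ b * deg b) := fun r => by
    have h := F.degree_sum r
    rw [hK, Finset.sum_pair hab] at h
    linarith
  have hsq := F.square_sum
  rw [hK, Finset.sum_pair hab, finsum_eq_sum_of_fintype, h] at hsq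
  have e2 : ∀ r, deg (F.θ r) ^ 2 = (-1 - (F.σ a * deg a + F.σ b * deg b)) ^ 2 := fun r => by
    rw [← hsum r]
    rcases F.ε_unit r with hs | hs <;> rw [hs] <;> ring
  rw [Finset.sum_congr rfl fun r _ => e2 r, Finset.sum_const, Finset.card_univ,
    nsmul_eq_mul, ← Nat.card_eq_fintype_card,
    show Nat.card (Induced.CNFamily.Rep (P : Subgroup G)) = 6 by omega, ← hasq, ← hbsq] at hsq
  rw [hsum r] at hcr
  generalize F.σ a * deg a = x at *
  generalize F.σ b * deg b = y at *
  norm_num at hca hcb hcr hsq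
  have hx := signed_eq x hca ha2 had (by nlinarith) (by nlinarith)
  have hy := signed_eq y hcb hb2 hbd (by nlinarith) (by nlinarith)
  subst hx hy
  norm_num at hsq

end Cfsg.Agent.Lib.Classif.Order5472
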