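import Cfsg.Agent.Lib.Classif.SmallOrderKills4
import Cfsg.Agent.Lib.Classif.FirstPowerKills
import Cfsg.Agent.Lib.Classif.ClassSum
import Cfsg.Agent.Lib.Characters.DefectZero

/-!
No simple group has order `5760 = 2 ^ 7 * 3 ^ 2 * 5`.
-/

set_option autoImplicit false
set_option linter.style.haveILetI false
set_option linter.unusedSectionVars false

namespace Cfsg.Agent.Lib.Classif.Order5760

open Cfsg.Agent.Lib.SmallGroups Cfsg.Agent.Lib.Classif.SmallOrderTools
  Cfsg.Agent.Lib.Classif.SmallOrderKills3 Cfsg.Agent.Lib.Classif.FirstPowerKills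
open Cfsg.Agent.Lib.Classif.PrimeExceptional (deg apply_one_eq)

variable {G : Type*} [Group G] [Finite G] [IsSimpleGroup G]

theorem relIndex_eq {p : ℕ} (P : Sylow p G) {c e : ℕ}
    (hC : Nat.card (Subgroup.centralizer ((P : Subgroup G) : Set G)) = c)
    (hN : Nat.card (Subgroup.normalizer ((P : Subgroup G) : Set G)) = c * e) :
    (Subgroup.centralizer ((P : Subgroup G) : Set G)).relIndex
      (Subgroup.normalizer ((P : Subgroup G) : Set G)) = e := by
  have h := Sylow.card_centralizer_mul_relIndex (P : Subgroup G)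
  rw [hN, hC] at h
  exact Nat.eq_of_mul_eq_mul_left (by rw [← hC]; exact Nat.card_pos) h

theorem signed_two (c : ℤ) (h : (5 : ℤ) ∣ c - 1) (h2 : 2 ≤ c.natAbs) (hd : c.natAbs ∣ 5760)
    (h2' : 2 ≤ (1 + c).natAbs) (hd' : (1 + c).natAbs ∣ 5760)
    (hsq : 1 + c ^ 2 + 2 * (1 + c) ^ 2 ≤ 5760) (hp : (5 : ℤ) ∣ (1 + c) - 2) :
    c = -4 ∨ c = -9 := by
  have hb : -45 ≤ c ∧ c ≤ 45 := by constructor <;> nlinarith
  obtain ⟨hb1, hb2⟩ := hb
  interval_cases c <;> first | omega | norm_num at *

theorem signed_four (c : ℤ) (h : (5 : ℤ) ∣ c - 1) (h2 : 2 ≤ c.natAbs) (hd : c.natAbs ∣ 5760)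
    (hne : c.natAbs ≠ 4 ∧ c.natAbs ≠ 6 ∧ c.natAbs ≠ 9) (hsq : c ^ 2 ≤ 5760) :
    c = 16 ∨ c = 36 ∨ c = -24 ∨ c = -64 := by
  have hb : -75 ≤ c ∧ c ≤ 75 := by constructor <;> nlinarith
  obtain ⟨hb1, hb2⟩ := hb
  interval_cases c <;> first | omega | norm_num at *

/-- The degrees `4, 3` and `9, 8` with a self-centralising Sylow `5`-subgroup. -/
theorem case_576 (h : Nat.card G = 5760) [Fact (Nat.Prime 5)] (P : Sylow 5 G)
    (hP : Nat.card (P : Subgroup G) = 5)
    (hC : Subgroup.centralizer ((P : Subgroup G) : Set G) = P)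
    (hN : Nat.card (Subgroup.normalizer ((P : Subgroup G) : Set G)) = 2 * 5) : False := by
  classical
  haveI : Fintype G := Fintype.ofFinite G
  have hG := not_comm h (by norm_num)
  have hperf := Sylow.commutator_eq_top hG
  have hrel := relIndex_eq P (c := 5) (e := 2) (by rw [hC, hP]) (by rw [hN])
  obtain ⟨D⟩ := FirstPowerData.exists_data P hP hrel
  obtain ⟨χ, hχ⟩ := Finset.card_eq_one.mp (show D.K.card = 1 by have := D.card_K; omega)
  have hχK : χ ∈ D.K := by rw [hχ]; exact Finset.mem_singleton_self _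
  obtain ⟨hc1, hc2, hc3, hc4⟩ := signed_facts hperf hP D hχK
  obtain ⟨hθd, hθ2, hθ3, hθ4⟩ := theta_facts hperf D (S := D.a χ * deg χ)
    (by rw [hχ, Finset.sum_singleton])
  have hsq := D.square_sum
  rw [hχ, Finset.sum_singleton, ← hc4, hθ4, show D.fam.card = 2 by have := D.fam_card; omega] at hsq
  rw [h] at hc3 hθ3 hsq
  have hdeg := D.degree_eq
  rw [hχ, Finset.sum_singleton] at hdeg
  have hcong := D.θ_cong hP
  rw [← hdeg] at hcong
  push_cast at hc1 hsq hcong
  have hcases := signed_two _ hc1 hc2 hc3 hθ2 hθ3 hsq hcong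
  have hd2 := (D.two_le hperf).1 χ hχK
  have hθ2' := (D.two_le hperf).2
  obtain ⟨ha, hδ, hd⟩ : D.a χ = -1 ∧ D.δ = -1 ∧
      (deg χ = 4 ∧ deg D.θ = 3 ∨ deg χ = 9 ∧ deg D.θ = 8) := by
    rcases D.a_unit χ hχK with ha | ha <;> rcases D.δ_unit with hδ | hδ <;>
      rw [ha] at hcases hdeg <;> rw [hδ] at hdeg <;>
      (first | omega | exact ⟨ha, hδ, by omega⟩)
  -- an involution of the normaliser and one with a Sylow 2-subgroup in its centraliser
  obtain ⟨u', hu'⟩ := exists_prime_orderOf_dvd_card'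
    (G := Subgroup.normalizer ((P : Subgroup G) : Set G)) 2 (by rw [hN]; norm_num)
  obtain ⟨u, hu⟩ := u'
  rw [Subgroup.orderOf_mk] at hu'
  have hex : ∀ z : G, z * z = 1 → ∃ x : ℤ, (χ : G → ℂ) z = x ∧ (D.θ : G → ℂ) z = x - 1 ∧
      (4 : ℤ) ∣ deg χ - x ∧ |x| ≤ deg χ := by
    intro z hz
    obtain ⟨x, hx, h4, hle⟩ := FirstPowerData.exists_int_mod_four hperf χ hz
    have h5 : ¬ 5 ∣ orderOf z := fun hd => by
      have h2 := orderOf_dvd_of_pow_eq_one (show z ^ 2 = 1 by rw [pow_two, hz])
      have := Nat.le_of_dvd two_pos h2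
      have := Nat.le_of_dvd (orderOf_pos z) hd
      omega
    have hr := D.rel z h5
    rw [hχ, Finset.sum_singleton, hx, ha, hδ] at hr
    push_cast at hr
    exact ⟨x, hx, by linear_combination hr, h4, hle⟩
  obtain ⟨x, hx, hxθ, h4, hxle⟩ := hex u (by rw [← pow_two, ← hu', pow_orderOf_eq_one])
  have hsum := ClassSum.class_sum P hP (by norm_num) hC D hN hu hu'
  rw [hχ, Finset.sum_singleton, hx, hxθ, ha, hδ, h] at hsum
  set c := Nat.card (Subgroup.centralizer ({u} : Set G)) with hc
  rcases hd with ⟨hf, hfθ⟩ | ⟨hf, hfθ⟩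
  · -- degree 4
    rw [hf, hfθ] at hsum
    have hint : (c : ℤ) ^ 2 = 96 * (x - 4) ^ 2 := by
      have : (c : ℂ) ^ 2 = 96 * ((x : ℂ) - 4) ^ 2 := by
        push_cast at hsum
        linear_combination (-1 / 5 : ℂ) * hsum
      exact_mod_cast this
    have hc0 : c ≠ 0 := Nat.card_pos.ne'
    have hnat : c ^ 2 = 6 * (4 * (x - 4).natAbs) ^ 2 := by
      have := congrArg Int.natAbs hint
      rw [Int.natAbs_pow, Int.natAbs_natCast, Int.natAbs_mul, Int.natAbs_pow] at this
      rw [this]
      norm_num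
      ring
    have hz : 4 * (x - 4).natAbs ≠ 0 := fun e => by
      rw [e] at hnat; exact hc0 (pow_eq_zero_iff two_ne_zero |>.mp (by simpa using hnat))
    have h2 := congrArg (fun n => n.factorization 3) hnat
    simp only [Nat.factorization_pow, Nat.factorization_mul (show (6 : ℕ) ≠ 0 by norm_num)
      (pow_ne_zero 2 hz), Finsupp.add_apply, Finsupp.smul_apply, smul_eq_mul] at h2
    rw [show (6 : ℕ) = 3 ^ 1 * 2 by norm_num,
      show (3 ^ 1 * 2 : ℕ).factorization 3 = 1 by
        rw [Nat.factorization_mul (by norm_num) (by norm_num), Finsupp.add_apply,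
          Nat.Prime.factorization_pow (by norm_num), Finsupp.single_eq_same,
          Nat.factorization_eq_zero_of_not_dvd (by norm_num)]] at h2
    omega
  · -- degree 9
    rw [hf, hfθ] at hsum
    have hint : (c : ℤ) ^ 2 = 16 * (x - 9) ^ 2 := by
      have : (c : ℂ) ^ 2 = 16 * ((x : ℂ) - 9) ^ 2 := by
        push_cast at hsum
        linear_combination (-1 / 5 : ℂ) * hsum
      exact_mod_cast this
    rw [hf] at hxle
    have hc72 : c ≤ 72 := by
      obtain ⟨h1, h2⟩ := abs_le.mp hxle
      have : (c : ℤ) ^ 2 ≤ 72 ^ 2 := by rw [hint]; nlinarith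
      have := pow_le_pow_iff_left₀ (Int.natCast_nonneg c) (by norm_num) two_ne_zero |>.mp this
      exact_mod_cast this
    haveI : Fact (Nat.Prime 2) := ⟨Nat.prime_two⟩
    obtain ⟨S⟩ := (inferInstance : Nonempty (Sylow 2 G))
    have hS : Nat.card (S : Subgroup G) = 2 ^ 7 :=
      Sylow.card_sylow_eq S (m := 45) (by rw [h]; norm_num) (by norm_num)
    obtain ⟨n, hn⟩ := IsPGroup.iff_card.mp S.isPGroup'
    have hnt : Nontrivial (S : Subgroup G) := Finite.one_lt_card_iff_nontrivial.mp (by
      rw [hS]; norm_num)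
    have hZ := S.isPGroup'.center_nontrivial
    obtain ⟨z', hz'⟩ := exists_prime_orderOf_dvd_card'
      (G := Subgroup.center (S : Subgroup G)) 2 (by
        obtain ⟨m, hm⟩ := IsPGroup.iff_card.mp (S.isPGroup'.to_subgroup (Subgroup.center _))
        rw [hm]
        rcases Nat.eq_zero_or_pos m with rfl | hm0
        · exact absurd hm (by rw [pow_zero]; exact (Finite.one_lt_card (α := Subgroup.center (S : Subgroup G))).ne')
        · exact dvd_pow_self 2 hm0.ne')
    set z : G := ((z' : (S : Subgroup G)) : G) with hzdef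
    have hzo : orderOf z = 2 := by
      rw [hzdef, Subgroup.orderOf_coe, Subgroup.orderOf_coe, hz']
    have hSz : (S : Subgroup G) ≤ Subgroup.centralizer ({z} : Set G) := fun s hs =>
      Subgroup.mem_centralizer_singleton_iff.mpr
        (congrArg Subtype.val (Subgroup.mem_center_iff.mp z'.2 ⟨s, hs⟩))
    have h128 : 128 ∣ Nat.card (Subgroup.centralizer ({z} : Set G)) := by
      have := Subgroup.card_dvd_of_le hSz
      rwa [hS] at this
    have hzz : z * z = 1 := by rw [← pow_two, ← hzo, pow_orderOf_eq_one]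
    have hz5 : ¬ 5 ∣ orderOf z := by rw [hzo]; norm_num
    have huP : u ∉ (P : Subgroup G) := fun hm => by
      have := Subgroup.orderOf_dvd_natCard _ hm
      rw [hu', hP] at this
      norm_num at this
    have hout : ∀ b : G, b * z * b⁻¹ ∉ Subgroup.normalizer ((P : Subgroup G) : Set G) := by
      intro b hb
      set w := b * z * b⁻¹ with hw
      have hwo : orderOf w = 2 := by rw [hw, ← hzo]; exact (MulAut.conj b).orderOf_eq z
      have hww : w * w = 1 := by rw [← pow_two, ← hwo, pow_orderOf_eq_one]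
      have hwP : ∀ y : G, orderOf y = 2 → y ∉ (P : Subgroup G) := fun y hy hm => by
        have := Subgroup.orderOf_dvd_natCard _ hm
        rw [hy, hP] at this
        norm_num at this
      have huu : u * u = 1 := by rw [← pow_two, ← hu', pow_orderOf_eq_one]
      have h1 := (FixedSylow.inverts_or_centralizes P hP hu huu).resolve_left
        fun h => hwP u hu' (hC ▸ h)
      have h2 := (FixedSylow.inverts_or_centralizes P hP hb hww).resolve_left
        fun h => hwP w hwo (hC ▸ h)
      have hmem : u * w ∈ (P : Subgroup G) := by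
        rw [← hC, Subgroup.mem_centralizer_iff]
        intro y hy
        have e2 := mul_inv_eq_iff_eq_mul.mp (h2 y hy)
        have e1 := mul_inv_eq_iff_eq_mul.mp (h1 y⁻¹ (inv_mem hy))
        rw [inv_inv] at e1
        rw [mul_assoc u w y, e2, ← mul_assoc u y⁻¹ w, e1, mul_assoc]
      have hp1 : (u * w) ^ 5 = 1 := FixedSylow.pow_eq_one P hP hmem
      have hconj : IsConj u w := by
        refine isConj_iff.mpr ⟨((u * w) ^ 3)⁻¹, ?_⟩
        have h3 := h1 _ (pow_mem hmem 3)
        rw [mul_inv_eq_iff_eq_mul] at h3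
        rw [inv_inv, ← h3, mul_assoc, ← pow_add, show 3 + 3 = 5 + 1 by norm_num, pow_succ, hp1,
          one_mul, ← mul_assoc, huu, one_mul]
      have hcc : Nat.card (Subgroup.centralizer ({z} : Set G)) = c := by
        have e1 := Characters.Complete.card_conjugates_mul_centralizer (G := G) z
        have e2 := Characters.Complete.card_conjugates_mul_centralizer (G := G) u
        have hzu : IsConj z u := (isConj_iff.mpr ⟨b, rfl⟩ : IsConj z w).trans hconj.symm
        have heq : Nat.card {x : G // IsConj z x} = Nat.card {x : G // IsConj u x} :=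
          Nat.card_congr (Equiv.subtypeEquivRight fun y => ⟨hzu.symm.trans, hzu.trans⟩)
        rw [heq, ← e2] at e1
        haveI : Nonempty {x : G // IsConj u x} := ⟨⟨u, IsConj.refl u⟩⟩
        exact Nat.eq_of_mul_eq_mul_left Nat.card_pos e1
      rw [hcc] at h128
      have := Nat.le_of_dvd (Nat.card_pos.trans_eq hc.symm) h128
      omega
    have h0 := ClassSum.class_sum_zero P hP hC D hN hz5 hzz hout
    obtain ⟨y, hy, hyθ, -, -⟩ := hex z hzz
    rw [hχ, Finset.sum_singleton, hy, hyθ, ha, hδ, h, hf, hfθ] at h0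
    have hy9 : y = 9 := by
      have h1 : ((y : ℂ) - 9) ^ 2 = 0 := by
        push_cast at h0
        linear_combination (1 / 80 : ℂ) * h0
      have h2 : (y : ℂ) = ((9 : ℤ) : ℂ) := by
        push_cast
        exact sub_eq_zero.mp (pow_eq_zero_iff two_ne_zero |>.mp h1)
      exact_mod_cast h2
    exact apply_ne_deg hG χ (fun h1 => D.one_not_mem (h1 ▸ hχK)) (g := z)
      (fun h1 => by rw [h1, orderOf_one] at hzo; omega) (by rw [hy, hy9, hf])

theorem card_ne_5760 : Nat.card G ≠ 5760 := by
  intro h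
  classical
  haveI : Fintype G := Fintype.ofFinite G
  have hG := not_comm h (by norm_num)
  have hperf := Sylow.commutator_eq_top hG
  haveI : Fact (Nat.Prime 5) := ⟨by norm_num⟩
  haveI : Fact (Nat.Prime 3) := ⟨by norm_num⟩
  haveI : Fact (Nat.Prime 2) := ⟨by norm_num⟩
  obtain ⟨hn, hall⟩ := prime_data hG (p := 5) h (m := 1152) rfl (by norm_num) (by norm_num)
  obtain ⟨P⟩ := (inferInstance : Nonempty (Sylow 5 G))
  obtain ⟨hP, e, c, he, he1, hc, hC, hN, hce⟩ := hall P
  rw [show OrderSieve.adm 5760 5 1 1152 = [16, 36, 96, 576] by decide +kernel] at hn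
  simp only [List.mem_cons, List.not_mem_nil, or_false] at hn
  have he' := Nat.le_of_dvd (by norm_num) he
  rcases hn with hn | hn | hn | hn <;> rw [hn] at hce
  · interval_cases e <;> norm_num at he <;>
      exact false_of_semiregular hG P hP (q := 3) (k := 2) hn (by norm_num) hC (by omega)
        (fun f hf h5 h3 => by omega) (by norm_num)
  · have : c = 80 ∨ c = 40 := by interval_cases e <;> norm_num at he <;> omega
    rcases this with rfl | rfl <;>
      exact false_of_even_centralizer hG (by norm_num) P hP h hn (by norm_num) hC (by norm_num)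
        (by decide +kernel)
  · have hrel := relIndex_eq P hC hN
    obtain ⟨D⟩ := FirstPowerData.exists_data P hP hrel
    have hsq := D.square_sum
    rw [h] at hsq
    have hfam := D.fam_card
    have : (c = 30 ∧ e = 2) ∨ (c = 15 ∧ e = 4) := by
      interval_cases e <;> norm_num at he <;> omega
    rcases this with ⟨rfl, rfl⟩ | ⟨rfl, rfl⟩
    · -- an involution in the centraliser
      obtain ⟨χ, hχ⟩ := Finset.card_eq_one.mp (show D.K.card = 1 by have := D.card_K; omega)
      have hχK : χ ∈ D.K := by rw [hχ]; exact Finset.mem_singleton_self _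
      obtain ⟨hc1, hc2, hc3, hc4⟩ := signed_facts hperf hP D hχK
      obtain ⟨hθd, hθ2, hθ3, hθ4⟩ := theta_facts hperf D (S := D.a χ * deg χ)
        (by rw [hχ, Finset.sum_singleton])
      rw [hχ, Finset.sum_singleton, ← hc4, hθ4, show D.fam.card = 2 by omega] at hsq
      rw [h] at hc3 hθ3
      have hcong := D.θ_cong hP
      rw [← D.degree_eq, hχ, Finset.sum_singleton] at hcong
      push_cast at hc1 hsq hcong
      have hcases := signed_two _ hc1 hc2 hc3 hθ2 hθ3 hsq hcong
      obtain ⟨⟨v, hv⟩, hv2⟩ := exists_prime_orderOf_dvd_card'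
        (G := Subgroup.centralizer ((P : Subgroup G) : Set G)) 2 (by rw [hC]; norm_num)
      rw [Subgroup.orderOf_mk] at hv2
      obtain ⟨x, -, h5, h4, hlo, hhi⟩ := involution_value hG (by norm_num) hP D hχK hv hv2
      have hd2 := (D.two_le hperf).1 χ hχK
      push_cast at h5
      rcases D.a_unit χ hχK with ha | ha <;> rw [ha] at hcases h5 <;> omega
    · -- an element of order three in the centraliser
      obtain ⟨⟨v, hv⟩, hv3⟩ := exists_prime_orderOf_dvd_card'
        (G := Subgroup.centralizer ((P : Subgroup G) : Set G)) 3 (by rw [hC]; norm_num)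
      rw [Subgroup.orderOf_mk] at hv3
      obtain ⟨c1, c2, c3, h12, h13, h23, hK⟩ :=
        Finset.card_eq_three.mp (show D.K.card = 3 by have := D.card_K; omega)
      have hsumK : ∀ f : Cfsg.IrrCharacter G → ℤ, ∑ χ ∈ D.K, f χ = f c1 + f c2 + f c3 := by
        intro f
        rw [hK, Finset.sum_insert (by simp [h12, h13]), Finset.sum_pair h23, add_assoc]
      have hsize : ∀ χ ∈ D.K, deg χ ^ 2 ≤ 5760 := fun χ hχ => by
        have h1 := Finset.single_le_sum (f := fun χ => deg χ ^ 2) (fun _ _ => sq_nonneg _) hχ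
        have h2 : (0 : ℤ) ≤ (D.fam.card : ℤ) * deg D.θ ^ 2 := by positivity
        push_cast at hsq
        linarith
      have hval : ∀ χ ∈ D.K, D.a χ * deg χ = 16 ∨ D.a χ * deg χ = 36 ∨ D.a χ * deg χ = -24 ∨
          D.a χ * deg χ = -64 := by
        intro χ hχ
        obtain ⟨hc1, hc2, hc3, hc4⟩ := signed_facts hperf hP D hχ
        obtain ⟨n4, n6, n9⟩ := deg_big_of_order_three hG rfl hP D hχ hv hv3
        rw [h] at hc3
        push_cast at hc1
        refine signed_four _ hc1 hc2 hc3 ?_ (by rw [hc4]; exact hsize χ hχ)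
        have hd2 := (D.two_le hperf).1 χ hχ
        rcases D.a_unit χ hχ with ha | ha <;> rw [ha] <;> omega
      have h1K : c1 ∈ D.K := by rw [hK]; simp
      have h2K : c2 ∈ D.K := by rw [hK]; simp
      have h3K : c3 ∈ D.K := by rw [hK]; simp
      obtain ⟨hθd, hθ2, hθ3, hθ4⟩ := theta_facts hperf D
        (S := D.a c1 * deg c1 + D.a c2 * deg c2 + D.a c3 * deg c3) (hsumK fun χ => D.a χ * deg χ)
      rw [hsumK, ← (signed_facts hperf hP D h1K).2.2.2, ← (signed_facts hperf hP D h2K).2.2.2,
        ← (signed_facts hperf hP D h3K).2.2.2, hθ4, show D.fam.card = 1 by omega] at hsq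
      rw [h] at hθ3
      have hθ9 : deg D.θ = 9 := by
        rw [hθd]
        push_cast at hsq
        rcases hval c1 h1K with e1 | e1 | e1 | e1 <;> rcases hval c2 h2K with e2 | e2 | e2 | e2 <;>
          rcases hval c3 h3K with e3 | e3 | e3 | e3 <;> rw [e1, e2, e3] at hsq hθ3 hθ2 ⊢ <;>
          first | (norm_num at hsq; done) | (norm_num at hθ3; done) | norm_num
      -- the exceptional character has full `3`-part
      have hv5 : ¬ 5 ∣ orderOf v := by rw [hv3]; norm_num
      have hzero : (D.θ : G → ℂ) v = 0 :=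
        Characters.DefectZero.apply_eq_zero (p := 3) (n := 2) (r := 640) (by norm_num) D.θ (e := 1)
          (by rw [h]; norm_num) (by norm_num) (by rw [apply_one_eq, hθ9]; norm_num)
          (by rw [hv3])
      have hr := D.rel v hv5
      rw [hzero, mul_zero] at hr
      have hint : IsIntegral ℤ ((∑ χ ∈ D.K, (D.a χ : ℂ) *
          (((χ : G → ℂ) v - (D.a χ : ℂ)) / (5 : ℕ)))) := IsIntegral.sum _ fun χ hχ =>
        (isIntegral_algebraMap (R := ℤ) (A := ℂ) (x := D.a χ)).mul (D.value_cong hP hχ hv hv5)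
      have heq : ∑ χ ∈ D.K, (D.a χ : ℂ) * (((χ : G → ℂ) v - (D.a χ : ℂ)) / ((5 : ℕ) : ℂ)) =
          ((-4 : ℤ) : ℂ) / ((5 : ℕ) : ℂ) := by
        rw [Finset.sum_congr rfl (g := fun χ => ((D.a χ : ℂ) * (χ : G → ℂ) v - 1) / ((5 : ℕ) : ℂ))
          fun χ hχ => by rcases D.a_unit χ hχ with ha | ha <;> rw [ha] <;> push_cast <;> ring,
          ← Finset.sum_div, Finset.sum_sub_distrib, Finset.sum_const, nsmul_one,
          show D.K.card = 3 by have := D.card_K; omega]
        congr 1
        push_cast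
        linear_combination hr
      rw [heq] at hint
      have := FirstPowerData.int_dvd_of_isIntegral (by norm_num) hint
      norm_num at this
  · obtain ⟨rfl, rfl⟩ : c = 5 ∧ e = 2 := by interval_cases e <;> norm_num at he <;> omega
    exact case_576 h P hP (SmallOrderKills4.centralizer_eq P hP hC) (by omega)

end Cfsg.Agent.Lib.Classif.Order5760
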