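import Cfsg.Agent.Lib.Classif.PrimeDegrees
import Cfsg.Agent.S0073

/-!
# Simple orders between 3640 and 6232

The orders `4620`, `5400`, `5460`, and the table disposing of all the others except
`4032, 4080, 4320, 5040, 5616, 5760, 6048, 6072`.
-/

set_option autoImplicit false
set_option linter.style.haveILetI false
set_option linter.unusedSectionVars false

namespace Cfsg.Agent.Lib.Classif.OrdersTo6232

open Cfsg.Agent.Lib.Classif.PrimeExceptional (deg two_le_deg natAbs_deg)
open Cfsg.Agent.Lib.Characters.Basic
open scoped Pointwise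

variable {G : Type*} [Group G] [Finite G] [IsSimpleGroup G]

theorem live_4620_seven : PrimeDegrees.live 4620 7 = [(330, 2)] := by decide +kernel

theorem live_4620_eleven : PrimeDegrees.live 4620 11 = [(210, 2)] := by decide +kernel

theorem live_5460_seven : PrimeDegrees.live 5460 7 = [(260, 3)] := by decide +kernel

theorem live_5460_thirteen : PrimeDegrees.live 5460 13 = [(105, 4)] := by decide +kernel

/-- The degrees `6, 5` from the prime 7 contradict the degrees `21, 20` from the prime 11. -/
theorem card_ne_4620 : Nat.card G ≠ 4620 := by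
  intro h
  classical
  have hG := SmallOrderKills3.not_comm h (by norm_num)
  haveI : Fact (Nat.Prime 7) := ⟨by norm_num⟩
  haveI : Fact (Nat.Prime 11) := ⟨by norm_num⟩
  have hperf := SmallGroups.Sylow.commutator_eq_top hG
  obtain ⟨P, n, e, c, hmem, hP, hn, hc, hC, ⟨D⟩⟩ :=
    PrimeDegrees.exists_live hG (p := 7) h (by norm_num) (by norm_num) (by norm_num) (by norm_num)
  rw [live_4620_seven, List.mem_singleton, Prod.mk.injEq] at hmem
  obtain ⟨rfl, rfl⟩ := hmem
  obtain ⟨Q, n', e', c', hmem', hQ, hn', hc', hC', ⟨E⟩⟩ :=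
    PrimeDegrees.exists_live hG (p := 11) h (by norm_num) (by norm_num) (by norm_num) (by norm_num)
  rw [live_4620_eleven, List.mem_singleton, Prod.mk.injEq] at hmem'
  obtain ⟨rfl, rfl⟩ := hmem'
  have hCQ := SmallOrderKills4.centralizer_eq Q hQ (by rw [hC', hc'])
  obtain ⟨χ₀, hχ₀⟩ : D.K.Nonempty := Finset.card_pos.mp (by have := D.card_K; omega)
  have hθ : (deg D.θ).natAbs = 5 := by
    by_contra hne
    exact PrimeDegrees.false_of_degGen hperf hP D h (fun _ => true) (fun _ => true)
      (fun k => decide (k ≠ 5)) hχ₀ rfl (fun _ _ _ => rfl) (by simpa using hne) (by decide +kernel)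
  have hK : ∀ χ ∈ E.K, (deg χ).natAbs = 21 := by
    intro χ hχ
    by_contra hne
    exact PrimeDegrees.false_of_degGen hperf hQ E h (fun k => decide (k ≠ 21)) (fun _ => true)
      (fun _ => true) hχ (by simpa using hne) (fun _ _ _ => rfl) rfl (by decide +kernel)
  have hF : (deg E.θ).natAbs = 20 := by
    obtain ⟨χ₁, hχ₁⟩ : E.K.Nonempty := Finset.card_pos.mp (by have := E.card_K; omega)
    by_contra hne
    exact PrimeDegrees.false_of_degGen hperf hQ E h (fun _ => true) (fun _ => true)
      (fun k => decide (k ≠ 20)) hχ₁ rfl (fun _ _ _ => rfl) (by simpa using hne) (by decide +kernel)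
  have hd := PrimeDegrees.dvd_deg_of_other hQ hCQ E D.θ D.θ_ne_one
    (fun hm => by have := hK _ hm; omega) (fun hm => by rw [E.fam_deg _ hm] at hθ; omega)
  have := Int.natAbs_dvd_natAbs.mpr hd
  rw [hθ] at this
  norm_num at this

/-- The degrees from the prime 7 are not all among `12, 35` and the multiples of 13. -/
theorem card_ne_5460 : Nat.card G ≠ 5460 := by
  intro h
  classical
  have hG := SmallOrderKills3.not_comm h (by norm_num)
  haveI : Fact (Nat.Prime 7) := ⟨by norm_num⟩
  haveI : Fact (Nat.Prime 13) := ⟨by norm_num⟩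
  have hperf := SmallGroups.Sylow.commutator_eq_top hG
  obtain ⟨P, n, e, c, hmem, hP, hn, hc, hC, ⟨D⟩⟩ :=
    PrimeDegrees.exists_live hG (p := 7) h (by norm_num) (by norm_num) (by norm_num) (by norm_num)
  rw [live_5460_seven, List.mem_singleton, Prod.mk.injEq] at hmem
  obtain ⟨rfl, rfl⟩ := hmem
  obtain ⟨Q, n', e', c', hmem', hQ, hn', hc', hC', ⟨E⟩⟩ :=
    PrimeDegrees.exists_live hG (p := 13) h (by norm_num) (by norm_num) (by norm_num) (by norm_num)
  rw [live_5460_thirteen, List.mem_singleton, Prod.mk.injEq] at hmem'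
  obtain ⟨rfl, rfl⟩ := hmem'
  have hCQ := SmallOrderKills4.centralizer_eq Q hQ (by rw [hC', hc'])
  obtain ⟨χ₁, hχ₁⟩ : E.K.Nonempty := Finset.card_pos.mp (by have := E.card_K; omega)
  have hK : ∀ χ ∈ E.K, (deg χ).natAbs = 12 := by
    intro χ hχ
    by_contra hne
    exact PrimeDegrees.false_of_degGen hperf hQ E h (fun k => decide (k ≠ 12)) (fun _ => true)
      (fun _ => true) hχ (by simpa using hne) (fun _ _ _ => rfl) rfl (by decide +kernel)
  have hF : (deg E.θ).natAbs = 35 := by
    by_contra hne
    exact PrimeDegrees.false_of_degGen hperf hQ E h (fun _ => true) (fun _ => true)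
      (fun k => decide (k ≠ 35)) hχ₁ rfl (fun _ _ _ => rfl) (by simpa using hne) (by decide +kernel)
  set ok : ℕ → Bool := fun k => decide (k % 13 = 0) || decide (k = 12) || decide (k = 35) with hok
  have hall : ∀ χ ∈ D.K, ok (deg χ).natAbs = true := by
    intro χ hχ
    simp only [hok, Bool.or_eq_true, decide_eq_true_eq]
    by_cases hm : χ ∈ E.K
    · exact Or.inl (Or.inr (hK χ hm))
    by_cases hm' : χ ∈ E.fam
    · exact Or.inr (by rw [E.fam_deg _ hm']; exact hF)
    · have hd := PrimeDegrees.dvd_deg_of_other hQ hCQ E χ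
        (fun he => D.one_not_mem (he ▸ hχ)) hm hm'
      have := Int.natAbs_dvd_natAbs.mpr hd
      exact Or.inl (Or.inl (Nat.mod_eq_zero_of_dvd this))
  obtain ⟨χ₀, hχ₀⟩ : D.K.Nonempty := Finset.card_pos.mp (by have := D.card_K; omega)
  exact PrimeDegrees.false_of_degGen hperf hP D h ok ok (fun _ => true) hχ₀ (hall _ hχ₀)
    (fun χ hχ _ => hall χ hχ) rfl (by decide +kernel)

section Order5400

open Subgroup

/-- Two conjugates of an intersection `D` of Sylow 5-subgroups would have 13 neighbours each among
the 18 conjugates, with at most six in common. -/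
theorem false_of_eighteen (h : Nat.card G = 5400) [Fact (Nat.Prime 5)] (P R : Sylow 5 G)
    (hP : Nat.card (P : Subgroup G) = 25)
    (hNP : Nat.card (normalizer ((P : Subgroup G) : Set G)) = 150)
    (hD : Nat.card ((P : Subgroup G) ⊓ (R : Subgroup G) : Subgroup G) = 5)
    (hN : Nat.card (normalizer (((P : Subgroup G) ⊓ (R : Subgroup G) : Subgroup G) : Set G)) = 300)
    (hPN : (P : Subgroup G) ≤ normalizer (((P : Subgroup G) ⊓ (R : Subgroup G) : Subgroup G) : Set G))
    (h6 : Nat.card (Sylow 5 ↥(normalizer (((P : Subgroup G) ⊓ (R : Subgroup G) : Subgroup G) : Set G))) = 6) :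
    False := by
  classical
  haveI := Fintype.ofFinite G
  haveI := Fintype.ofFinite (Subgroup G)
  set D := (P : Subgroup G) ⊓ (R : Subgroup G) with hDdef
  set N := normalizer (D : Set G) with hNdef
  set act : G → Subgroup G → Subgroup G := fun g H => MulAut.conj g • H with hact
  have hact1 : ∀ H : Subgroup G, act 1 H = H := fun H => by simp [hact]
  have hactm : ∀ a b : G, ∀ H, act (a * b) H = act a (act b H) := fun a b H => by
    simp [hact, mul_smul]
  have hfix : ∀ g : G, ∀ H : Subgroup G, act g H = H ↔ g ∈ normalizer (H : Set G) := fun g H => by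
    rw [Subgroup.mem_normalizer_iff_map_conj_eq]
    exact Iff.rfl
  have hmono : ∀ g : G, ∀ H K : Subgroup G, H ≤ K → act g H ≤ act g K := fun g H K hle =>
    Subgroup.map_mono hle
  have hnorm : ∀ g : G, ∀ H : Subgroup G, act g (normalizer (H : Set G)) ≤
      normalizer ((act g H : Subgroup G) : Set G) := fun g H => Subgroup.le_normalizer_map _
  have hcard : ∀ g : G, ∀ H : Subgroup G, Nat.card (act g H : Subgroup G) = Nat.card H :=
    fun g H => (Nat.card_congr (Subgroup.equivSMul (MulAut.conj g) H).toEquiv).symm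
  have hinj : ∀ g : G, Function.Injective (act g) := fun g => MulAction.injective (MulAut.conj g)
  -- the conjugates of `D`
  set C : Finset (Subgroup G) := Finset.univ.image fun g => act g D with hC
  have hCmem : ∀ g : G, ∀ A ∈ C, act g A ∈ C := fun g A hA => by
    obtain ⟨k, -, rfl⟩ := Finset.mem_image.mp hA
    exact Finset.mem_image.mpr ⟨g * k, Finset.mem_univ _, hactm g k D⟩
  have hC5 : ∀ A ∈ C, Nat.card A = 5 := fun A hA => by
    obtain ⟨k, -, rfl⟩ := Finset.mem_image.mp hA
    rw [hcard, hD]
  have hDC : D ∈ C := Finset.mem_image.mpr ⟨1, Finset.mem_univ _, hact1 D⟩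
  have hC18 : C.card * 300 ≤ 5400 := by
    rw [mul_comm]
    refine (Finset.mul_card_image_le_card (Finset.univ : Finset G) 300 fun A hA => ?_).trans
      (by rw [Finset.card_univ, ← Nat.card_eq_fintype_card, h])
    obtain ⟨k, -, rfl⟩ := Finset.mem_image.mp hA
    rw [← hN, Nat.card_eq_fintype_card, ← Finset.card_univ]
    refine Finset.card_le_card_of_injOn (fun x : N => k * x.1)
      (fun x _ => Finset.mem_coe.mpr (Finset.mem_filter.mpr ⟨Finset.mem_univ _, by
        rw [hactm, (hfix _ _).mpr x.2]⟩))
      (fun x _ y _ hxy => Subtype.ext (mul_left_cancel hxy))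
  -- the conjugates inside a subgroup
  set T : Subgroup G → Finset (Subgroup G) := fun Q => C.filter fun A => A ≤ Q with hT
  have hT3 : 3 ≤ (T P).card := by
    set M : Finset G := Finset.univ.filter fun x => x ∈ normalizer ((P : Subgroup G) : Set G) with hM
    have hMc : M.card = 150 := by rw [← hNP, Nat.card_eq_fintype_card, Fintype.card_subtype]
    have hsub : M.image (fun g => act g D) ⊆ T P := by
      intro A hA
      obtain ⟨g, hg, rfl⟩ := Finset.mem_image.mp hA
      refine Finset.mem_filter.mpr ⟨Finset.mem_image.mpr ⟨g, Finset.mem_univ _, rfl⟩, ?_⟩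
      have h' := hmono g D P inf_le_left
      rwa [(hfix g P).mpr (Finset.mem_filter.mp hg).2] at h'
    have hk : Nat.card (normalizer ((P : Subgroup G) : Set G) ⊓ N : Subgroup G) = 50 := by
      have h1 := SmallOrderTools.card_sylow_subgroup_mul P N hPN
      rw [h6, hN] at h1
      omega
    have h2 := Finset.card_le_mul_card_image (f := fun g => act g D) M 50 fun A hA => by
      obtain ⟨g, hg, rfl⟩ := Finset.mem_image.mp hA
      rw [← hk, Nat.card_eq_fintype_card, ← Finset.card_univ]
      refine Finset.card_le_card_of_injOn (fun x => if hx : g⁻¹ * x ∈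
          normalizer ((P : Subgroup G) : Set G) ⊓ N then ⟨g⁻¹ * x, hx⟩ else 1)
        (fun x _ => Finset.mem_coe.mpr (Finset.mem_univ _)) ?_
      intro x hx y hy hxy
      have hmem : ∀ z, z ∈ M.filter (fun a => act a D = act g D) →
          g⁻¹ * z ∈ normalizer ((P : Subgroup G) : Set G) ⊓ N := fun z hz => by
        obtain ⟨hzM, hz'⟩ := Finset.mem_filter.mp hz
        refine ⟨(normalizer ((P : Subgroup G) : Set G)).mul_mem
          ((normalizer ((P : Subgroup G) : Set G)).inv_mem (Finset.mem_filter.mp hg).2)
          (Finset.mem_filter.mp hzM).2, (hfix _ _).mp ?_⟩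
        rw [hactm, hz', ← hactm, inv_mul_cancel, hact1]
      simp only [dif_pos (hmem x hx), dif_pos (hmem y hy), Subtype.mk.injEq] at hxy
      exact mul_left_cancel hxy
    rw [hMc] at h2
    have := Finset.card_le_card hsub
    omega
  -- the neighbours
  set E : Subgroup G → Finset (Subgroup G) :=
    fun A => C.filter fun B => B ≤ normalizer (A : Set G) with hE
  have hE13 : 13 ≤ (E D).card := by
    let P' : Sylow 5 N := P.subtype hPN
    let im : Sylow 5 N → Subgroup G := fun Q => (Q : Subgroup N).map N.subtype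
    have himP : im P' = (P : Subgroup G) := by
      simp only [im, P', Sylow.coe_subtype, Subgroup.map_subgroupOf_eq_of_le hPN]
    have himN : ∀ Q, im Q ≤ N := fun Q => Subgroup.map_subtype_le _
    have himc : ∀ Q, Nat.card (im Q) = 25 := fun Q => by
      rw [← hP, ← himP]
      simp only [im]
      rw [Nat.card_congr ((Q : Subgroup N).equivMapOfInjective _ N.subtype_injective).symm.toEquiv,
        Nat.card_congr ((P' : Subgroup N).equivMapOfInjective _ N.subtype_injective).symm.toEquiv,
        Q.card_eq_multiplicity, P'.card_eq_multiplicity]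
    have hconj : ∀ Q, ∃ n ∈ N, im Q = act n P := fun Q => by
      obtain ⟨n, hn⟩ := MulAction.exists_smul_eq N P' Q
      refine ⟨n.1, n.2, ?_⟩
      rw [← hn, ← himP]
      simp only [im, hact, Sylow.coe_subgroup_smul]
      show Subgroup.map N.subtype (Subgroup.map (MulAut.conj n).toMonoidHom (P' : Subgroup N)) =
        Subgroup.map (MulAut.conj n.1).toMonoidHom (Subgroup.map N.subtype (P' : Subgroup N))
      rw [Subgroup.map_map, Subgroup.map_map]
      rfl
    have hDim : ∀ Q, D ≤ im Q := fun Q => by
      obtain ⟨n, hn, he⟩ := hconj Q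
      rw [he, ← (hfix n D).mpr hn]
      exact hmono n D P inf_le_left
    have hcardT : ∀ Q, 2 ≤ ((T (im Q)).erase D).card := fun Q => by
      obtain ⟨n, hn, he⟩ := hconj Q
      have h3 : 3 ≤ (T (im Q)).card := hT3.trans (Finset.card_le_card_of_injOn (act n)
        (fun A hA => by
          obtain ⟨hA1, hA2⟩ := Finset.mem_filter.mp hA
          exact Finset.mem_coe.mpr (Finset.mem_filter.mpr ⟨hCmem n A hA1, he ▸ hmono n A P hA2⟩))
        (hinj n).injOn)
      have hDT : D ∈ T (im Q) := Finset.mem_filter.mpr ⟨hDC, hDim Q⟩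
      rw [Finset.card_erase_of_mem hDT]
      omega
    have hdisj : ((Finset.univ : Finset (Sylow 5 N)) : Set (Sylow 5 N)).PairwiseDisjoint
        fun Q => (T (im Q)).erase D := by
      intro Q _ Q' _ hne
      rw [Function.onFun, Finset.disjoint_left]
      intro A hA hA'
      simp only [hT, Finset.mem_erase, Finset.mem_filter] at hA hA'
      have hle : im Q ⊓ im Q' ≤ im Q := inf_le_left
      have hd := Subgroup.card_dvd_of_le hle
      rw [himc] at hd
      have hne25 : Nat.card (im Q ⊓ im Q' : Subgroup G) ≠ 25 := fun he => hne (Sylow.ext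
        (Subgroup.map_injective N.subtype_injective
          ((Subgroup.eq_of_le_of_card_ge hle (by rw [he, himc])).symm.trans
            (Subgroup.eq_of_le_of_card_ge inf_le_right (by rw [he, himc])))))
      have h5 : Nat.card (im Q ⊓ im Q' : Subgroup G) ≤ 5 := by
        have := Nat.le_of_dvd (by norm_num) hd
        generalize Nat.card (im Q ⊓ im Q' : Subgroup G) = k at hd this hne25
        interval_cases k <;> omega
      have h1 : A = im Q ⊓ im Q' := Subgroup.eq_of_le_of_card_ge (le_inf hA.2.2 hA'.2.2)
        (by rw [hC5 A hA.2.1]; exact h5)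
      have h2 : D = im Q ⊓ im Q' := Subgroup.eq_of_le_of_card_ge (le_inf (hDim Q) (hDim Q'))
        (by rw [hD]; exact h5)
      exact hA.1 (h1.trans h2.symm)
    have hsub : insert D (Finset.univ.biUnion fun Q => (T (im Q)).erase D) ⊆ E D := by
      refine Finset.insert_subset (Finset.mem_filter.mpr ⟨hDC, Subgroup.le_normalizer⟩) ?_
      intro A hA
      obtain ⟨Q, -, hA⟩ := Finset.mem_biUnion.mp hA
      obtain ⟨hA1, hA2⟩ := Finset.mem_filter.mp (Finset.mem_erase.mp hA).2
      exact Finset.mem_filter.mpr ⟨hA1, hA2.trans (himN Q)⟩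
    have h1 := Finset.card_le_card hsub
    rw [Finset.card_insert_of_notMem (by simp), Finset.card_biUnion hdisj] at h1
    have h2 := Finset.card_nsmul_le_sum (Finset.univ : Finset (Sylow 5 N))
      (fun Q => ((T (im Q)).erase D).card) 2 fun Q _ => hcardT Q
    rw [Finset.card_univ, ← Nat.card_eq_fintype_card, h6, smul_eq_mul] at h2
    omega
  obtain ⟨B, hB, hBD⟩ := Finset.exists_mem_ne (s := T P) (by omega) D
  obtain ⟨hBC, hBP⟩ := Finset.mem_filter.mp hB
  obtain ⟨g, -, hgB⟩ := Finset.mem_image.mp hBC
  have hEB : 13 ≤ (E B).card := hE13.trans (Finset.card_le_card_of_injOn (act g) (fun A hA => by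
    obtain ⟨hA1, hA2⟩ := Finset.mem_filter.mp hA
    exact Finset.mem_coe.mpr (Finset.mem_filter.mpr
      ⟨hCmem g A hA1, hgB ▸ (hmono g _ _ hA2).trans (hnorm g D)⟩)) (hinj g).injOn)
  -- `P` is generated by `D` and `B`
  have hDB : D ⊔ B = (P : Subgroup G) := by
    have hle : D ⊔ B ≤ (P : Subgroup G) := sup_le inf_le_left hBP
    have hd := Subgroup.card_dvd_of_le hle
    rw [hP] at hd
    have h5 : Nat.card (D ⊔ B : Subgroup G) ≠ 5 := fun he =>
      hBD ((Subgroup.eq_of_le_of_card_ge le_sup_right (by rw [he, hC5 B hBC])).trans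
        (Subgroup.eq_of_le_of_card_ge le_sup_left (by rw [he, hD])).symm)
    have h5' := Subgroup.card_le_of_le (le_sup_left : D ≤ D ⊔ B)
    rw [hD] at h5'
    refine Subgroup.eq_of_le_of_card_ge hle ?_
    rw [hP]
    have := Nat.le_of_dvd (by norm_num) hd
    generalize Nat.card (D ⊔ B : Subgroup G) = k at hd this h5 h5' ⊢
    interval_cases k <;> omega
  have hcommon : E D ∩ E B ⊆ T P := by
    intro A hA
    obtain ⟨hA1, hA2⟩ := Finset.mem_inter.mp hA
    obtain ⟨hAC, hAD⟩ := Finset.mem_filter.mp hA1
    have hAB := (Finset.mem_filter.mp hA2).2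
    refine Finset.mem_filter.mpr ⟨hAC, ?_⟩
    have hAP : A ≤ normalizer ((P : Subgroup G) : Set G) := fun x hx => by
      rw [← hfix, ← hDB, hact]
      simp only [Subgroup.smul_sup]
      exact congrArg₂ _ ((hfix x D).mpr (hAD hx)) ((hfix x B).mpr (hAB hx))
    have hpA : IsPGroup 5 A := IsPGroup.of_card (n := 1) (by rw [hC5 A hAC, pow_one])
    calc A = A ⊓ normalizer ((P : Subgroup G) : Set G) := (inf_eq_left.mpr hAP).symm
      _ = A ⊓ (P : Subgroup G) := hpA.inf_normalizer_sylow P
      _ ≤ _ := inf_le_right
  have hTP : (T P).card ≤ 6 := by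
    have hdisj : ((T P : Finset (Subgroup G)) : Set (Subgroup G)).PairwiseDisjoint
        fun A => Finset.univ.filter fun x : G => x ∈ A ∧ x ≠ 1 := by
      intro A hA A' hA' hne
      rw [Function.onFun, Finset.disjoint_left]
      intro x hx hx'
      simp only [Finset.mem_filter, Finset.mem_univ, true_and] at hx hx'
      have hxo : orderOf x = 5 := by
        have h5 := Subgroup.orderOf_dvd_natCard A hx.1
        rw [hC5 A (Finset.mem_filter.mp (Finset.mem_coe.mp hA)).1] at h5
        rcases (Nat.dvd_prime (Fact.out : Nat.Prime 5)).mp h5 with h1 | h1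
        · exact absurd (orderOf_eq_one_iff.mp h1) hx.2
        · exact h1
      have key : ∀ A' ∈ T P, x ∈ A' → Subgroup.zpowers x = A' := fun A' hA' hx' =>
        Subgroup.eq_of_le_of_card_ge (Subgroup.zpowers_le.mpr hx') (by
          rw [hC5 A' (Finset.mem_filter.mp hA').1, Nat.card_zpowers, hxo])
      exact hne ((key A hA hx.1).symm.trans (key A' hA' hx'.1))
    have hsub : (T P).biUnion (fun A => Finset.univ.filter fun x : G => x ∈ A ∧ x ≠ 1) ⊆
        (Finset.univ.filter fun x : G => x ∈ (P : Subgroup G)).erase 1 := by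
      intro x hx
      obtain ⟨A, hA, hxA⟩ := Finset.mem_biUnion.mp hx
      simp only [Finset.mem_filter, Finset.mem_univ, true_and] at hxA
      exact Finset.mem_erase.mpr ⟨hxA.2, Finset.mem_filter.mpr
        ⟨Finset.mem_univ _, (Finset.mem_filter.mp hA).2 hxA.1⟩⟩
    have h1 := Finset.card_le_card hsub
    rw [Finset.card_biUnion hdisj, Finset.card_erase_of_mem (by simp), ← Fintype.card_subtype,
      ← Nat.card_eq_fintype_card, hP] at h1
    have h2 := Finset.card_nsmul_le_sum (T P)
      (fun A => (Finset.univ.filter fun x : G => x ∈ A ∧ x ≠ 1).card) 4 fun A hA => by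
      have he : (Finset.univ.filter fun x : G => x ∈ A ∧ x ≠ 1) =
          (Finset.univ.filter fun x : G => x ∈ A).erase 1 := by ext x; simp [and_comm]
      rw [he, Finset.card_erase_of_mem (by simp), ← Fintype.card_subtype,
        ← Nat.card_eq_fintype_card, hC5 A (Finset.mem_filter.mp hA).1]
    rw [smul_eq_mul] at h2
    omega
  have h1 := Finset.card_union_add_card_inter (E D) (E B)
  have h2 : (E D ∪ E B).card ≤ C.card :=
    Finset.card_le_card (Finset.union_subset (Finset.filter_subset _ _) (Finset.filter_subset _ _))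
  have h3 := Finset.card_le_card hcommon
  omega

theorem index_table : ((List.range 216).all fun m => decide (m = 0) || decide (216 % m ≠ 0) ||
    !((List.range (m + 1)).any fun d => decide (m % d = 0) && decide (d % 5 = 1) && decide (5 < d)) ||
    decide ((216 / m).factorial % 10800 ≠ 0) || decide (m = 6) || decide (m = 12) ||
    decide (m = 18)) = true := by decide +kernel

theorem card_ne_5400 : Nat.card G ≠ 5400 := by
  intro h
  classical
  haveI : Fact (Nat.Prime 5) := ⟨by norm_num⟩
  have hG := SmallOrderKills3.not_comm h (by norm_num)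
  have h1 : Nat.card G = 5 ^ 2 * 216 := by rw [h]; norm_num
  have hn := OrderSieve.mem_adm hG h1 (by norm_num) two_ne_zero (by norm_num)
  rw [h, show OrderSieve.adm 5400 5 2 216 = [36, 216] by decide +kernel, List.mem_cons,
    List.mem_singleton] at hn
  have hcard : ∀ P : Sylow 5 G, Nat.card (P : Subgroup G) = 25 := fun P =>
    SmallGroups.Sylow.card_sylow_eq P h1 (by norm_num)
  rcases hn with hn | hn
  swap
  · let P : Sylow 5 G := default
    have hN := SmallGroups.Sylow.card_normalizer_mul P
    rw [hn, h] at hN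
    have heq := Subgroup.eq_of_le_of_card_ge
      (Subgroup.le_normalizer : (P : Subgroup G) ≤ _) (by rw [hcard P]; omega)
    refine SmallGroups.Sylow.not_normalizer_le_centralizer hG P (fun hb => ?_) ?_
    · have := hcard P
      rw [hb, Subgroup.card_bot] at this
      omega
    · rw [← heq]
      exact SmallGroups.Counting.comm_of_card_sq (p := 5) (by rw [hcard P]; norm_num)
  obtain ⟨P, R, hPR, j, hj0, hj2, hj⟩ :=
    SmallGroups.Counting.exists_card_inf_mul (p := 5) (G := G) 2 (by rw [hn]; decide)
  obtain rfl : j = 1 := by omega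
  rw [pow_one] at hj
  obtain ⟨hPN, hRN, m, d, hm, hdm, hdp, hd5, -⟩ :=
    SmallGroups.Counting.normalizer_inf_of_index_prime P R hPR hj
  rw [hcard P] at hj hm
  set D := (P : Subgroup G) ⊓ (R : Subgroup G) with hDdef
  set N := normalizer (D : Set G) with hNdef
  have hNtop : N ≠ ⊤ := fun htop => by
    rcases (Subgroup.normalizer_eq_top_iff.mp htop).eq_bot_or_eq_top with h' | h'
    · rw [h', Subgroup.card_bot] at hj; omega
    · rw [h', Subgroup.card_top, h] at hj; omega
  have hk := SmallGroups.Sylow.two_mul_card_dvd_factorial hG hNtop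
  have hidx := N.card_mul_index
  rw [hm, h] at hidx
  rw [h] at hk
  have hm0 : 0 < m := by
    rcases Nat.eq_zero_or_pos m with rfl | h'
    · simp at hidx
    · exact h'
  have hmd : m * N.index = 216 := by
    rw [mul_assoc] at hidx; omega
  have hm216 : m ∣ 216 := Dvd.intro _ hmd
  have hmlt : m < 216 := by
    have h2 : N.index ≠ 1 := fun h' => hNtop (Subgroup.index_eq_one.mp h')
    have h3 : N.index ≠ 0 := Subgroup.index_ne_zero_of_finite
    nlinarith [show 2 ≤ N.index by omega]
  have hm' : m = 6 ∨ m = 12 ∨ m = 18 := by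
    have ht := index_table
    simp only [List.all_eq_true, List.mem_range, Bool.or_eq_true, decide_eq_true_eq,
      Bool.not_eq_true', List.any_eq_false, Bool.and_eq_true] at ht
    have hi : 216 / m = N.index := Nat.div_eq_of_eq_mul_right hm0 hmd.symm
    rcases ht m hmlt with (((((h' | h') | h') | h') | h') | h') | h'
    · omega
    · exact absurd (Nat.mod_eq_zero_of_dvd hm216) h'
    · exact absurd ⟨⟨Nat.mod_eq_zero_of_dvd hdm, hdp⟩, hd5⟩
        (h' d (Nat.lt_succ_of_le (Nat.le_of_dvd hm0 hdm)))
    · exact absurd (Nat.mod_eq_zero_of_dvd (hi ▸ hk)) h'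
    · exact Or.inl h'
    · exact Or.inr (Or.inl h')
    · exact Or.inr (Or.inr h')
  -- the Sylow subgroups of `N`
  set P' : Sylow 5 N := P.subtype hPN with hP'
  set R' : Sylow 5 N := R.subtype hRN with hR'
  have hne : P' ≠ R' := fun he => hPR (Sylow.subtype_injective he)
  have hmnd : ¬ 5 ∣ m := by omega
  have hn1 : Nat.card (Sylow 5 N) ≠ 1 := fun he => hne (by
    haveI := (Nat.card_eq_one_iff_unique.mp he).1
    exact Subsingleton.elim _ _)
  have hcN : Nat.card N = 5 ^ 2 * m := by rw [hm]; norm_num
  have hsd := SmallGroups.Sylow.card_sylow_dvd hcN hmnd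
  have hsm : Nat.card (Sylow 5 N) % 5 = 1 := SmallGroups.Sylow.card_sylow_mod
  have hc' : ∀ S : Sylow 5 N, Nat.card (S : Subgroup N) = 25 := fun S =>
    SmallGroups.Sylow.card_sylow_eq S hcN hmnd
  by_cases h12 : m = 12
  · subst h12
    have hs6 : Nat.card (Sylow 5 N) = 6 := by
      have := Nat.le_of_dvd (by norm_num) hsd
      generalize Nat.card (Sylow 5 N) = s at hsd hsm hn1 this
      interval_cases s <;> omega
    have hN150 : Nat.card (normalizer ((P : Subgroup G) : Set G)) = 150 := by
      have := SmallGroups.Sylow.card_normalizer_mul P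
      rw [hn, h] at this
      omega
    exact false_of_eighteen h P R (hcard P) hN150 (by show Nat.card D = 5; omega) (by rw [hm]) hPN hs6
  -- otherwise `N` has a subgroup of index two with a single Sylow subgroup
  obtain ⟨K, hK⟩ := Involutions.IndexTwo.exists_index_two_of_mod_four (G := N) (by omega)
  haveI := Subgroup.normal_of_index_eq_two hK
  have hle : ∀ S : Sylow 5 N, (S : Subgroup N) ≤ K := fun S s hs => by
    have h2 : s * s ∈ K := Subgroup.mul_self_mem_of_index_two hK s
    have h25 : s ^ 25 = 1 := by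
      have h3 := Subgroup.orderOf_dvd_natCard _ hs
      rw [hc' S] at h3
      exact orderOf_dvd_iff_pow_eq_one.mp h3
    have e : s = (s * s) ^ 13 := by
      rw [← pow_two, ← pow_mul, show 2 * 13 = 25 + 1 by norm_num, pow_succ, h25, one_mul]
    rw [e]
    exact pow_mem h2 13
  obtain ⟨k, hmk⟩ : ∃ k, m = 2 * k := ⟨m / 2, by omega⟩
  have hcK : Nat.card K = 5 ^ 2 * k := by
    have := K.card_mul_index
    rw [hK, hcN, hmk] at this
    omega
  have hsK : Nat.card (Sylow 5 K) = 1 := by
    have h2 := SmallGroups.Sylow.card_sylow_dvd hcK (by omega)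
    have h3 : Nat.card (Sylow 5 K) % 5 = 1 := SmallGroups.Sylow.card_sylow_mod
    have h4 := Nat.le_of_dvd (by omega) h2
    generalize Nat.card (Sylow 5 K) = s at h2 h3 h4
    rcases (show k = 3 ∨ k = 9 by omega) with rfl | rfl <;> interval_cases s <;> omega
  haveI := (Nat.card_eq_one_iff_unique.mp hsK).1
  exact hne (Sylow.subtype_injective (Subsingleton.elim (P'.subtype (hle P')) (R'.subtype (hle R'))))

end Order5400

/-- Orders excluded by a prime dividing them once. -/
def liveList : List (ℕ × ℕ) :=
  [(3648, 19), (3696, 11), (3744, 13), (3780, 7), (3960, 11), (4160, 13), (4200, 7), (4212, 13),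
    (4400, 11), (4536, 7), (4680, 13), (4760, 17), (4800, 3), (4928, 11), (4960, 31), (5104, 29),
    (5148, 13), (5200, 13), (5376, 7), (5472, 19), (5600, 7), (5724, 53), (5880, 5), (5940, 11),
    (6160, 11)]

theorem liveList_spec : (liveList.all fun gp =>
    decide (gp.1 % gp.2 = 0) && decide (gp.1 / gp.2 % gp.2 ≠ 0) && decide (gp.1 / gp.2 ≠ 1) &&
      decide (3 ≤ gp.2) && OrderSieve.isP gp.2 &&
        (PrimeDegrees.live gp.1 gp.2).isEmpty) = true := by decide +kernel

/-- The remaining orders. -/
def rest : List ℕ := [4032, 4080, 4320, 4620, 5040, 5400, 5460, 5616, 5760, 6048, 6072]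

/-- An odd order not divisible by the cube of a prime up to `17`. -/
def oddFree (n : ℕ) : Bool :=
  decide (n % 2 = 1) && [27, 125, 343, 1331, 2197, 4913].all fun c => decide (n % c ≠ 0)

/-- One order of the table. -/
def handled (n : ℕ) : Bool :=
  oddFree n || (liveList.map Prod.fst).contains n || rest.contains n || OrderSieve.excluded n

/-- A block of 288 orders. -/
def block (k : ℕ) : Bool := (List.range 288).all fun i => handled (3641 + 288 * k + i)

theorem block_0 : block 0 = true := by decide +kernel

theorem block_1 : block 1 = true := by decide +kernel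

theorem block_2 : block 2 = true := by decide +kernel

theorem block_3 : block 3 = true := by decide +kernel

theorem block_4 : block 4 = true := by decide +kernel

theorem block_5 : block 5 = true := by decide +kernel

theorem block_6 : block 6 = true := by decide +kernel

theorem block_7 : block 7 = true := by decide +kernel

theorem block_8 : block 8 = true := by decide +kernel

theorem order_table {n : ℕ} (h1 : 3641 ≤ n) (h2 : n < 6233) : handled n = true := by
  have key : ∀ k, block k = true → ∀ i, i < 288 → handled (3641 + 288 * k + i) = true := by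
    intro k hk i hi
    simp only [block, List.all_eq_true, List.mem_range] at hk
    exact hk i hi
  obtain ⟨k, i, hk, hi, rfl⟩ : ∃ k i, k < 9 ∧ i < 288 ∧ n = 3641 + 288 * k + i :=
    ⟨(n - 3641) / 288, (n - 3641) % 288, by omega, Nat.mod_lt _ (by norm_num), by omega⟩
  interval_cases k
  · exact key 0 block_0 i hi
  · exact key 1 block_1 i hi
  · exact key 2 block_2 i hi
  · exact key 3 block_3 i hi
  · exact key 4 block_4 i hi
  · exact key 5 block_5 i hi
  · exact key 6 block_6 i hi
  · exact key 7 block_7 i hi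
  · exact key 8 block_8 i hi

/-- The least prime of an odd simple order appears cubed. -/
theorem not_oddFree (hG : ¬ IsMulCommutative G) (hle : Nat.card G ≤ 6232) :
    oddFree (Nat.card G) = false := by
  rw [Bool.eq_false_iff]
  intro hf
  simp only [oddFree, Bool.and_eq_true, decide_eq_true_eq, List.all_eq_true] at hf
  obtain ⟨hodd, hall⟩ := hf
  have hne : ∃ x y : G, x * y ≠ y * x := by
    by_contra hcon
    push Not at hcon
    exact hG ⟨⟨hcon⟩⟩
  rcases S0073.result hne with h3 | h12
  · have hp : (Nat.card G).minFac.Prime := Nat.minFac_prime (fun h1 => by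
      obtain ⟨x, y, hxy⟩ := hne
      haveI := (Nat.card_eq_one_iff_unique.mp h1).1
      exact hxy (Subsingleton.elim _ _))
    have hd := Nat.minFac_dvd (Nat.card G)
    generalize (Nat.card G).minFac = p at h3 hp hd
    have hle3 : p ^ 3 ≤ 6232 := (Nat.le_of_dvd Nat.card_pos h3).trans hle
    have h18 : p < 19 := by
      by_contra hc
      push Not at hc
      have : 19 ^ 3 ≤ p ^ 3 := Nat.pow_le_pow_left hc 3
      omega
    have := hp.two_le
    have hm := Nat.mod_eq_zero_of_dvd h3
    interval_cases p <;> norm_num at hp <;>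
      first
        | omega
        | exact hall _ (by norm_num) hm
  · omega

/-- A non-abelian simple group of order in `(3640, 6232]`. -/
theorem card_mem_rest (hG : ¬ IsMulCommutative G) (h1 : 3640 < Nat.card G)
    (h2 : Nat.card G ≤ 6232) : Nat.card G ∈ rest := by
  have h' := order_table (n := Nat.card G) (by omega) (by omega)
  simp only [handled, OrderSieve.not_excluded hG, not_oddFree hG h2, Bool.false_or, Bool.or_false,
    Bool.or_eq_true, List.contains_iff_mem] at h'
  refine h'.resolve_left fun hl => ?_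
  obtain ⟨⟨g, p⟩, hmem, hg⟩ := List.mem_map.mp hl
  have hspec := List.all_eq_true.mp liveList_spec _ hmem
  simp only [Bool.and_eq_true, decide_eq_true_eq] at hspec
  obtain ⟨⟨⟨⟨⟨e1, e2⟩, e3⟩, e4⟩, e5⟩, e6⟩ := hspec
  haveI : Fact p.Prime := ⟨OrderSieve.prime_of_isP e5⟩
  exact PrimeDegrees.false_of_live hG hg.symm (by omega) (Nat.dvd_of_mod_eq_zero e1) e2 e3 e6

end Cfsg.Agent.Lib.Classif.OrdersTo6232
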