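import Cfsg.Agent.Lib.Classif.Order175560

/-!
# Degree restrictions from a Sylow subgroup of prime order

In a non-abelian simple group, the characters attached to a Sylow subgroup `P` of order `p` have
degree at least `2p` when `P` is not self-centralising; when it is, every other character has
degree divisible by `p`.  A decidable search over the possible signed degrees completes the
criterion `Order175560.deadCase`.
-/

set_option autoImplicit false
set_option linter.style.haveILetI false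
set_option linter.unusedSectionVars false

namespace Cfsg.Agent.Lib.Classif.PrimeDegrees

open Cfsg.Agent.Lib.Characters Cfsg.Agent.Lib.Characters.Basic
open Cfsg.Agent.Lib.Classif.PrimeExceptional (deg apply_one_eq two_le_deg deg_oneChar natAbs_deg)
open scoped ComplexConjugate

universe u

variable {G : Type u} [Group G] [Finite G]

section Degree

variable [IsSimpleGroup G] {p : ℕ} [hp : Fact p.Prime]

/-- If the values of `χ` at the powers of an element of prime order `q ≠ p` are congruent to one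
integer modulo `p`, then every non-trivial eigenvalue has multiplicity divisible by `p`; as the
determinant is one, the degree is at least `2p`. -/
theorem two_mul_le_deg (hG : ¬ IsMulCommutative G) (χ : Cfsg.IrrCharacter G)
    (hχ : χ ≠ oneChar G) {v : G} {q : ℕ} (hq : q.Prime) (hv : orderOf v = q) (hqp : q ≠ p)
    (a : ℤ) (h : ∀ j : ℕ, IsIntegral ℤ (((χ : G → ℂ) (v ^ j) - (a : ℂ)) / (p : ℂ))) :
    2 * (p : ℤ) ≤ deg χ := by
  classical
  obtain ⟨n, ρ, -, hχρ⟩ := exists_rep χ
  obtain ⟨ι, hι, b, ζ, hζ, hcard, -⟩ :=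
    Diag.exists_eigenbasis ρ v hq.ne_zero (by rw [← hv, pow_orderOf_eq_one])
  have hpow : ∀ (j : ℕ) (i : ι), ρ (v ^ j) (b i) = ζ i ^ j • b i := by
    intro j i
    induction j with
    | zero => simp
    | succ j ih =>
      rw [pow_succ, map_mul, Module.End.mul_apply, (hζ i).1, map_smul, ih, smul_smul, pow_succ']
  have hval : ∀ j : ℕ, (χ : G → ℂ) (v ^ j) = ∑ i, ζ i ^ j := fun j => by
    rw [← hχρ]
    exact Diag.trace_eq_sum_eigenvalues b (ρ (v ^ j)) _ (hpow j)
  have hdeg : deg χ = (Fintype.card ι : ℤ) := by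
    have h0 := hval 0
    rw [pow_zero, apply_one_eq] at h0
    simp only [pow_zero, Finset.sum_const, Finset.card_univ, nsmul_one] at h0
    exact_mod_cast h0
  -- multiplicities
  have hmult : ∀ η : ℂ, η ^ q = 1 → η ≠ 1 →
      p ∣ (Finset.univ.filter fun i => ζ i * η = 1).card := by
    intro η hη hη1
    set N := (Finset.univ.filter fun i => ζ i * η = 1).card with hN
    have hgeom : ∀ z : ℂ, z ^ q = 1 → z ≠ 1 → ∑ j ∈ Finset.range q, z ^ j = 0 := fun z hz hz1 => by
      rw [geom_sum_eq hz1, hz, sub_self, zero_div]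
    have key : ∑ j ∈ Finset.range q, (((χ : G → ℂ) (v ^ j) - (a : ℂ)) / (p : ℂ)) * η ^ j =
        (((q * N : ℕ) : ℤ) : ℂ) / (p : ℂ) := by
      simp only [div_mul_eq_mul_div]
      rw [← Finset.sum_div]
      congr 1
      simp only [sub_mul, Finset.sum_sub_distrib, ← Finset.mul_sum, hgeom η hη hη1, mul_zero,
        sub_zero, hval, Finset.sum_mul, ← mul_pow]
      rw [Finset.sum_comm,
        Finset.sum_congr rfl (g := fun i => if ζ i * η = 1 then (q : ℂ) else 0) fun i _ => ?_,
        Finset.sum_ite, Finset.sum_const_zero, add_zero, Finset.sum_const, nsmul_eq_mul, ← hN]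
      · push_cast; ring
      · split_ifs with he
        · simp [he]
        · exact hgeom _ (by rw [mul_pow, (hζ i).2, hη, one_mul]) he
    have hint : IsIntegral ℤ ((((q * N : ℕ) : ℤ) : ℂ) / (p : ℂ)) := by
      rw [← key]
      refine IsIntegral.sum _ fun j _ => (h j).mul (IsIntegral.pow ?_ j)
      exact ⟨Polynomial.X ^ q - Polynomial.C 1, Polynomial.monic_X_pow_sub_C 1 hq.ne_zero,
        by simp [hη]⟩
    have hd := Int.natCast_dvd_natCast.mp (FirstPowerData.int_dvd_of_isIntegral hp.out.ne_zero hint)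
    exact (hp.out.dvd_mul.mp hd).resolve_left fun hd' =>
      hqp ((Nat.prime_dvd_prime_iff_eq hp.out hq).mp hd').symm
  have hζ0 : ∀ i, ζ i ≠ 0 := fun i h0 => by
    have := (hζ i).2
    rw [h0, zero_pow hq.ne_zero] at this
    exact zero_ne_one this
  -- a non-trivial eigenvalue
  obtain ⟨i₀, hi₀⟩ : ∃ i, ζ i ≠ 1 := by
    by_contra hcon
    push Not at hcon
    refine FirstPowerKills.apply_ne_deg hG χ hχ (g := v)
      (fun h1 => by rw [h1, orderOf_one] at hv; exact hq.ne_one hv.symm) ?_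
    have h1 := hval 1
    simp only [pow_one, hcon, Finset.sum_const, Finset.card_univ, nsmul_one] at h1
    rw [h1, hdeg]
    simp
  set S : ι → Finset ι := fun i => Finset.univ.filter fun k => ζ k * (ζ i)⁻¹ = 1 with hS
  have hmem : ∀ i, i ∈ S i := fun i =>
    Finset.mem_filter.mpr ⟨Finset.mem_univ _, mul_inv_cancel₀ (hζ0 i)⟩
  have heq : ∀ i k, k ∈ S i → ζ k = ζ i := fun i k hk => by
    have := (Finset.mem_filter.mp hk).2
    exact (mul_inv_eq_one₀ (hζ0 i)).mp this
  have hbig : ∀ i, ζ i ≠ 1 → p ∣ (S i).card ∧ p ≤ (S i).card := fun i hi => by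
    have hd := hmult (ζ i)⁻¹ (by rw [inv_pow, (hζ i).2, inv_one])
      (fun h1 => hi (inv_eq_one.mp h1))
    exact ⟨hd, Nat.le_of_dvd (Finset.card_pos.mpr ⟨i, hmem i⟩) hd⟩
  by_contra hlt
  rw [hdeg] at hlt
  have hlt' : Fintype.card ι < 2 * p := by omega
  have honly : ∀ i, ζ i ≠ 1 → ζ i = ζ i₀ := by
    intro i hi
    by_contra hne
    have hdisj : Disjoint (S i) (S i₀) := Finset.disjoint_left.mpr fun k hk hk' =>
      hne ((heq i k hk).symm.trans (heq i₀ k hk'))
    have h1 := Finset.card_le_univ (S i ∪ S i₀)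
    rw [Finset.card_union_of_disjoint hdisj] at h1
    have := (hbig i hi).2
    have := (hbig i₀ hi₀).2
    omega
  have hdet : LinearMap.det (ρ v) = 1 := by
    let M : G →* ℂˣ := ((LinearMap.det).comp ρ).toHomUnits
    have hker : commutator G ≤ M.ker := Abelianization.commutator_subset_ker M
    exact congrArg Units.val (hker (SmallGroups.Sylow.commutator_eq_top hG ▸ Subgroup.mem_top v))
  have hdiag : LinearMap.toMatrix b b (ρ v) = Matrix.diagonal ζ := by
    ext i j
    rw [LinearMap.toMatrix_apply, (hζ j).1, map_smul, Module.Basis.repr_self, Matrix.diagonal]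
    by_cases h : i = j
    · subst h; simp
    · simp [h]
  rw [← LinearMap.det_toMatrix b, hdiag, Matrix.det_diagonal,
    ← Finset.prod_subset (Finset.subset_univ (S i₀)) fun i _ hi => ?_,
    Finset.prod_congr rfl (g := fun _ => ζ i₀) fun k hk => heq i₀ k hk, Finset.prod_const] at hdet
  · obtain ⟨⟨m, hm⟩, hle⟩ := hbig i₀ hi₀
    have hle' := Finset.card_le_univ (S i₀)
    have hm1 : m = 1 := by nlinarith
    rw [hm, hm1, mul_one] at hdet
    apply hi₀
    have hco : Nat.Coprime p q := (Nat.coprime_primes hp.out hq).mpr (Ne.symm hqp)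
    have h1 : ζ i₀ ^ Nat.gcd p q = 1 := pow_gcd_eq_one.mpr ⟨hdet, (hζ i₀).2⟩
    rwa [hco.gcd_eq_one, pow_one] at h1
  · by_contra hne
    exact hi (Finset.mem_filter.mpr ⟨Finset.mem_univ _, by
      rw [honly i hne, mul_inv_cancel₀ (hζ0 i₀)]⟩)

variable {P : Sylow p G} {e : ℕ}

/-- A centraliser of `P` larger than `P` forces degrees at least `2p`. -/
theorem two_mul_le_of_centralizer (hG : ¬ IsMulCommutative G)
    (hP : Nat.card (P : Subgroup G) = p) {c : ℕ}
    (hC : Nat.card (Subgroup.centralizer ((P : Subgroup G) : Set G)) = c) (hne : c ≠ p)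
    (hpc : p ∣ c) (h2 : ¬ p ^ 2 ∣ c) (D : FirstPowerData.Data P e) :
    (∀ χ ∈ D.K, 2 * p ≤ (deg χ).natAbs) ∧ 2 * p ≤ (deg D.θ).natAbs := by
  obtain ⟨k, rfl⟩ := hpc
  have hk1 : k ≠ 1 := fun h => hne (by rw [h, mul_one])
  obtain ⟨q, hq, hqk⟩ := Nat.exists_prime_and_dvd hk1
  have hqp : q ≠ p := fun h => h2 (by rw [pow_two]; exact Nat.mul_dvd_mul_left p (h ▸ hqk))
  haveI : Fact q.Prime := ⟨hq⟩
  obtain ⟨w, hw⟩ := exists_prime_orderOf_dvd_card'
    (G := Subgroup.centralizer ((P : Subgroup G) : Set G)) q (by rw [hC]; exact hqk.mul_left p)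
  set v : G := (w : G) with hv
  have hvo : orderOf v = q := by rw [hv, Subgroup.orderOf_coe, hw]
  have hnd : ∀ j : ℕ, ¬ p ∣ orderOf (v ^ j) := fun j hd => hqp (by
    have hd' : p ∣ q := hd.trans (hvo ▸ orderOf_pow_dvd j)
    exact ((Nat.prime_dvd_prime_iff_eq hp.out hq).mp hd').symm)
  have key : ∀ χ : Cfsg.IrrCharacter G, χ ≠ oneChar G → ∀ a : ℤ,
      (∀ j : ℕ, IsIntegral ℤ (((χ : G → ℂ) (v ^ j) - (a : ℂ)) / (p : ℂ))) →
        2 * p ≤ (deg χ).natAbs := fun χ hχ a h => by
    have := two_mul_le_deg hG χ hχ hq hvo hqp a h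
    omega
  refine ⟨fun χ hχ => key χ (fun h => D.one_not_mem (h ▸ hχ)) (D.a χ)
    fun j => D.value_cong hP hχ (pow_mem w.2 j) (hnd j), ?_⟩
  refine key D.θ D.θ_ne_one (D.δ * e) fun j => ?_
  have hr := D.rel (v ^ j) (hnd j)
  have hint : IsIntegral ℤ ((D.δ : ℂ) * ∑ χ ∈ D.K,
      (D.a χ : ℂ) * (((χ : G → ℂ) (v ^ j) - (D.a χ : ℂ)) / (p : ℂ))) :=
    (isIntegral_algebraMap (R := ℤ) (A := ℂ) (x := D.δ)).mul (IsIntegral.sum _ fun χ hχ =>
      (isIntegral_algebraMap (R := ℤ) (A := ℂ) (x := D.a χ)).mul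
        (D.value_cong hP hχ (pow_mem w.2 j) (hnd j)))
  have hsum : ∑ χ ∈ D.K, (D.a χ : ℂ) * (((χ : G → ℂ) (v ^ j) - (D.a χ : ℂ)) / (p : ℂ)) =
      (∑ χ ∈ D.K, (D.a χ : ℂ) * (χ : G → ℂ) (v ^ j) - (D.K.card : ℂ)) / (p : ℂ) := by
    rw [Finset.sum_congr rfl
      (g := fun χ => ((D.a χ : ℂ) * (χ : G → ℂ) (v ^ j) - 1) / (p : ℂ)) fun χ hχ => by
        rcases D.a_unit χ hχ with h | h <;> rw [h] <;> push_cast <;> ring,
      ← Finset.sum_div, Finset.sum_sub_distrib, Finset.sum_const, nsmul_one]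
  have he : (e : ℂ) = (D.K.card : ℂ) + 1 := by exact_mod_cast D.card_K.symm
  have hδ : (D.δ : ℂ) * D.δ = 1 := by rcases D.δ_unit with h | h <;> rw [h] <;> norm_num
  have e1 : ((D.θ : G → ℂ) (v ^ j) - ((D.δ * e : ℤ) : ℂ)) / (p : ℂ) =
      (D.δ : ℂ) * ∑ χ ∈ D.K, (D.a χ : ℂ) * (((χ : G → ℂ) (v ^ j) - (D.a χ : ℂ)) / (p : ℂ)) := by
    rw [hsum, mul_div_assoc']
    congr 1
    push_cast
    linear_combination -(D.θ : G → ℂ) (v ^ j) * hδ - (D.δ : ℂ) * hr - (D.δ : ℂ) * he
  rw [e1]
  exact hint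

/-- With a self-centralising `P`, a character outside the family has degree divisible by `p`. -/
theorem dvd_deg_of_other (hP : Nat.card (P : Subgroup G) = p)
    (hC : Subgroup.centralizer ((P : Subgroup G) : Set G) = P) (D : FirstPowerData.Data P e)
    (ψ : Cfsg.IrrCharacter G) (h1 : ψ ≠ oneChar G) (hK : ψ ∉ D.K) (hfam : ψ ∉ D.fam) :
    (p : ℤ) ∣ deg ψ := by
  classical
  haveI := Fintype.ofFinite G
  have horth : ∀ χ : Cfsg.IrrCharacter G, ψ ≠ χ →
      ∑ g : G, (χ : G → ℂ) g * conj ((ψ : G → ℂ) g) = 0 := fun χ hne => by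
    have h := classInner_irr_of_ne (χ := χ) (ψ := ψ) (Ne.symm hne)
    rw [Cfsg.classInner] at h
    exact (mul_eq_zero.mp h).resolve_left (inv_ne_zero (Nat.cast_ne_zero.mpr Nat.card_pos.ne'))
  set t := D.fam.card with ht
  have hpe : e * t + 1 = p := D.fam_card
  -- the sum over the singular elements vanishes
  have hsing : ∑ g ∈ Finset.univ.filter (fun g : G => p ∣ orderOf g),
      conj ((ψ : G → ℂ) g) = 0 := by
    have hΦ : ∑ g : G, ((t : ℂ) * (1 + ∑ χ ∈ D.K, (D.a χ : ℂ) * (χ : G → ℂ) g) -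
        (D.δ : ℂ) * ∑ θ' ∈ D.fam, (θ' : G → ℂ) g) * conj ((ψ : G → ℂ) g) = 0 := by
      simp only [sub_mul, mul_assoc, add_mul, one_mul, Finset.sum_mul, Finset.sum_sub_distrib,
        ← Finset.mul_sum, Finset.sum_add_distrib]
      rw [Finset.sum_comm (t := D.K), Finset.sum_comm (t := D.fam)]
      simp only [← Finset.mul_sum]
      have e0 : ∑ g : G, conj ((ψ : G → ℂ) g) = 0 := by
        simpa [oneChar_apply] using horth (oneChar G) h1
      rw [e0, Finset.sum_eq_zero fun χ hχ => by rw [horth χ fun h => hK (h ▸ hχ), mul_zero],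
        Finset.sum_eq_zero fun θ' hθ' => horth θ' fun h => hfam (h ▸ hθ')]
      simp
    have hpt : ∀ g : G, (t : ℂ) * (1 + ∑ χ ∈ D.K, (D.a χ : ℂ) * (χ : G → ℂ) g) -
        (D.δ : ℂ) * ∑ θ' ∈ D.fam, (θ' : G → ℂ) g = if p ∣ orderOf g then (p : ℂ) else 0 := by
      intro g
      split_ifs with hg
      · obtain ⟨b, hb, hb1⟩ := FirstPowerData.exists_conj_mem P hP hC hg
        rw [D.fam_singular hC g hg,
          Finset.sum_congr rfl (g := fun _ => (1 : ℂ)) fun χ hχ => ?_, Finset.sum_const, nsmul_one]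
        · have hδ : (D.δ : ℂ) * D.δ = 1 := by rcases D.δ_unit with h | h <;> rw [h] <;> norm_num
          have he : (D.K.card : ℂ) + 1 = e := by exact_mod_cast D.card_K
          have hpe' : (e : ℂ) * t + 1 = p := by exact_mod_cast hpe
          linear_combination hδ + (t : ℂ) * he + hpe'
        · have h := D.value χ hχ _ hb hb1 1 (one_mem _)
            (by rw [orderOf_one]; simpa using hp.out.ne_one)
          rw [mul_one, isClassFunction_irr χ g b] at h
          rw [h]
          rcases D.a_unit χ hχ with h' | h' <;> rw [h'] <;> norm_num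
      · rw [D.rel g hg, Finset.sum_congr rfl fun θ' h' => D.fam_regular θ' h' g hg,
          Finset.sum_const, nsmul_eq_mul, ← ht]
        ring
    simp only [hpt, ite_mul, zero_mul, Finset.sum_ite, Finset.sum_const_zero, add_zero,
      ← Finset.mul_sum] at hΦ
    exact (mul_eq_zero.mp hΦ).resolve_left (Nat.cast_ne_zero.mpr hp.out.ne_zero)
  -- transfer to `P`
  have hcount : ∑ a : G, ∑ g ∈ Finset.univ.filter
      (fun g : G => a⁻¹ * g * a ∈ (P : Subgroup G) ∧ a⁻¹ * g * a ≠ 1),
        conj ((ψ : G → ℂ) g) =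
      (Nat.card (Subgroup.normalizer ((P : Subgroup G) : Set G)) : ℂ) * 0 := by
    rw [← hsing, Finset.mul_sum]
    simp only [Finset.sum_filter]
    rw [Finset.sum_comm]
    refine Finset.sum_congr rfl fun g _ => ?_
    rw [← Finset.sum_filter, Finset.sum_const, nsmul_eq_mul]
    split_ifs with hg
    · rw [← ClassSum.card_conj_mem_indicator P hP hC hg, Nat.card_eq_fintype_card,
        Fintype.card_subtype]
    · rw [Finset.filter_eq_empty_iff.mpr fun a _ ha => hg ?_, Finset.card_empty, Nat.cast_zero,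
        zero_mul]
      haveI := isCyclic_of_prime_card hP
      have h2 := orderOf_eq_prime (p := p) (FixedSylow.pow_eq_one P hP ha.1) ha.2
      have h3 : orderOf (a⁻¹ * g * a⁻¹⁻¹) = orderOf g := (MulAut.conj a⁻¹).orderOf_eq g
      rw [inv_inv, h2] at h3
      rw [← h3]
  rw [mul_zero] at hcount
  have hconst : ∀ a : G, ∑ g ∈ Finset.univ.filter
      (fun g : G => a⁻¹ * g * a ∈ (P : Subgroup G) ∧ a⁻¹ * g * a ≠ 1), conj ((ψ : G → ℂ) g) =
      ∑ y ∈ Finset.univ.filter (fun y : G => y ∈ (P : Subgroup G) ∧ y ≠ 1),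
        conj ((ψ : G → ℂ) y) := fun a => by
    refine Finset.sum_nbij' (fun g => a⁻¹ * g * a) (fun y => a * y * a⁻¹)
      (fun g hg => by simpa using hg) (fun y hy => ?_) (fun g _ => by group) (fun y _ => by group)
      (fun g _ => ?_)
    · simp only [Finset.mem_filter, Finset.mem_univ, true_and] at hy ⊢
      rw [show a⁻¹ * (a * y * a⁻¹) * a = y by group]
      exact hy
    · have h := isClassFunction_irr ψ g a⁻¹
      rw [inv_inv] at h
      rw [h]
  rw [Finset.sum_congr rfl fun a _ => hconst a, Finset.sum_const, Finset.card_univ,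
    nsmul_eq_mul, mul_eq_zero, or_iff_right (Nat.cast_ne_zero.mpr Fintype.card_ne_zero)] at hcount
  have hP0 := congrArg conj hcount
  rw [map_sum, map_zero, Finset.sum_congr rfl fun y _ => Complex.conj_conj _] at hP0
  have hsumP : ∑ y ∈ Finset.univ.filter (fun y : G => y ∈ (P : Subgroup G)),
      (ψ : G → ℂ) y = (deg ψ : ℂ) := by
    rw [← Finset.add_sum_erase _ _ (a := (1 : G)) (by simp), apply_one_eq, add_eq_left]
    rw [← hP0]
    refine Finset.sum_congr ?_ fun _ _ => rfl
    ext y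
    simp [and_comm]
  obtain ⟨⟨x, hxP⟩, hx'⟩ := exists_prime_orderOf_dvd_card' (G := (P : Subgroup G)) p (by rw [hP])
  have hx : orderOf x = p := by simpa [Subgroup.orderOf_mk] using hx'
  have hint := FirstPowerData.isIntegral_avg hp.out ψ (x := x) (v := 1)
    (by rw [← hx, pow_orderOf_eq_one]) (by rw [orderOf_one]; simpa using hp.out.ne_one)
    (Commute.one_right x)
  have hrange : ∑ i ∈ Finset.range p, (ψ : G → ℂ) (x ^ i * 1) = (deg ψ : ℂ) := by
    rw [← hsumP]
    simp only [mul_one]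
    refine Finset.sum_bij (fun i _ => x ^ i) (fun i _ => by simpa using pow_mem hxP i)
      (fun i hi k hk hik => ?_) (fun y hy => ?_) (fun i _ => rfl)
    · exact pow_injOn_Iio_orderOf (by simpa [hx] using hi) (by simpa [hx] using hk) hik
    · have hy' : y ∈ (P : Subgroup G) := by simpa using hy
      rw [← PrimeExceptional.zpowers_eq P hP hxP fun h => by
        rw [h, orderOf_one] at hx; exact hp.out.ne_one hx.symm] at hy'
      rw [← mem_powers_iff_mem_zpowers] at hy'
      obtain ⟨i, rfl⟩ := hy'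
      exact ⟨i % p, Finset.mem_range.mpr (Nat.mod_lt _ hp.out.pos), by
        rw [← hx, pow_mod_orderOf]⟩
  rw [hrange] at hint
  exact FirstPowerData.int_dvd_of_isIntegral hp.out.ne_zero hint

end Degree

section Search

/-- The signed degrees congruent to one modulo `p` whose magnitude satisfies `ok`. -/
def signedL (g p : ℕ) (ok : ℕ → Bool) : List ℤ :=
  ((List.range (2 * Nat.sqrt g + 1)).map fun i : ℕ => (i : ℤ) - (Nat.sqrt g : ℤ)).filter fun c =>
    decide ((c - 1) % (p : ℤ) = 0) && decide (2 ≤ c.natAbs) && decide (g % c.natAbs = 0) &&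
      ok c.natAbs

/-- Sums and sums of squares of `k` members of `L`, the squares staying below `g`. -/
def reach (g : ℕ) (L : List ℤ) : ℕ → List (ℤ × ℤ)
  | 0 => [(0, 0)]
  | k + 1 => ((reach g L k).flatMap fun s =>
      (L.filter fun c => decide (s.2 + c * c < (g : ℤ))).map fun c =>
        (s.1 + c, s.2 + c * c)).eraseDups

/-- No signed degrees exist with a marked one satisfying `ok₁`, the others `ok`, the exceptional
one `ok'`. -/
def degGenBad (g p e : ℕ) (ok₁ ok ok' : ℕ → Bool) : Bool :=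
  let R := reach g (signedL g p ok) (e - 2)
  (signedL g p ok₁).all fun s => R.all fun r =>
    let T : ℤ := 1 + (s + r.1)
    decide (T.natAbs < 2) || decide (g % T.natAbs ≠ 0) || !(ok' T.natAbs) ||
      decide ((g : ℤ) < 1 + (s * s + r.2) + ((p - 1) / e : ℕ) * (T * T))

theorem mem_reach {α : Type*} [DecidableEq α] (g : ℕ) (L : List ℤ) (f : α → ℤ) (S : Finset α) :
    (∀ x ∈ S, f x ∈ L) → ∑ x ∈ S, f x * f x < (g : ℤ) →
      (∑ x ∈ S, f x, ∑ x ∈ S, f x * f x) ∈ reach g L S.card := by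
  induction S using Finset.induction with
  | empty => intro _ _; simp [reach]
  | insert a S ha ih =>
    intro hmem hlt
    rw [Finset.sum_insert ha] at hlt
    have h0 := mul_self_nonneg (f a)
    have hr := ih (fun x hx => hmem x (Finset.mem_insert_of_mem hx)) (by linarith)
    rw [Finset.card_insert_of_notMem ha]
    simp only [reach, List.mem_eraseDups, List.mem_flatMap, List.mem_map, List.mem_filter,
      decide_eq_true_eq]
    refine ⟨_, hr, f a, ⟨hmem a (Finset.mem_insert_self _ _), by simp only; linarith⟩, ?_⟩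
    rw [Finset.sum_insert ha, Finset.sum_insert ha, add_comm (f a), add_comm (f a * f a)]

variable {p : ℕ} [hp : Fact p.Prime] {P : Sylow p G} {e : ℕ}

/-- Soundness of the search. -/
theorem false_of_degGen (hperf : commutator G = ⊤) (hP : Nat.card (P : Subgroup G) = p)
    (D : FirstPowerData.Data P e) {g : ℕ} (h : Nat.card G = g) (ok₁ ok ok' : ℕ → Bool)
    {χ₀ : Cfsg.IrrCharacter G} (hχ₀ : χ₀ ∈ D.K) (h₁ : ok₁ (deg χ₀).natAbs = true)
    (hok : ∀ χ ∈ D.K, χ ≠ χ₀ → ok (deg χ).natAbs = true)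
    (hok' : ok' (deg D.θ).natAbs = true) (hbad : degGenBad g p e ok₁ ok ok' = true) : False := by
  classical
  set f : Cfsg.IrrCharacter G → ℤ := fun χ => D.a χ * deg χ with hf
  have hfacts := fun χ hχ => FirstPowerKills.signed_facts hperf hP D (χ := χ) hχ
  obtain ⟨hθd, hθ2, hθ3, hθ4⟩ := FirstPowerKills.theta_facts hperf D rfl
  have hsq := D.square_sum
  rw [Finset.sum_congr rfl fun χ hχ => (hfacts χ hχ).2.2.2.symm, hθ4, h] at hsq
  rw [h] at hθ3
  have hfam : D.fam.card = (p - 1) / e := by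
    have h1 := D.fam_card
    have he : 0 < e := by have := D.card_K; omega
    exact (Nat.div_eq_of_eq_mul_right he (by omega)).symm
  have hmemL : ∀ (ok : ℕ → Bool), ∀ χ ∈ D.K, ok (deg χ).natAbs = true →
      f χ ∈ signedL g p ok := by
    intro ok χ hχ hk
    obtain ⟨h1, h2, h3, h4⟩ := hfacts χ hχ
    rw [h] at h3
    have habs : (f χ).natAbs = (deg χ).natAbs := by
      rcases D.a_unit χ hχ with e' | e' <;> simp [hf, e']
    have hb : (f χ).natAbs ≤ Nat.sqrt g := by
      rw [Nat.le_sqrt]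
      have h1' : (((f χ).natAbs * (f χ).natAbs : ℕ) : ℤ) ≤ g := by
        push_cast
        rw [abs_mul_abs_self]
        have := Finset.single_le_sum (f := fun χ => (D.a χ * deg χ) ^ 2)
          (fun χ _ => sq_nonneg _) hχ
        have h5 : (0 : ℤ) ≤ (D.fam.card : ℤ) * (1 + ∑ χ ∈ D.K, D.a χ * deg χ) ^ 2 := by positivity
        simp only [← pow_two, hf] at this ⊢
        linarith
      exact_mod_cast h1'
    simp only [signedL, List.mem_filter, List.mem_map, List.mem_range, Bool.and_eq_true,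
      decide_eq_true_eq]
    refine ⟨⟨(f χ + Nat.sqrt g).toNat, by omega, by omega⟩,
      ⟨⟨Int.emod_eq_zero_of_dvd h1, h2⟩, Nat.mod_eq_zero_of_dvd h3⟩, by rw [habs]; exact hk⟩
  have hsplit1 := (Finset.add_sum_erase D.K f hχ₀).symm
  have hsplit2 := (Finset.add_sum_erase D.K (fun χ => f χ * f χ) hχ₀).symm
  have hsq' : 1 + ∑ χ ∈ D.K, f χ * f χ +
      ((p - 1) / e : ℕ) * (1 + ∑ χ ∈ D.K, f χ) ^ 2 ≤ (g : ℤ) := by
    rw [← hfam]
    simp only [hf, ← pow_two]
    exact hsq
  have h5 : (0 : ℤ) ≤ (((p - 1) / e : ℕ) : ℤ) * (1 + ∑ χ ∈ D.K, f χ) ^ 2 := by positivity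
  have hreach := mem_reach g (signedL g p ok) f (D.K.erase χ₀)
    (fun x hx => hmemL ok x (Finset.mem_of_mem_erase hx)
      (hok x (Finset.mem_of_mem_erase hx) (Finset.ne_of_mem_erase hx)))
    (by have h6 := mul_self_nonneg (f χ₀); linarith)
  rw [Finset.card_erase_of_mem hχ₀, show D.K.card - 1 = e - 2 by have := D.card_K; omega]
    at hreach
  simp only [degGenBad, List.all_eq_true, Bool.or_eq_true, decide_eq_true_eq,
    Bool.not_eq_true'] at hbad
  have hb := hbad (f χ₀) (hmemL ok₁ χ₀ hχ₀ h₁) _ hreach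
  simp only [← hsplit1] at hb
  rw [← hsplit2, ← pow_two (1 + ∑ χ ∈ D.K, f χ)] at hb
  have habsθ : (deg D.θ).natAbs = (1 + ∑ χ ∈ D.K, f χ).natAbs := by
    rw [hθd, Int.natAbs_natCast]
  rcases hb with ((hb | hb) | hb) | hb
  · simp only [hf] at hb; omega
  · exact hb (Nat.mod_eq_zero_of_dvd hθ3)
  · rw [habsθ] at hok'
    rw [hok'] at hb
    exact Bool.noConfusion hb
  · linarith

end Search

section Criterion

/-- The criterion `Order175560.deadCase` completed by the degree search. -/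
def deadCase (g p n e : ℕ) : Bool :=
  Order175560.deadCase g p n e ||
    (let ok : ℕ → Bool := fun k => decide (g / (n * e) = p) || decide (2 * p ≤ k)
     decide (2 ≤ e) && degGenBad g p e ok ok ok)

/-- The pairs `(n, e)` surviving the criterion. -/
def live (g p : ℕ) : List (ℕ × ℕ) :=
  (Order175560.pairs g p).filter fun ne => !(deadCase g p ne.1 ne.2)

variable [IsSimpleGroup G] (hG : ¬ IsMulCommutative G) {p : ℕ} [hp : Fact p.Prime]

include hG

/-- A Sylow subgroup of prime order has one of the surviving pairs, with its family. -/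
theorem exists_live {g : ℕ} (h : Nat.card G = g) (hp2 : p ≠ 2) (hgp : p ∣ g)
    (hm : (g / p) % p ≠ 0) (hm1 : g / p ≠ 1) :
    ∃ (P : Sylow p G) (n e c : ℕ), (n, e) ∈ live g p ∧ Nat.card (P : Subgroup G) = p ∧
      Nat.card (Sylow p G) = n ∧ c = g / (n * e) ∧
      Nat.card (Subgroup.centralizer ((P : Subgroup G) : Set G)) = c ∧
      Nonempty (FirstPowerData.Data P e) := by
  let P : Sylow p G := default
  obtain ⟨n, e, c, hmem, hP, hn, hn1, hc, hpc, hC, hN, hrel⟩ :=
    Order175560.exists_pair hG h hgp hm hm1 P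
  obtain ⟨D⟩ := FirstPowerData.exists_data P hP hrel
  refine ⟨P, n, e, c, List.mem_filter.mpr ⟨hmem, ?_⟩, hP, hn, hc, hC, ⟨D⟩⟩
  rw [Bool.not_eq_true', Bool.eq_false_iff]
  intro hbad
  simp only [deadCase, Bool.or_eq_true, Bool.and_eq_true, decide_eq_true_eq] at hbad
  rcases hbad with hb | ⟨he2, hb⟩
  · exact Order175560.deadCase_false hG h hp2 P hP hn hn1 hc hC hN hrel hb
  have hKne : D.K.Nonempty := Finset.card_pos.mp (by have := D.card_K; omega)
  obtain ⟨χ₀, hχ₀⟩ := hKne
  have hperf := SmallGroups.Sylow.commutator_eq_top hG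
  have hdeg : c ≠ p → (∀ χ ∈ D.K, 2 * p ≤ (deg χ).natAbs) ∧ 2 * p ≤ (deg D.θ).natAbs :=
    fun hne => two_mul_le_of_centralizer hG hP hC hne hpc (fun hd => hm (by
      rw [pow_two] at hd
      obtain ⟨k, hk⟩ := hd.trans (hC ▸ h ▸ Subgroup.card_subgroup_dvd_card _)
      rw [hk, mul_assoc, Nat.mul_div_cancel_left _ hp.out.pos]
      exact Nat.mul_mod_right _ _)) D
  by_cases hcp : c = p
  · refine false_of_degGen hperf hP D h _ _ _ hχ₀ ?_ (fun χ _ _ => ?_) ?_ hb <;>
      simp [← hc, hcp]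
  · obtain ⟨h1, h2⟩ := hdeg hcp
    refine false_of_degGen hperf hP D h _ _ _ hχ₀ ?_ (fun χ hχ _ => ?_) ?_ hb <;>
      simp only [Bool.or_eq_true, decide_eq_true_eq]
    · exact Or.inr (h1 _ hχ₀)
    · exact Or.inr (h1 χ hχ)
    · exact Or.inr h2

/-- No simple group has order `g` if no pair survives. -/
theorem false_of_live {g : ℕ} (h : Nat.card G = g) (hp2 : p ≠ 2) (hgp : p ∣ g)
    (hm : (g / p) % p ≠ 0) (hm1 : g / p ≠ 1) (hbad : (live g p).isEmpty = true) : False := by
  obtain ⟨P, n, e, c, hmem, -⟩ := exists_live hG h hp2 hgp hm hm1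
  rw [List.isEmpty_iff.mp hbad] at hmem
  exact (List.not_mem_nil hmem)

end Criterion

end Cfsg.Agent.Lib.Classif.PrimeDegrees
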