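import Mathlib

/-!
Integer vectors of norm `e + 1`, mutual inner product `e`, all with entry one at a fixed
coordinate, `e ∈ {2, 3}`: their supports have a common core.
-/

set_option autoImplicit false

namespace Cfsg.Agent.Lib.Classif.SunflowerSupports

variable {ι X : Type*} [Fintype ι] [Fintype X] [DecidableEq X]

/-- The support away from the distinguished coordinate. -/
def supp (a : ι → X → ℤ) (x₁ : X) (r : ι) : Finset X :=
  Finset.univ.filter fun x => x ≠ x₁ ∧ a r x ≠ 0

omit [Fintype ι] in
theorem mem_supp {a : ι → X → ℤ} {x₁ : X} {r : ι} {x : X} :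
    x ∈ supp a x₁ r ↔ x ≠ x₁ ∧ a r x ≠ 0 := by simp [supp]

variable [DecidableEq ι] (a : ι → X → ℤ) (x₁ : X) (e : ℕ)
  (hgram : ∀ r s, ∑ x, a r x * a s x = e + if r = s then 1 else 0)
  (h1 : ∀ r, a r x₁ = 1) (he : e ≤ 3)

include hgram h1

omit [Fintype ι] in
theorem sum_inter (r s : ι) :
    ∑ x ∈ supp a x₁ r ∩ supp a x₁ s, a r x * a s x = ((e : ℤ) + if r = s then 1 else 0) - 1 := by
  have h := hgram r s
  rw [← Finset.add_sum_erase _ _ (Finset.mem_univ x₁), h1, h1, mul_one] at h
  rw [show ∑ x ∈ supp a x₁ r ∩ supp a x₁ s, a r x * a s x =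
    ∑ x ∈ Finset.univ.erase x₁, a r x * a s x from Finset.sum_subset
      (fun x hx => by
        rw [Finset.mem_inter, mem_supp] at hx
        exact Finset.mem_erase.mpr ⟨hx.1.1, Finset.mem_univ x⟩)
      (fun x hx hn => by
        rw [Finset.mem_inter, mem_supp, mem_supp] at hn
        have := Finset.ne_of_mem_erase hx
        by_contra hc
        exact hn ⟨⟨this, left_ne_zero_of_mul hc⟩, this, right_ne_zero_of_mul hc⟩)]
  omega

include he

omit [Fintype ι] in
theorem unit_entries (r : ι) :
    (∀ x ∈ supp a x₁ r, a r x = 1 ∨ a r x = -1) ∧ (supp a x₁ r).card = e := by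
  have h := sum_inter a x₁ e hgram h1 r r
  rw [Finset.inter_self, if_pos rfl] at h
  have h1' : ∀ x ∈ supp a x₁ r, 1 ≤ a r x * a r x := by
    intro x hx
    rcases lt_or_gt_of_ne (mem_supp.mp hx).2 with h' | h' <;> nlinarith
  have hu : ∀ x ∈ supp a x₁ r, a r x = 1 ∨ a r x = -1 := by
    intro x hx
    have hle : a r x * a r x ≤ 3 := by
      have := Finset.single_le_sum (f := fun x => a r x * a r x)
        (fun y _ => mul_self_nonneg _) hx
      omega
    have : -1 ≤ a r x ∧ a r x ≤ 1 := ⟨by nlinarith, by nlinarith⟩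
    have := (mem_supp.mp hx).2
    omega
  refine ⟨hu, ?_⟩
  have : ∑ x ∈ supp a x₁ r, a r x * a r x = ((supp a x₁ r).card : ℤ) := by
    rw [Finset.sum_congr rfl fun x hx => show a r x * a r x = 1 by
      rcases hu x hx with h' | h' <;> rw [h'] <;> norm_num]
    exact (Finset.card_eq_sum_ones _).symm ▸ by simp
  omega

omit [Fintype ι] in
theorem pair {r s : ι} (hrs : r ≠ s) :
    (supp a x₁ r ∩ supp a x₁ s).card + 1 = e ∧
      ∀ x ∈ supp a x₁ r ∩ supp a x₁ s, a r x = a s x := by
  have h := sum_inter a x₁ e hgram h1 r s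
  rw [if_neg hrs, add_zero] at h
  set S := supp a x₁ r ∩ supp a x₁ s with hS
  have hunit : ∀ x ∈ S, a r x * a s x = 1 ∨ a r x * a s x = -1 := by
    intro x hx
    rw [hS, Finset.mem_inter] at hx
    rcases (unit_entries a x₁ e hgram h1 he r).1 x hx.1 with h' | h' <;>
      rcases (unit_entries a x₁ e hgram h1 he s).1 x hx.2 with h'' | h'' <;> simp [h', h'']
  have hle : S.card ≤ e :=
    (unit_entries a x₁ e hgram h1 he r).2 ▸ Finset.card_le_card Finset.inter_subset_left
  have hev : Even (∑ x ∈ S, (1 - a r x * a s x)) := Finset.even_sum _ fun x hx => by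
    rcases hunit x hx with h' | h' <;> rw [h'] <;> decide
  have hnn : ∀ x ∈ S, 0 ≤ 1 - a r x * a s x := fun x hx => by
    rcases hunit x hx with h' | h' <;> rw [h'] <;> norm_num
  have hsum : ∑ x ∈ S, (1 - a r x * a s x) = (S.card : ℤ) - ((e : ℤ) - 1) := by
    rw [Finset.sum_sub_distrib, h]; simp
  rw [hsum] at hev
  have h0 := Finset.sum_nonneg hnn
  rw [hsum] at h0
  obtain ⟨m, hm⟩ := hev
  have hcard : S.card + 1 = e := by omega
  refine ⟨hcard, fun x hx => ?_⟩
  have hz := (Finset.sum_eq_zero_iff_of_nonneg hnn).mp (by rw [hsum]; omega) x hx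
  rw [hS, Finset.mem_inter] at hx
  rcases (unit_entries a x₁ e hgram h1 he r).1 x hx.1 with h' | h' <;>
    rcases (unit_entries a x₁ e hgram h1 he s).1 x hx.2 with h'' | h'' <;> rw [h', h''] at hz ⊢ <;>
    omega

omit [Fintype ι] in
theorem supp_injective : Function.Injective (supp a x₁) := by
  intro r s h
  by_contra hrs
  have h' := (pair a x₁ e hgram h1 he hrs).1
  rw [h, Finset.inter_self, (unit_entries a x₁ e hgram h1 he s).2] at h'
  omega

/-- The common core. -/
theorem exists_core (d : X → ℤ) (hd1 : d x₁ = 1) (hdeg : ∀ r, ∑ x, a r x * d x = 0)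
    (ht : e = 2 ∨ e + 2 ≤ Fintype.card ι) (h2 : 1 < Fintype.card ι) :
    ∃ (K : Finset X) (σ : X → ℤ) (θ : ι → X) (ε : ι → ℤ),
      K.card + 1 = e ∧ x₁ ∉ K ∧ (∀ x ∈ K, σ x = 1 ∨ σ x = -1) ∧ (∀ r, ε r = 1 ∨ ε r = -1) ∧
      Function.Injective θ ∧ (∀ r, θ r ∉ K ∧ θ r ≠ x₁) ∧
      ∀ r x, a r x =
        if x = x₁ then 1 else if x ∈ K then σ x else if x = θ r then ε r else 0 := by
  classical
  obtain ⟨r₀, s₀, hrs⟩ := Fintype.one_lt_card_iff.mp h2
  set T := supp a x₁ with hT
  set K := T r₀ ∩ T s₀ with hK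
  have hpair : ∀ {r s : ι}, r ≠ s → (T r ∩ T s).card + 1 = e ∧
      ∀ x ∈ T r ∩ T s, a r x = a s x := fun h => pair a x₁ e hgram h1 he h
  have hKc : K.card + 1 = e := (hpair hrs).1
  have hTc : ∀ r, (T r).card = e := fun r => (unit_entries a x₁ e hgram h1 he r).2
  have hKu : ∀ u, K ⊆ T u := by
    intro u k hk
    by_contra hku
    have hur : u ≠ r₀ := fun h => hku (h ▸ (Finset.mem_inter.mp hk).1)
    have hus : u ≠ s₀ := fun h => hku (h ▸ (Finset.mem_inter.mp hk).2)
    set U := T r₀ ∪ T s₀ with hU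
    have hsub : ∀ w, w ≠ u → k ∈ T w → (T w).erase k ⊆ T u := by
      intro w hw hkw
      have hi : T u ∩ T w ⊆ (T w).erase k := fun x hx => Finset.mem_erase.mpr
        ⟨fun h => hku (h ▸ (Finset.mem_inter.mp hx).1), (Finset.mem_inter.mp hx).2⟩
      have hc := (hpair (Ne.symm hw)).1
      have := Finset.eq_of_subset_of_card_le hi (by
        rw [Finset.card_erase_of_mem hkw, hTc]; omega)
      rw [← this]
      exact Finset.inter_subset_left
    have hUu : U.erase k ⊆ T u := by
      intro x hx
      obtain ⟨hxk, hxU⟩ := Finset.mem_erase.mp hx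
      rcases Finset.mem_union.mp hxU with h | h
      · exact hsub r₀ hur.symm (Finset.mem_inter.mp hk).1 (Finset.mem_erase.mpr ⟨hxk, h⟩)
      · exact hsub s₀ hus.symm (Finset.mem_inter.mp hk).2 (Finset.mem_erase.mpr ⟨hxk, h⟩)
    have hUc : U.card = e + 1 := by
      have h' := Finset.card_union_add_card_inter (T r₀) (T s₀)
      rw [hTc, hTc] at h'
      change U.card + K.card = e + e at h'
      omega
    have hkU : k ∈ U := Finset.mem_union_left _ (Finset.mem_inter.mp hk).1
    have huU : T u = U.erase k := (Finset.eq_of_subset_of_card_le hUu (by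
      rw [Finset.card_erase_of_mem hkU, hUc, hTc]; omega)).symm
    rcases ht with he2 | hcount
    · -- two petals and a pair of equal signed degrees
      have hKk : K = {k} := Finset.eq_singleton_iff_unique_mem.mpr ⟨hk, fun x hx =>
        Finset.card_le_one.mp (by omega) x hx k hk⟩
      have hsum : ∀ w, ∑ x ∈ T w, a w x * d x = -1 := by
        intro w
        have h := hdeg w
        rw [← Finset.add_sum_erase _ _ (Finset.mem_univ x₁), h1, hd1, mul_one] at h
        rw [show ∑ x ∈ T w, a w x * d x = ∑ x ∈ Finset.univ.erase x₁, a w x * d x from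
          Finset.sum_subset (fun x hx => Finset.mem_erase.mpr
            ⟨(mem_supp.mp hx).1, Finset.mem_univ x⟩) (fun x hx hn => by
              have : a w x = 0 := by
                by_contra hc
                exact hn (mem_supp.mpr ⟨Finset.ne_of_mem_erase hx, hc⟩)
              rw [this, zero_mul])]
        omega
      obtain ⟨x, hx⟩ : ((T r₀).erase k).Nonempty := Finset.card_pos.mp (by
        rw [Finset.card_erase_of_mem (Finset.mem_inter.mp hk).1, hTc]; omega)
      obtain ⟨y, hy⟩ : ((T s₀).erase k).Nonempty := Finset.card_pos.mp (by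
        rw [Finset.card_erase_of_mem (Finset.mem_inter.mp hk).2, hTc]; omega)
      obtain ⟨hxk, hxr⟩ := Finset.mem_erase.mp hx
      obtain ⟨hyk, hys⟩ := Finset.mem_erase.mp hy
      have hxy : x ≠ y := by
        intro h
        have : x ∈ K := Finset.mem_inter.mpr ⟨hxr, h ▸ hys⟩
        rw [hKk, Finset.mem_singleton] at this
        exact hxk this
      have two : ∀ w z z', z ∈ T w → z' ∈ T w → z ≠ z' → T w = {z, z'} := by
        intro w z z' hz hz' hne
        refine (Finset.eq_of_subset_of_card_le (fun v hv => ?_) ?_).symm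
        · rcases Finset.mem_insert.mp hv with rfl | hv
          · exact hz
          · rw [Finset.mem_singleton.mp hv]; exact hz'
        · rw [Finset.card_pair hne, hTc, he2]
      have hxu : x ∈ T u := hsub r₀ hur.symm (Finset.mem_inter.mp hk).1 hx
      have hyu : y ∈ T u := hsub s₀ hus.symm (Finset.mem_inter.mp hk).2 hy
      have e1 := hsum r₀
      have e2 := hsum s₀
      have e3 := hsum u
      rw [two r₀ k x (Finset.mem_inter.mp hk).1 hxr (Ne.symm hxk), Finset.sum_pair (Ne.symm hxk)]
        at e1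
      rw [two s₀ k y (Finset.mem_inter.mp hk).2 hys (Ne.symm hyk), Finset.sum_pair (Ne.symm hyk)]
        at e2
      rw [two u x y hxu hyu hxy, Finset.sum_pair hxy,
        (hpair hur).2 x (Finset.mem_inter.mpr ⟨hxu, hxr⟩),
        (hpair hus).2 y (Finset.mem_inter.mpr ⟨hyu, hys⟩)] at e3
      rw [(hpair hrs).2 k hk] at e1
      omega
    · -- all supports lie in `U`
      have hall : ∀ v, T v ⊆ U := by
        intro v z hz
        by_contra hzU
        have hvr : v ≠ r₀ := fun h => hzU (Finset.mem_union_left _ (h ▸ hz))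
        have hvs : v ≠ s₀ := fun h => hzU (Finset.mem_union_right _ (h ▸ hz))
        have hvu : v ≠ u := fun h => hzU ((Finset.erase_subset k U) (huU ▸ h ▸ hz))
        have hall' : ∀ w, v ≠ w → T w ⊆ U → (T v).erase z ⊆ T w := by
          intro w hw hwU
          have hi : T v ∩ T w ⊆ (T v).erase z := fun x hx => Finset.mem_erase.mpr
            ⟨fun h => hzU (hwU (h ▸ (Finset.mem_inter.mp hx).2)), (Finset.mem_inter.mp hx).1⟩
          rw [← Finset.eq_of_subset_of_card_le hi (by
            rw [Finset.card_erase_of_mem hz, hTc]; have := (hpair hw).1; omega)]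
          exact Finset.inter_subset_right
        have h3 : (T v).erase z ⊆ K.erase k := by
          intro x hx
          refine Finset.mem_erase.mpr ⟨fun h => ?_, Finset.mem_inter.mpr
            ⟨hall' r₀ hvr Finset.subset_union_left hx, hall' s₀ hvs Finset.subset_union_right hx⟩⟩
          exact hku (h ▸ hall' u hvu (huU ▸ Finset.erase_subset k U) hx)
        have := Finset.card_le_card h3
        rw [Finset.card_erase_of_mem hz, Finset.card_erase_of_mem hk, hTc] at this
        have : 0 < K.card := Finset.card_pos.mpr ⟨k, hk⟩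
        omega
      have := Finset.card_le_card_of_injOn (s := (Finset.univ : Finset ι))
        (t := U.powersetCard e) T (fun v _ => Finset.mem_powersetCard.mpr ⟨hall v, hTc v⟩)
        (supp_injective a x₁ e hgram h1 he).injOn
      rw [Finset.card_powersetCard, hUc, Finset.card_univ, Nat.choose_succ_self_right] at this
      omega
  have hθ : ∀ r, ∃ x, T r \ K = {x} := fun r => Finset.card_eq_one.mp (by
    rw [Finset.card_sdiff_of_subset (hKu r), hTc]; omega)
  choose θ hθ using hθ
  have hθm : ∀ r, θ r ∈ T r ∧ θ r ∉ K := fun r => by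
    have : θ r ∈ T r \ K := by rw [hθ r]; exact Finset.mem_singleton_self _
    exact Finset.mem_sdiff.mp this
  refine ⟨K, a r₀, θ, fun r => a r (θ r), hKc, fun h => (mem_supp.mp (Finset.mem_inter.mp h).1).1 rfl,
    fun x hx => (unit_entries a x₁ e hgram h1 he r₀).1 x (Finset.mem_inter.mp hx).1,
    fun r => (unit_entries a x₁ e hgram h1 he r).1 _ (hθm r).1, ?_,
    fun r => ⟨(hθm r).2, (mem_supp.mp (hθm r).1).1⟩, ?_⟩
  · intro r s h
    apply supp_injective a x₁ e hgram h1 he
    show T r = T s
    rw [← Finset.union_sdiff_of_subset (hKu r), ← Finset.union_sdiff_of_subset (hKu s), hθ r, hθ s, h]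
  · intro r x
    split_ifs with hx hxK hxθ
    · subst hx; exact h1 r
    · by_cases hr : r = r₀
      · rw [hr]
      · exact (hpair hr).2 x (Finset.mem_inter.mpr ⟨hKu r hxK, hKu r₀ hxK⟩)
    · subst hxθ; rfl
    · by_contra hc
      have : x ∈ T r \ K := Finset.mem_sdiff.mpr ⟨mem_supp.mpr ⟨hx, hc⟩, hxK⟩
      rw [hθ r, Finset.mem_singleton] at this
      exact hxθ this

end Cfsg.Agent.Lib.Classif.SunflowerSupports
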